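import Mathlib.AlgebraicGeometry.Morphisms.Flat
import Mathlib.RingTheory.Flat.FaithfullyFlat.Descent
import Mathlib.AlgebraicGeometry.ResidueField
import Mathlib.AlgebraicGeometry.Fiber

/-!
# Constant global functions and base change of the fields

`bijective_iff` : for `F` quasi-compact quasi-separated over a field `k` and `K / k` a field extension,
`k ⟶ Γ(F)` is bijective iff `K ⟶ Γ(F_K)` is.
-/

set_option autoImplicit false
universe u
open CategoryTheory Limits AlgebraicGeometry

namespace K686.H0bc

theorem bijective_iff_of_isPushout {R A B D : CommRingCat.{u}} {a : R ⟶ A} {b : R ⟶ B}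
    {c : A ⟶ D} {d : B ⟶ D} (h : IsPushout a b c d) (ha : a.hom.FaithfullyFlat) :
    Function.Bijective c ↔ Function.Bijective b := by
  constructor
  · intro hc
    algebraize [a.hom, b.hom, c.hom, d.hom]
    let _ : Algebra R D := (c.hom.comp a.hom).toAlgebra
    have h1 : IsScalarTower R A D := IsScalarTower.of_algebraMap_eq' rfl
    have h2 : IsScalarTower R B D := IsScalarTower.of_algebraMap_eq' (by
      change c.hom.comp a.hom = d.hom.comp b.hom
      exact congrArg CommRingCat.Hom.hom h.w)
    have h3 : Algebra.IsPushout R A B D := CommRingCat.isPushout_iff_isPushout.mp h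
    have h4 : Algebra.IsPushout R B A D := h3.symm
    exact RingHom.FaithfullyFlat.codescendsAlong_bijective (R := R) (S := B) (R' := A) (S' := D)
      ha hc
  · intro hb
    have : IsIso b := (ConcreteCategory.isIso_iff_bijective b).mpr hb
    exact (ConcreteCategory.isIso_iff_bijective c).mp h.isIso_inl_of_isIso

theorem faithfullyFlat_of_field {k K : CommRingCat.{u}} (hk : IsField k) (hK : IsField K)
    (φ : k ⟶ K) : φ.hom.FaithfullyFlat := by
  let _ : Field k := hk.toField
  let _ : Field K := hK.toField
  algebraize [φ.hom]
  change Module.FaithfullyFlat k K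
  infer_instance

/-- constant global functions may be tested after an extension of the base field -/
theorem bijective_iff {F F' : Scheme.{u}} {k K : CommRingCat.{u}} (hk : IsField k)
    (hK : IsField K) (φ : k ⟶ K) {p : F ⟶ Spec k} {p' : F' ⟶ Spec K} {g : F' ⟶ F}
    (H : IsPullback g p' p (Spec.map φ)) [CompactSpace F] [QuasiSeparatedSpace F] :
    Function.Bijective p'.appTop ↔ Function.Bijective p.appTop := by
  have hff := faithfullyFlat_of_field hk hK φ
  have hfl : Flat (Spec.map φ) := Flat.SpecMap_iff.mpr hff.flat
  have h1 := isIso_pushoutSection_of_isQuasiSeparated_of_flat_right H (US := ⊤) (UT := ⊤)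
    (UX := ⊤) (UY := ⊤) le_top le_top (by simp) (isAffineOpen_top _) (isAffineOpen_top _)
    isCompact_univ isQuasiSeparated_univ
  rw [isIso_pushoutSection_iff] at h1
  have e : ∀ {X Y : Scheme.{u}} (f : X ⟶ Y), f.appLE ⊤ ⊤ le_top = f.appTop := fun f => by
    rw [Scheme.Hom.appTop, Scheme.Hom.app_eq_appLE]
    rfl
  have h2 : IsPushout (Spec.map φ).appTop p.appTop p'.appTop g.appTop := by
    rw [← e, ← e, ← e, ← e]
    exact h1.flip
  refine bijective_iff_of_isPushout h2 ?_
  have h3 : Flat (Spec.map φ) ∧ Surjective (Spec.map φ) :=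
    (flat_and_surjective_SpecMap_iff φ).mpr hff
  exact (Flat.flat_and_surjective_iff_faithfullyFlat_of_isAffine (Spec.map φ)).mp h3

/-- the condition on the fibres in terms of any field-valued point -/
theorem bijective_fibre_iff {X S : Scheme.{u}} (p : X ⟶ S) [QuasiCompact p] [QuasiSeparated p]
    {K : CommRingCat.{u}} (hK : IsField K) (x : Spec K ⟶ S) (s : S)
    (φ : S.residueField s ⟶ K) (hx : Spec.map φ ≫ S.fromSpecResidueField s = x) {F : Scheme.{u}}
    {g : F ⟶ X} {p' : F ⟶ Spec K} (H : IsPullback g p' p x) :
    Function.Bijective p'.appTop ↔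
      Function.Bijective (pullback.snd p (S.fromSpecResidueField s)).appTop := by
  subst hx
  have H2 := IsPullback.of_right' H (IsPullback.of_hasPullback p (S.fromSpecResidueField s))
  have h1 : CompactSpace ↑(pullback p (S.fromSpecResidueField s)) :=
    QuasiCompact.compactSpace_of_compactSpace (pullback.snd p (S.fromSpecResidueField s))
  have h2 : QuasiSeparatedSpace ↑(pullback p (S.fromSpecResidueField s)) :=
    quasiSeparatedSpace_of_quasiSeparated (pullback.snd p (S.fromSpecResidueField s))
  exact bijective_iff (Field.toIsField _) hK φ H2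

/-- stability of the condition on the fibres under base change -/
theorem bijective_baseChange {X S X' S' : Scheme.{u}} {p : X ⟶ S} [QuasiCompact p]
    [QuasiSeparated p] {p' : X' ⟶ S'} {g : S' ⟶ S} {g' : X' ⟶ X} (H : IsPullback g' p' p g)
    (h0 : ∀ s : S, Function.Bijective (pullback.snd p (S.fromSpecResidueField s)).appTop) (s' : S') :
    Function.Bijective (pullback.snd p' (S'.fromSpecResidueField s')).appTop := by
  have H1 := (IsPullback.of_hasPullback p' (S'.fromSpecResidueField s')).paste_horiz H
  exact (bijective_fibre_iff p (Field.toIsField _) _ (g s') (g.residueFieldMap s')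
    (Scheme.Hom.SpecMap_residueFieldMap_fromSpecResidueField g s') H1).mpr (h0 _)

end K686.H0bc
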