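import Groth.Prelude.Def_Red
import Groth.Agent.GIT.K686.H0bc
import Groth.Agent.Flat2B.SmoothGeom
import Groth.Agent.S2501
import Groth.Agent.S1536
import Groth.Agent.CurvesB.HZero

/-!
# Constant functions on the fibres of an abelian scheme
-/

set_option autoImplicit false
universe u
open CategoryTheory Limits AlgebraicGeometry

namespace K686.AbH0

/-- Global functions on a proper geometrically connected and reduced scheme over a field. -/
theorem bijective_appTop {L : Type u} [Field L] {F : Scheme.{u}}
    (p : F ⟶ Spec (CommRingCat.of L)) [IsProper p]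
    [GeometricallyConnected p] [GeometricallyReduced p] : Function.Bijective p.appTop := by
  let _ : F.Over (Spec (CommRingCat.of L)) := ⟨p⟩
  have hp : IsProper (F ↘ Spec (CommRingCat.of L)) := ‹IsProper p›
  have hc : GeometricallyConnected (F ↘ Spec (CommRingCat.of L)) := ‹GeometricallyConnected p›
  have hr : GeometricallyReduced (F ↘ Spec (CommRingCat.of L)) := ‹GeometricallyReduced p›
  have h0 := Groth.Agent.S1536.result L F
  have hnt := Groth.Agent.CurvesB.HZero.nontrivial_of_h0 L h0
  have h1 : Function.Bijective (Groth.Agent.CurvesB.HZero.gl L F) :=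
    ⟨RingHom.injective _, fun s => Groth.Agent.CurvesB.HZero.exists_const L h0 s⟩
  have h2 : (Groth.Agent.CurvesB.HZero.gl L F : L → Γ(F, ⊤)) =
      (p.appTop : Γ(Spec (CommRingCat.of L), ⊤) → Γ(F, ⊤)) ∘
        (Scheme.ΓSpecIso (CommRingCat.of L)).inv := rfl
  rw [h2] at h1
  have h3 : Function.Bijective ((Scheme.ΓSpecIso (CommRingCat.of L)).inv :
      L → Γ(Spec (CommRingCat.of L), ⊤)) :=
    ConcreteCategory.bijective_of_isIso _
  exact (Function.Bijective.of_comp_iff _ h3).1 h1

variable {S : Scheme.{u}} (X : Over S)

theorem bijective_fibre [Smooth X.hom] [IsProper X.hom]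
    (hc : ∀ s : S, ConnectedSpace (Red.geomFibre s X).left) (s : S) :
    Function.Bijective (pullback.snd X.hom (S.fromSpecResidueField s)).appTop := by
  have hpb : IsPullback (pullback.fst X.hom (Red.geomPt s)) (Red.geomFibre s X).hom X.hom
      (Red.geomPt s) := IsPullback.of_hasPullback _ _
  refine (H0bc.bijective_fibre_iff X.hom (K := CommRingCat.of
    (AlgebraicClosure (S.residueField s))) (Field.toIsField _) _ s
    (CommRingCat.ofHom (algebraMap (S.residueField s) (AlgebraicClosure (S.residueField s))))
    rfl hpb).mp ?_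
  have h1 : IsProper (Red.geomFibre s X).hom := MorphismProperty.of_isPullback hpb ‹_›
  have h2 : Smooth (Red.geomFibre s X).hom := MorphismProperty.of_isPullback hpb ‹_›
  have h3 : ConnectedSpace (Red.geomFibre s X).left := hc s
  have h4 : GeometricallyConnected (Red.geomFibre s X).hom := Groth.Agent.S2501.result _
  have h5 : GeometricallyReduced (Red.geomFibre s X).hom :=
    Groth.Agent.Flat2B.SmoothGeom.geometricallyReduced_of_smooth _
  exact bijective_appTop _

theorem isPreconnected_fibre (hc : ∀ s : S, ConnectedSpace (Red.geomFibre s X).left) (s : S) :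
    _root_.IsPreconnected (X.hom ⁻¹' {s}) := by
  have h3 : ConnectedSpace ↑(pullback X.hom (Red.geomPt s)) := hc s
  have h4 : Set.range (pullback.fst X.hom (Red.geomPt s)) = X.hom ⁻¹' {s} := by
    rw [Scheme.Pullback.range_fst]
    congr 1
    apply Set.Subset.antisymm
    · rintro _ ⟨z, rfl⟩
      rw [Scheme.Hom.comp_apply, Scheme.fromSpecResidueField_apply]
      rfl
    · rintro s' hs'
      obtain rfl : s' = s := hs'
      obtain ⟨z⟩ : Nonempty (Spec (CommRingCat.of (AlgebraicClosure (S.residueField s')))) :=
        inferInstance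
      refine ⟨z, ?_⟩
      rw [Scheme.Hom.comp_apply, Scheme.fromSpecResidueField_apply]
  rw [← h4]
  exact isPreconnected_range (pullback.fst X.hom (Red.geomPt s)).continuous

end K686.AbH0
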