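import Mathlib.AlgebraicGeometry.Pullbacks
import Mathlib.AlgebraicGeometry.PullbackCarrier
import Mathlib.AlgebraicGeometry.Morphisms.UnderlyingMap
import Mathlib.CategoryTheory.Monoidal.Cartesian.Over
import Mathlib.CategoryTheory.Limits.Constructions.Over.Connected

/-!
# Small lemmas on whiskers, pullbacks and images
-/

set_option autoImplicit false
universe v u
open CategoryTheory Limits MonoidalCategory CartesianMonoidalCategory AlgebraicGeometry

namespace K686.Whisk

section Cartesian

variable {C : Type u} [Category.{v} C] [CartesianMonoidalCategory C]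

theorem isPullback_whiskerRight {X Y : C} (f : X ⟶ Y) (Z : C) :
    IsPullback (f ▷ Z) (fst X Z) (fst Y Z) f where
  w := by simp
  isLimit' := ⟨PullbackCone.IsLimit.mk _ (fun s ↦ lift s.snd (s.fst ≫ snd Y Z))
    (fun s ↦ by
      have := s.condition
      apply CartesianMonoidalCategory.hom_ext
      · simp [this]
      · simp)
    (fun s ↦ by simp)
    (fun s m h1 h2 ↦ by
      apply CartesianMonoidalCategory.hom_ext
      · simp [← h2]
      · simp [← h1])⟩

theorem isPullback_whiskerLeft {X Y : C} (f : X ⟶ Y) (Z : C) :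
    IsPullback (Z ◁ f) (snd Z X) (snd Z Y) f where
  w := by simp
  isLimit' := ⟨PullbackCone.IsLimit.mk _ (fun s ↦ lift (s.fst ≫ fst Z Y) s.snd)
    (fun s ↦ by
      have := s.condition
      apply CartesianMonoidalCategory.hom_ext
      · simp
      · simp [this])
    (fun s ↦ by simp)
    (fun s m h1 h2 ↦ by
      apply CartesianMonoidalCategory.hom_ext
      · simp [← h1]
      · simp [← h2])⟩

/-- the graph of `f` is the pullback of the diagonal -/
theorem isPullback_graph {X Y : C} (f : X ⟶ Y) :
    IsPullback (lift f (𝟙 X)) f (Y ◁ f) (lift (𝟙 Y) (𝟙 Y)) where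
  w := by
    apply CartesianMonoidalCategory.hom_ext <;> simp
  isLimit' := ⟨PullbackCone.IsLimit.mk _ (fun s ↦ s.fst ≫ snd Y X)
    (fun s ↦ by
      have h1 := congrArg (fun k => k ≫ fst _ _) s.condition
      have h2 := congrArg (fun k => k ≫ snd _ _) s.condition
      simp only [Category.assoc, whiskerLeft_fst, lift_fst, Category.comp_id] at h1
      simp only [Category.assoc, whiskerLeft_snd, lift_snd, Category.comp_id] at h2
      apply CartesianMonoidalCategory.hom_ext
      · simp [h1, h2]
      · simp)
    (fun s ↦ by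
      have h2 := congrArg (fun k => k ≫ snd _ _) s.condition
      simp only [Category.assoc, whiskerLeft_snd, lift_snd, Category.comp_id] at h2
      simp [h2])
    (fun s m h1 h2 ↦ by
      simp [← h1])⟩

end Cartesian

section Scheme

variable {S : Scheme.{u}}

theorem isPullback_whiskerRight_left {X Y : Over S} (f : X ⟶ Y) (Z : Over S) :
    IsPullback (f ▷ Z).left (fst X Z).left (fst Y Z).left f.left :=
  (isPullback_whiskerRight f Z).map (Over.forget S)

theorem isPullback_whiskerLeft_left {X Y : Over S} (f : X ⟶ Y) (Z : Over S) :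
    IsPullback (Z ◁ f).left (snd Z X).left (snd Z Y).left f.left :=
  (isPullback_whiskerLeft f Z).map (Over.forget S)

theorem isPullback_graph_left {X Y : Over S} (f : X ⟶ Y) :
    IsPullback (lift f (𝟙 X)).left f.left (Y ◁ f).left (lift (𝟙 Y) (𝟙 Y)).left :=
  (isPullback_graph f).map (Over.forget S)

theorem range_of_isPullback {P X Y Z : Scheme.{u}} {p : P ⟶ X} {q : P ⟶ Y} {f : X ⟶ Z}
    {g : Y ⟶ Z} (h : IsPullback p q f g) : Set.range p = f ⁻¹' Set.range g := by
  apply Set.Subset.antisymm
  · rintro _ ⟨z, rfl⟩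
    exact ⟨q z, by rw [← Scheme.Hom.comp_apply, ← Scheme.Hom.comp_apply, h.w]⟩
  · rintro x ⟨y, hy⟩
    obtain ⟨z, hz, -⟩ := Scheme.Pullback.exists_preimage_pullback x y hy.symm
    refine ⟨h.isoPullback.inv z, ?_⟩
    rw [← Scheme.Hom.comp_apply, h.isoPullback_inv_fst, hz]

end Scheme

end K686.Whisk
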