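import Groth.Agent.GIT.K686.HaarOfInt
import Groth.Agent.Sga3B.AlgBc
import Groth.Prelude.Def_HopfRep

/-!
# The invariant integral on a connected reductive group in characteristic zero

`exists_haar` takes the theorem "reductive ⟹ linearly reductive" (S8082) as its hypothesis `hLR`.
-/

set_option autoImplicit false
universe u
open CategoryTheory MonoidalCategory CartesianMonoidalCategory MonObj AlgebraicGeometry Topology Limits

namespace K686.HaarRed

variable {k : Type u} [Field k]

theorem connectedSpace_of_isReductive {G : Over (Spec (CommRingCat.of k))} [GrpObj G] (hG : Red.IsReductive G) :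
    ConnectedSpace G.left := by
  let s : Spec (CommRingCat.of k) := IsLocalRing.closedPoint k
  have h1 : ConnectedSpace ↥(pullback G.hom (Red.geomPt s)) := (hG.2.2 s).2.2.1
  have h2 : Surjective (Red.geomPt s) := ⟨fun y => by
    have : Subsingleton ↥(Spec (CommRingCat.of k)) := inferInstanceAs (Subsingleton (PrimeSpectrum k))
    exact ⟨IsLocalRing.closedPoint _, Subsingleton.elim _ _⟩⟩
  have h3 : Surjective (pullback.fst G.hom (Red.geomPt s)) := inferInstance
  exact h3.surj.connectedSpace (pullback.fst G.hom (Red.geomPt s)).continuous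

theorem isAffine_of_isReductive {G : Over (Spec (CommRingCat.of k))} [GrpObj G] (hG : Red.IsReductive G) :
    IsAffine G.left := by
  have := hG.1
  exact isAffine_of_isAffineHom G.hom

/-- the Hopf algebra of a connected reductive group, if reductive groups are linearly reductive -/
theorem exists_hopf_lr
    (hLR : ∀ (A : Type u) [CommRing A] [HopfAlgebra k A] [Algebra.FiniteType k A]
      [ConnectedSpace ↥(Spec (CommRingCat.of A))],
      Red.IsReductive ((Spec (CommRingCat.of A)).asOver (Spec (CommRingCat.of k))) →
      HopfRep.IsLinearlyReductive k A)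
    {G : Over (Spec (CommRingCat.of k))} [GrpObj G] (hG : Red.IsReductive G) :
    ∃ (C : Type u) (_ : CommRing C) (_ : HopfAlgebra k C) (e : CoactBr.sp k C ≅ G), IsMonHom e.hom ∧
      Algebra.FiniteType k C ∧ HopfRep.IsLinearlyReductive k C := by
  have := isAffine_of_isReductive hG
  have := connectedSpace_of_isReductive hG
  obtain ⟨C, _, _, e, he⟩ := Groth.Agent.Sga3B.AffHopf.exists_hopf G
  have hs : Smooth G.hom := hG.2.1
  have h1 : Algebra.Smooth k C := Groth.Agent.Sga3B.AffHopf.smooth_of_iso e
  have h2 : Algebra.FiniteType k C := inferInstance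
  have h3 : ConnectedSpace ↥(Spec (CommRingCat.of C)) := by
    have h4 : Function.Surjective e.inv.left := by
      have : IsIso e.inv.left := inferInstance
      exact (Scheme.homeoOfIso (asIso e.inv.left)).surjective
    exact h4.connectedSpace e.inv.left.continuous
  have e' : Grp.mk G ≅ Grp.mk ((Spec (CommRingCat.of C)).asOver (Spec (CommRingCat.of k))) :=
    (Grp.mkIso' e).symm
  exact ⟨C, _, _, e, he, h2, hLR C (Groth.Agent.Sga3B.AlgBc.isReductive_of_iso e' hG)⟩

/-- linearly reductive groups have an invariant integral -/
theorem haar_of_lr {G : Over (Spec (CommRingCat.of k))} [GrpObj G] {C : Type u} [CommRing C] [HopfAlgebra k C]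
    (e : CoactBr.sp k C ≅ G) [IsMonHom e.hom] (h : HopfRep.IsLinearlyReductive k C) : Nonempty (Haar G) := by
  obtain ⟨α, hα, hα1⟩ := K191.Reductive.exists_isInt h
  exact ⟨HaarOfInt.haarOfInt e α hα1 hα⟩

/-- connected reductive groups have an invariant integral, if reductive groups are linearly reductive -/
theorem exists_haar
    (hLR : ∀ (A : Type u) [CommRing A] [HopfAlgebra k A] [Algebra.FiniteType k A]
      [ConnectedSpace ↥(Spec (CommRingCat.of A))],
      Red.IsReductive ((Spec (CommRingCat.of A)).asOver (Spec (CommRingCat.of k))) →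
      HopfRep.IsLinearlyReductive k A)
    {G : Over (Spec (CommRingCat.of k))} [GrpObj G] (hG : Red.IsReductive G) : Nonempty (Haar G) := by
  obtain ⟨C, _, _, e, _, _, h⟩ := exists_hopf_lr hLR hG
  exact haar_of_lr e h

end K686.HaarRed
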