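import Groth.Prelude.Def_W4bk4git07Quot
import Groth.Agent.GrpQ.H766.GeomQuot

/-!
# GIT quotients: comparison with the geometric quotients of a pair of morphisms

`GQ h` : a `GIT.IsGeomQuot` is a geometric quotient of the pair `(σ, p₂)` in the sense of
`Groth.Agent.GrpQ.H766.GeomQuotDef.IsGeomQuot`; so `φ` is a coequalizer in schemes
(`isCatQuot_of_isGeomQuot`).
-/

set_option autoImplicit false
universe u
open CategoryTheory MonoidalCategory CartesianMonoidalCategory MonObj AlgebraicGeometry Topology

namespace K686.Basic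

variable {S : Scheme.{u}} {G : Over S} [GrpObj G] {X Y : Over S} {a : AlgGrp.Action G X} {φ : X ⟶ Y}

/-- universally submersive morphisms are quotient maps -/
theorem isQuotientMap_of_isUnivSubmersive {X Y : Scheme.{u}} {f : X ⟶ Y}
    (h : GIT.IsUnivSubmersive f) : Topology.IsQuotientMap f :=
  MorphismProperty.universally_le _ _ h

/-- points of `X` in the same fibre of a geometric quotient are in the same orbit -/
theorem exists_orbit (h : GIT.IsGeomQuot a φ) (x y : X.left) (hxy : φ.left x = φ.left y) :
    ∃ r : (G ⊗ X).left, a.act.left r = x ∧ (snd G X).left r = y := by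
  obtain ⟨z, hz1, hz2⟩ := Scheme.Pullback.exists_preimage_pullback x y hxy
  obtain ⟨r, rfl⟩ := h.orbit z
  refine ⟨r, ?_, ?_⟩
  · rw [← hz1]
    rw [← Scheme.Hom.comp_apply, GIT.PsiY, Limits.pullback.lift_fst]
  · rw [← hz2]
    rw [← Scheme.Hom.comp_apply, GIT.PsiY, Limits.pullback.lift_snd]

/-- comparison of the two notions of geometric quotient -/
theorem GQ (h : GIT.IsGeomQuot a φ) :
    Groth.Agent.GrpQ.H766.GeomQuotDef.IsGeomQuot a.act.left (snd G X).left φ.left where
  w := h.inv.left.symm
  isQuotientMap := isQuotientMap_of_isUnivSubmersive h.subm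
  rel x y hxy := by
    obtain ⟨r, h1, h2⟩ := exists_orbit h y x hxy.symm
    exact ⟨r, h2, h1⟩
  inj W := (h.sections W).1
  sec W f hf := by
    have : f ∈ Set.range (φ.left.app W) := by
      rw [(h.sections W).2]
      exact hf
    exact this

/-- a geometric quotient is a categorical quotient -/
theorem isCatQuot_of_isGeomQuot (h : GIT.IsGeomQuot a φ) : GIT.IsCatQuot a φ := by
  refine ⟨h.inv, fun Z ψ hψ => ?_⟩
  obtain ⟨q, hq, huq⟩ := (GQ h).existsUnique_desc ψ.left hψ.left.symm
  have hqS : q ≫ Z.hom = Y.hom := by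
    apply (GQ h).hom_ext
    rw [← Category.assoc, hq, Over.w, Over.w]
  refine ⟨Over.homMk q hqS, ?_, ?_⟩
  · ext1
    exact hq
  · intro q' hq'
    ext1
    exact huq q'.left (by rw [← hq', Over.comp_left])

end K686.Basic
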