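import Groth.Agent.GIT.K686.Haar
import Groth.Agent.Magnet.K951.Pts
import Groth.Agent.Sga3.H219.Coact
import Groth.Agent.Books.BorelOrb
import Groth.Agent.InvQ.K701.PolyComod
import Groth.Agent.S3275

/-!
# The coaction on the functions of an affine scheme with an action; finite generation of invariants
-/

set_option autoImplicit false
universe u
open CategoryTheory MonoidalCategory CartesianMonoidalCategory MonObj AlgebraicGeometry Topology Limits
open scoped TensorProduct
open K951.Pts Groth.Agent.Books.BorelOrb Groth.Agent.Books.AffBridge Groth.Agent.Sga3.H219.Coact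

namespace K686.CoactOf

attribute [local instance] K951.Pts.algΓ

variable {k : Type u} [Field k] {G X : Over (Spec (CommRingCat.of k))} [GrpObj G] [IsAffine X.left]

/-- an affine scheme is the spectrum of its functions -/
theorem isIso_aff (X : Over (Spec (CommRingCat.of k))) [IsAffine X.left] : IsIso (aff X) := by
  have h : IsIso (aff X).left := by
    have h1 : (aff X).left = X.left.toSpecΓ ≫ Spec.map (CommRingCat.ofHom (RingHom.id Γ(X.left, ⊤))) := rfl
    rw [h1]
    have h2 : Spec.map (CommRingCat.ofHom (RingHom.id Γ(X.left, ⊤))) = 𝟙 _ := by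
      rw [CommRingCat.ofHom_id, Spec.map_id]
    rw [h2]
    exact inferInstanceAs (IsIso (X.left.toSpecΓ ≫ 𝟙 (Spec Γ(X.left, ⊤))))
  have h3 : IsIso ((Over.forget (Spec (CommRingCat.of k))).map (aff X)) := h
  exact isIso_of_reflects_iso (aff X) (Over.forget (Spec (CommRingCat.of k)))

/-- an affine scheme is the spectrum of its functions -/
noncomputable def ε (X : Over (Spec (CommRingCat.of k))) [IsAffine X.left] :
    SpecOver k Γ(X.left, ⊤) ≅ X :=
  (@asIso _ _ _ _ (aff X) (isIso_aff X)).symm

theorem ε_inv (X : Over (Spec (CommRingCat.of k))) [IsAffine X.left] : (ε X).inv = aff X := rfl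

variable (a : AlgGrp.Action G X) {C : Type u} [CommRing C] [HopfAlgebra k C] (e : SpecOver k C ≅ G)
  [IsMonHom e.hom]

/-- the right action `x · g = g⁻¹ x` -/
noncomputable def r : SpecOver k Γ(X.left, ⊤) ⊗ SpecOver k C ⟶ SpecOver k Γ(X.left, ⊤) :=
  sm a ((snd _ _ ≫ e.hom)⁻¹) (fst _ _ ≫ (ε X).hom) ≫ (ε X).inv

omit [IsMonHom e.hom] in
theorem lift_r {Y : Over (Spec (CommRingCat.of k))} (v : Y ⟶ SpecOver k Γ(X.left, ⊤)) (x : Y ⟶ SpecOver k C) :
    lift v x ≫ r a e = sm a ((x ≫ e.hom)⁻¹) (v ≫ (ε X).hom) ≫ (ε X).inv := by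
  rw [r, ← Category.assoc, comp_sm, GrpObj.comp_inv, ← Category.assoc, ← Category.assoc, lift_snd, lift_fst]

theorem hone (Y : Over (Spec (CommRingCat.of k))) (v : Y ⟶ SpecOver k Γ(X.left, ⊤)) :
    lift v (1 : Y ⟶ SpecOver k C) ≫ r a e = v := by
  rw [lift_r, MonObj.one_comp, inv_one, one_sm, Category.assoc, Iso.hom_inv_id, Category.comp_id]

theorem hmul (Y : Over (Spec (CommRingCat.of k))) (v : Y ⟶ SpecOver k Γ(X.left, ⊤)) (x y : Y ⟶ SpecOver k C) :
    lift (lift v x ≫ r a e) y ≫ r a e = lift v (x * y) ≫ r a e := by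
  rw [lift_r, lift_r, lift_r, Category.assoc, Iso.inv_hom_id, Category.comp_id, MonObj.mul_comp, mul_inv_rev,
    mul_sm]

omit [IsMonHom e.hom] in
theorem fn_lift_r {W : Over (Spec (CommRingCat.of k))} (v : W ⟶ SpecOver k Γ(X.left, ⊤)) (x : W ⟶ SpecOver k C) :
    fn (lift v x ≫ r a e) =
      (Algebra.TensorProduct.lift (fn v) (fn x) fun _ _ => .all _ _).comp (rho k (r a e)) := by
  have h1 : lift v x = aff W ≫ lift (specMap k (fn v)) (specMap k (fn x)) := by
    rw [comp_lift]
    congr 1
    · exact (aff_comp_pt v).symm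
    · exact (aff_comp_pt x).symm
  rw [h1, Category.assoc, lift_comp]
  have h2 := fn_comp_pt (aff W) ((Algebra.TensorProduct.lift (fn v) (fn x) fun _ _ => .all _ _).comp (rho k (r a e)))
  rw [fn_aff] at h2
  exact h2

omit [IsMonHom e.hom] in
/-- the invariants of the coaction are the invariant functions -/
theorem rho_eq_iff (f : Γ(X.left, ⊤)) : rho k (r a e) f = f ⊗ₜ[k] (1 : C) ↔ Haar.Inv a f := by
  constructor
  · intro h
    have h1 := congr($(fn_lift_r a e (W := G ⊗ X) (snd G X ≫ (ε X).inv) ((fst G X)⁻¹ ≫ e.inv)) f)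
    rw [AlgHom.comp_apply, h, Algebra.TensorProduct.lift_tmul, map_one, _root_.mul_one, lift_r, Category.assoc,
      Iso.inv_hom_id, Category.comp_id, Category.assoc, Iso.inv_hom_id, Category.comp_id, inv_inv, fn_comp,
      fn_comp, ε_inv, fn_aff, sm] at h1
    have h2 : lift (fst G X) (snd G X) = 𝟙 (G ⊗ X) := lift_fst_snd
    rw [h2, Category.id_comp] at h1
    exact h1
  · intro h
    let v : SpecOver k (Γ(X.left, ⊤) ⊗[k] C) ⟶ SpecOver k Γ(X.left, ⊤) :=
      specMap k Algebra.TensorProduct.includeLeft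
    let x : SpecOver k (Γ(X.left, ⊤) ⊗[k] C) ⟶ SpecOver k C := specMap k Algebra.TensorProduct.includeRight
    have h1 := fn_lift_r a e v x
    have h2 : fn (lift v x ≫ r a e) f = fn v f := by
      rw [lift_r, fn_comp, ε_inv, fn_aff, sm]
      change (lift _ _ ≫ a.act).left.appTop f = _
      rw [Haar.comp_appTop', h, ← Haar.comp_appTop', lift_snd]
      have h3 : fn v f = fn ((v ≫ (ε X).hom) ≫ (ε X).inv) f := by
        rw [Category.assoc, Iso.hom_inv_id, Category.comp_id]
      rw [h3, fn_comp, ε_inv, fn_aff]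
      rfl
    rw [h1, AlgHom.comp_apply] at h2
    let R := Γ(X.left, ⊤) ⊗[k] C
    have hinj : Function.Injective (Algebra.TensorProduct.lift (fn v) (fn x) fun _ _ => .all _ _) := by
      have e1 : fn v = (fn (𝟙 (SpecOver k R))).comp Algebra.TensorProduct.includeLeft := by
        have := fn_comp_pt (𝟙 (SpecOver k R)) (Algebra.TensorProduct.includeLeft : Γ(X.left, ⊤) →ₐ[k] R)
        rwa [Category.id_comp] at this
      have e2 : fn x = (fn (𝟙 (SpecOver k R))).comp Algebra.TensorProduct.includeRight := by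
        have := fn_comp_pt (𝟙 (SpecOver k R)) (Algebra.TensorProduct.includeRight : C →ₐ[k] R)
        rwa [Category.id_comp] at this
      have e3 : (Algebra.TensorProduct.lift (fn v) (fn x) fun _ _ => .all _ _) = fn (𝟙 (SpecOver k R)) := by
        apply Algebra.TensorProduct.ext
        · rw [Algebra.TensorProduct.lift_comp_includeLeft, e1]
        · rw [Algebra.TensorProduct.lift_comp_includeRight, e2]
          rfl
      rw [e3]
      have e4 := ConcreteCategory.bijective_of_isIso (Scheme.ΓSpecIso (CommRingCat.of R)).inv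
      have e5 : ∀ t, fn (𝟙 (SpecOver k R)) t = (Scheme.ΓSpecIso (CommRingCat.of R)).inv t := by
        intro t
        rw [fn_apply]
        change ((Scheme.ΓSpecIso (CommRingCat.of R)).inv ≫ Scheme.Hom.appTop (𝟙 (Spec (CommRingCat.of R)))) t = _
        rw [Scheme.Hom.id_appTop, Category.comp_id]
      intro s t hst
      rw [e5, e5] at hst
      exact e4.1 hst
    apply hinj
    rw [h2, Algebra.TensorProduct.lift_tmul, map_one, _root_.mul_one]

/-- generators of the invariants of a comodule algebra of finite type -/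
theorem exists_generators {A : Type u} [CommRing A] [HopfAlgebra k A] [Algebra.FiniteType k A]
    (hG : HopfRep.IsLinearlyReductive k A)
    (R : Type u) [CommRing R] [Algebra k R] [HopfRep.Comod k A R] [Algebra.FiniteType k R]
    (hmul : ∀ f g : R, HopfRep.Comod.coact (k := k) (A := A) (f * g) =
      HopfRep.Comod.coact (k := k) (A := A) f * HopfRep.Comod.coact (k := k) (A := A) g)
    (hone : HopfRep.Comod.coact (k := k) (A := A) (1 : R) = 1) :
    ∃ s : Finset R, (∀ f ∈ s, f ∈ HopfRep.fixedPts k A R) ∧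
      ∀ f ∈ HopfRep.fixedPts k A R, f ∈ Algebra.adjoin k (s : Set R) := by
  classical
  obtain ⟨n, m, hm, π, hπ, hhom⟩ := K701.PolyComod.exists_polyComod_surjective (A := A) hmul hone
  let := K701.PolyComod.polyComod hm
  obtain ⟨s, hs, hs'⟩ := Groth.Agent.S3275.result k A hG n
    (fun f g => by
      change K701.PolyComod.polyCoactAlg k m (f * g) = _
      rw [map_mul]
      rfl)
    (by
      change K701.PolyComod.polyCoactAlg k m 1 = _
      rw [map_one])
    (fun i => by
      change K701.PolyComod.polyCoactAlg k m (MvPolynomial.X i) ∈ _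
      rw [K701.PolyComod.polyCoactAlg_X]
      refine Submodule.sum_mem _ fun j _ => ?_
      exact ⟨(⟨MvPolynomial.X j, Submodule.subset_span ⟨j, rfl⟩⟩ :
        Submodule.span k (Set.range (MvPolynomial.X : Fin n → MvPolynomial (Fin n) k))) ⊗ₜ
          (⟨m j i, trivial⟩ : (⊤ : Submodule k A)), by simp [TensorProduct.mapIncl]⟩)
  refine ⟨s.image π, ?_, ?_⟩
  · intro f hf
    obtain ⟨g, hg, rfl⟩ := Finset.mem_image.1 hf
    exact Groth.Agent.Books.ComodInv.IsComodHom.map_mem_fixedPts hhom (hs g hg)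
  · intro f hf
    obtain ⟨g, hg⟩ := hπ f
    obtain ⟨g', hg', rfl⟩ := Groth.Agent.Books.ComodInv.exists_fixed_lift hG hhom hf hg
    have h1 := hs' g' hg'
    rw [Finset.coe_image, ← AlgHom.map_adjoin]
    exact ⟨g', h1, rfl⟩

include e in
/-- generators of the invariant functions -/
theorem exists_generators_inv [Algebra.FiniteType k C] (hG : HopfRep.IsLinearlyReductive k C)
    [Algebra.FiniteType k Γ(X.left, ⊤)] :
    ∃ s : Finset Γ(X.left, ⊤), (∀ f ∈ s, Haar.Inv a f) ∧
      ∀ f, Haar.Inv a f → f ∈ Algebra.adjoin k (s : Set Γ(X.left, ⊤)) := by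
  let := comod (r a e) (hone a e) (hmul a e)
  obtain ⟨s, hs, hs'⟩ := exists_generators hG Γ(X.left, ⊤) (fun f g => map_mul (rho k (r a e)) f g)
    (map_one (rho k (r a e)))
  exact ⟨s, fun f hf => (rho_eq_iff a e f).mp (hs f hf), fun f hf => hs' f ((rho_eq_iff a e f).mpr hf)⟩

end K686.CoactOf
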