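import Groth.Agent.GIT.K686.ArtinH0
import Groth.Agent.Etbase.SpreadOut
import Mathlib.AlgebraicGeometry.Morphisms.Separated
import Mathlib.AlgebraicGeometry.Noetherian
import Mathlib.RingTheory.Filtration
import Mathlib.AlgebraicGeometry.ResidueField

/-!
# Rigidity: the infinitesimal part

`exists_open_eq` : `p : X ⟶ S` flat with a section `e`, `q : Y ⟶ S` separated, `X`, `S` locally Noetherian,
`f : X ⟶ Y` over `S` collapsing the fibre over `s`, all functions on that fibre being constants; then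
`f = p ≫ e ≫ f` near every point of the fibre.
-/

set_option autoImplicit false
universe u
open CategoryTheory Limits AlgebraicGeometry TopologicalSpace

namespace K686.RigSec

theorem surjective_appTop_Spec {X X₀ : Scheme.{u}} {R K : CommRingCat.{u}} [IsArtinianRing R]
    [IsLocalRing R] (φ : R ⟶ K) (hφ : Function.Surjective φ)
    (hk : RingHom.ker φ.hom = IsLocalRing.maximalIdeal R) {v : X ⟶ Spec R} [Flat v]
    {j : X₀ ⟶ X} {v₀ : X₀ ⟶ Spec K} (H : IsPullback j v₀ v (Spec.map φ))
    (hs : Function.Surjective v₀.appTop) : Function.Surjective v.appTop := by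
  let e : Γ(Spec R, ⊤) ≃+* R := (Scheme.ΓSpecIso R).commRingCatIsoToRingEquiv
  have h1 : IsArtinianRing Γ(Spec R, ⊤) := e.symm.surjective.isArtinianRing
  have h2 : IsLocalRing Γ(Spec R, ⊤) := e.symm.isLocalRing
  have hn : (Spec.map φ).appTop = (Scheme.ΓSpecIso R).hom ≫ φ ≫ (Scheme.ΓSpecIso K).inv := by
    rw [← Scheme.ΓSpecIso_naturality_assoc, Iso.hom_inv_id, Category.comp_id]
  have hinj : Function.Injective (Scheme.ΓSpecIso K).inv :=
    ((ConcreteCategory.isIso_iff_bijective (Scheme.ΓSpecIso K).inv).mp inferInstance).1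
  have hsur : Function.Surjective (Scheme.ΓSpecIso K).inv :=
    ((ConcreteCategory.isIso_iff_bijective (Scheme.ΓSpecIso K).inv).mp inferInstance).2
  refine ArtinH0.surjective_appTop H ?_ ?_ hs
  · rw [hn]
    intro x
    obtain ⟨y, rfl⟩ := hsur x
    obtain ⟨z, rfl⟩ := hφ y
    obtain ⟨w, rfl⟩ := e.surjective z
    exact ⟨w, rfl⟩
  · rw [hn]
    have : RingHom.ker ((Scheme.ΓSpecIso R).hom ≫ φ ≫ (Scheme.ΓSpecIso K).inv).hom =
        (IsLocalRing.maximalIdeal R).comap e := by
      rw [← hk]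
      ext x
      rw [Ideal.mem_comap, RingHom.mem_ker, RingHom.mem_ker]
      change (Scheme.ΓSpecIso K).inv (φ (e x)) = 0 ↔ φ (e x) = 0
      exact map_eq_zero_iff _ hinj
    rw [this]
    have : ((IsLocalRing.maximalIdeal R).comap e).IsMaximal :=
      Ideal.comap_isMaximal_of_surjective e e.surjective
    exact IsLocalRing.eq_maximalIdeal this

/-- the truncations of a Noetherian local ring are Artinian local -/
theorem trunc (A : Type u) [CommRing A] [IsLocalRing A] [IsNoetherianRing A] (n : ℕ) :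
    ∃ (_ : IsLocalRing (A ⧸ IsLocalRing.maximalIdeal A ^ (n + 1))),
      IsArtinianRing (A ⧸ IsLocalRing.maximalIdeal A ^ (n + 1)) ∧
      IsLocalRing.maximalIdeal (A ⧸ IsLocalRing.maximalIdeal A ^ (n + 1)) =
        (IsLocalRing.maximalIdeal A).map (Ideal.Quotient.mk _) := by
  have hne : IsLocalRing.maximalIdeal A ^ (n + 1) ≠ ⊤ := fun h => by
    have := Ideal.pow_le_self (I := IsLocalRing.maximalIdeal A) (n := n + 1) (by omega)
    rw [h, top_le_iff] at this
    exact (IsLocalRing.maximalIdeal.isMaximal A).ne_top this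
  have h0 : Nontrivial (A ⧸ IsLocalRing.maximalIdeal A ^ (n + 1)) :=
    Ideal.Quotient.nontrivial_iff.mpr hne
  have h1 : IsLocalRing (A ⧸ IsLocalRing.maximalIdeal A ^ (n + 1)) :=
    IsLocalRing.of_surjective' (Ideal.Quotient.mk _) Ideal.Quotient.mk_surjective
  have h2 : IsLocalRing.maximalIdeal (A ⧸ IsLocalRing.maximalIdeal A ^ (n + 1)) =
      (IsLocalRing.maximalIdeal A).map (Ideal.Quotient.mk _) := by
    have : ((IsLocalRing.maximalIdeal A).map
        (Ideal.Quotient.mk (IsLocalRing.maximalIdeal A ^ (n + 1)))).IsMaximal := by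
      refine Ideal.IsMaximal.map_of_surjective_of_ker_le Ideal.Quotient.mk_surjective ?_
      rw [Ideal.mk_ker]
      exact Ideal.pow_le_self (by omega)
    exact (IsLocalRing.eq_maximalIdeal this).symm
  refine ⟨h1, ?_, h2⟩
  rw [isArtinianRing_iff_isNilpotent_maximalIdeal, h2]
  refine ⟨n + 1, ?_⟩
  rw [← Ideal.map_pow]
  exact (Ideal.map_eq_bot_iff_le_ker _).mpr (by rw [Ideal.mk_ker])

variable {S X Y : Scheme.{u}} {p : X ⟶ S} {q : Y ⟶ S} {f : X ⟶ Y} {e : S ⟶ X} {s : S}

/-- the `n`-th infinitesimal neighbourhood of `s` -/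
noncomputable def tn (S : Scheme.{u}) (s : S) (n : ℕ) :
    Spec (CommRingCat.of (S.presheaf.stalk s ⧸
      IsLocalRing.maximalIdeal (S.presheaf.stalk s) ^ (n + 1))) ⟶ S :=
  Spec.map (CommRingCat.ofHom (Ideal.Quotient.mk _)) ≫ S.fromSpecStalk s

/-- the residue field as a quotient of the truncated local ring -/
noncomputable def rn (S : Scheme.{u}) (s : S) (n : ℕ) :
    CommRingCat.of (S.presheaf.stalk s ⧸
      IsLocalRing.maximalIdeal (S.presheaf.stalk s) ^ (n + 1)) ⟶ S.residueField s :=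
  CommRingCat.ofHom (Ideal.Quotient.lift _ (S.residue s).hom fun a ha => by
    have h1 : a ∈ IsLocalRing.maximalIdeal (S.presheaf.stalk s) :=
      Ideal.pow_le_self (by omega) ha
    exact (IsLocalRing.residue_eq_zero_iff a).mpr h1)

theorem rn_comp (n : ℕ) : CommRingCat.ofHom (Ideal.Quotient.mk
    (IsLocalRing.maximalIdeal (S.presheaf.stalk s) ^ (n + 1))) ≫ rn S s n = S.residue s := by
  ext x
  rfl

theorem Spec_rn (n : ℕ) : Spec.map (rn S s n) ≫ tn S s n = S.fromSpecResidueField s := by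
  rw [tn, ← Spec.map_comp_assoc, rn_comp]
  rfl

theorem rn_surjective (n : ℕ) : Function.Surjective (rn S s n) := by
  intro x
  obtain ⟨y, rfl⟩ := S.residue_surjective s x
  exact ⟨Ideal.Quotient.mk _ y, rfl⟩

theorem ker_rn (n : ℕ) : RingHom.ker (rn S s n).hom =
    (IsLocalRing.maximalIdeal (S.presheaf.stalk s)).map (Ideal.Quotient.mk _) := by
  ext x
  obtain ⟨y, rfl⟩ := Ideal.Quotient.mk_surjective x
  rw [Ideal.mem_quotient_iff_mem (Ideal.pow_le_self (by omega)), RingHom.mem_ker]
  exact IsLocalRing.residue_eq_zero_iff y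

variable (f) in
/-- on the `n`-th infinitesimal neighbourhood of the fibre, `f` is constant -/
theorem eq_on_trunc [IsLocallyNoetherian S] [Flat p] (hep : e ≫ p = 𝟙 S)
    (h0 : Function.Surjective (pullback.snd p (S.fromSpecResidueField s)).appTop)
    (hs : ∀ x x' : X, p x = s → p x' = s → f x = f x') (n : ℕ) :
    pullback.fst p (tn S s n) ≫ f = pullback.fst p (tn S s n) ≫ p ≫ e ≫ f := by
  obtain ⟨h1, h2, h3⟩ := trunc (S.presheaf.stalk s) n
  let u := pullback.fst p (tn S s n)
  let v := pullback.snd p (tn S s n)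
  have hw : u ≫ p = v ≫ tn S s n := pullback.condition
  -- functions on the neighbourhood are constant
  have hv : Function.Surjective v.appTop := by
    have H1 : IsPullback (pullback.fst p (S.fromSpecResidueField s))
        (pullback.snd p (S.fromSpecResidueField s)) p (Spec.map (rn S s n) ≫ tn S s n) := by
      rw [Spec_rn]
      exact IsPullback.of_hasPullback _ _
    have H2 := IsPullback.of_right' H1 (IsPullback.of_hasPullback p (tn S s n))
    exact surjective_appTop_Spec (R := CommRingCat.of _) (rn S s n) (rn_surjective n)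
      ((ker_rn n).trans h3.symm) H2 h0
  -- the section over the neighbourhood
  let en : Spec (CommRingCat.of (S.presheaf.stalk s ⧸
      IsLocalRing.maximalIdeal (S.presheaf.stalk s) ^ (n + 1))) ⟶ pullback p (tn S s n) :=
    pullback.lift (tn S s n ≫ e) (𝟙 _) (by rw [Category.assoc, hep]; simp)
  have hen1 : en ≫ u = tn S s n ≫ e := pullback.lift_fst _ _ _
  have hen2 : en ≫ v = 𝟙 _ := pullback.lift_snd _ _ _
  have hid : (v ≫ en).appTop = 𝟙 _ := by
    ext c
    obtain ⟨a, rfl⟩ := hv c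
    rw [Scheme.Hom.comp_appTop, CommRingCat.comp_apply]
    have h4 : en.appTop (v.appTop a) = a := by
      rw [← CommRingCat.comp_apply, ← Scheme.Hom.comp_appTop, hen2]
      simp
    rw [h4]
    rfl
  -- set-theoretically everything lies over `s`
  have hpt : ∀ w, p (u w) = s := by
    intro w
    rw [← Scheme.Hom.comp_apply, hw, Scheme.Hom.comp_apply]
    have h5 : ∀ t, tn S s n t = s := by
      intro t
      rw [tn, Scheme.Hom.comp_apply]
      have h6 : Spec.map (CommRingCat.ofHom (Ideal.Quotient.mk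
          (IsLocalRing.maximalIdeal (S.presheaf.stalk s) ^ (n + 1)))) t =
          IsLocalRing.closedPoint (S.presheaf.stalk s) := by
        have h7 : t.asIdeal.IsPrime := t.isPrime
        have h8 : t.asIdeal.IsMaximal := Ideal.IsPrime.isMaximal' h7
        have h9 := IsLocalRing.eq_maximalIdeal h8
        apply PrimeSpectrum.ext
        change Ideal.comap (Ideal.Quotient.mk _) t.asIdeal = _
        rw [h9]
        have h10 : (Ideal.comap (Ideal.Quotient.mk
            (IsLocalRing.maximalIdeal (S.presheaf.stalk s) ^ (n + 1)))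
            (IsLocalRing.maximalIdeal _)).IsMaximal :=
          Ideal.comap_isMaximal_of_surjective _ Ideal.Quotient.mk_surjective
        exact IsLocalRing.eq_maximalIdeal h10
      rw [h6]
      exact Scheme.fromSpecStalk_closedPoint
    exact h5 _
  have hps : p (e s) = s := by
    rw [← Scheme.Hom.comp_apply, hep]
    rfl
  -- an affine neighbourhood of the image point
  obtain ⟨_, ⟨V : Y.Opens, hV, rfl⟩, hyV, -⟩ :=
    Y.isBasis_affineOpens.exists_subset_of_mem_open (Set.mem_univ (f (e s))) isOpen_univ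
  have hVaff : IsAffine (V : Scheme.{u}) := hV
  have hr : Set.range (u ≫ f) ⊆ Set.range V.ι := by
    rintro _ ⟨w, rfl⟩
    rw [Scheme.Opens.range_ι, Scheme.Hom.comp_apply, hs (u w) (e s) (hpt w) hps]
    exact hyV
  let h' : pullback p (tn S s n) ⟶ V := IsOpenImmersion.lift V.ι (u ≫ f) hr
  have hh' : h' ≫ V.ι = u ≫ f := IsOpenImmersion.lift_fac _ _ _
  have hkey : (v ≫ en) ≫ h' = h' := by
    apply ext_of_isAffine
    rw [Scheme.Hom.comp_appTop, hid, Category.comp_id]
  calc u ≫ f = h' ≫ V.ι := hh'.symm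
    _ = (v ≫ en) ≫ h' ≫ V.ι := by rw [← Category.assoc, hkey]
    _ = v ≫ (en ≫ u) ≫ f := by rw [hh']; simp only [Category.assoc]
    _ = (v ≫ tn S s n) ≫ e ≫ f := by rw [hen1]; simp only [Category.assoc]
    _ = u ≫ p ≫ e ≫ f := by rw [← hw, Category.assoc]

/-- two morphisms from the spectrum of a Noetherian local ring agreeing on all truncations -/
theorem eq_of_trunc (B : CommRingCat.{u}) [IsLocalRing B] [IsNoetherianRing B]
    (g₁ g₂ : Spec B ⟶ Y) (h : ∀ n : ℕ, Spec.map (CommRingCat.ofHom (Ideal.Quotient.mk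
      (IsLocalRing.maximalIdeal B ^ (n + 1)))) ≫ g₁ = Spec.map (CommRingCat.ofHom
        (Ideal.Quotient.mk (IsLocalRing.maximalIdeal B ^ (n + 1)))) ≫ g₂) : g₁ = g₂ := by
  have hcl : g₁ (IsLocalRing.closedPoint B) = g₂ (IsLocalRing.closedPoint B) := by
    obtain ⟨h1, -, h3⟩ := trunc B 0
    have h4 : Spec.map (CommRingCat.ofHom (Ideal.Quotient.mk
        (IsLocalRing.maximalIdeal B ^ (0 + 1)))) (IsLocalRing.closedPoint
          (B ⧸ IsLocalRing.maximalIdeal B ^ (0 + 1))) = IsLocalRing.closedPoint B := by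
      apply PrimeSpectrum.ext
      have h10 : (Ideal.comap (Ideal.Quotient.mk (IsLocalRing.maximalIdeal B ^ (0 + 1)))
          (IsLocalRing.maximalIdeal (B ⧸ IsLocalRing.maximalIdeal B ^ (0 + 1)))).IsMaximal :=
        Ideal.comap_isMaximal_of_surjective _ Ideal.Quotient.mk_surjective
      exact IsLocalRing.eq_maximalIdeal h10
    rw [← h4, ← Scheme.Hom.comp_apply, h 0, Scheme.Hom.comp_apply]
  obtain ⟨_, ⟨V : Y.Opens, hV, rfl⟩, hyV, -⟩ :=
    Y.isBasis_affineOpens.exists_subset_of_mem_open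
      (Set.mem_univ (g₁ (IsLocalRing.closedPoint B))) isOpen_univ
  have hVaff : IsAffine (V : Scheme.{u}) := hV
  have hr : ∀ g : Spec B ⟶ Y, g (IsLocalRing.closedPoint B) ∈ V → Set.range g ⊆ Set.range V.ι := by
    rintro g hg _ ⟨w, rfl⟩
    rw [Scheme.Opens.range_ι]
    have h1 : g w ⤳ g (IsLocalRing.closedPoint B) :=
      (IsLocalRing.specializes_closedPoint w).map g.continuous
    exact h1.mem_open V.isOpen hg
  let g₁' := IsOpenImmersion.lift V.ι g₁ (hr g₁ hyV)
  let g₂' := IsOpenImmersion.lift V.ι g₂ (hr g₂ (hcl ▸ hyV))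
  have e1 : g₁' ≫ V.ι = g₁ := IsOpenImmersion.lift_fac _ _ _
  have e2 : g₂' ≫ V.ι = g₂ := IsOpenImmersion.lift_fac _ _ _
  suffices g₁' = g₂' by rw [← e1, ← e2, this]
  apply ext_of_isAffine
  ext c
  have hI : ⨅ i : ℕ, IsLocalRing.maximalIdeal B ^ i = ⊥ :=
    Ideal.iInf_pow_eq_bot_of_isLocalRing _ (IsLocalRing.maximalIdeal.isMaximal B).ne_top
  let σ : Γ(Spec B, ⊤) ⟶ B := (Scheme.ΓSpecIso B).hom
  have hσ : Function.Injective σ :=
    ((ConcreteCategory.isIso_iff_bijective (Scheme.ΓSpecIso B).hom).mp inferInstance).1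
  apply hσ
  rw [← sub_eq_zero, ← Ideal.mem_bot, ← hI, Ideal.mem_iInf]
  intro n
  suffices h5 : σ (g₁'.appTop c) - σ (g₂'.appTop c) ∈ IsLocalRing.maximalIdeal B ^ (n + 1) from
    Ideal.pow_le_pow_right (by omega) h5
  have h6 : Spec.map (CommRingCat.ofHom (Ideal.Quotient.mk
      (IsLocalRing.maximalIdeal B ^ (n + 1)))) ≫ g₁' = Spec.map (CommRingCat.ofHom
        (Ideal.Quotient.mk (IsLocalRing.maximalIdeal B ^ (n + 1)))) ≫ g₂' := by
    rw [← cancel_mono V.ι, Category.assoc, Category.assoc, e1, e2, h n]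
  have h7 := congrArg (fun k => (Scheme.Hom.appTop k) c) h6
  simp only [Scheme.Hom.comp_appTop, CommRingCat.comp_apply] at h7
  rw [← Ideal.Quotient.eq]
  have h8 : ∀ b : Γ(Spec B, ⊤), Ideal.Quotient.mk (IsLocalRing.maximalIdeal B ^ (n + 1)) (σ b) =
      (Scheme.ΓSpecIso (CommRingCat.of (B ⧸ IsLocalRing.maximalIdeal B ^ (n + 1)))).hom
        ((Spec.map (CommRingCat.ofHom (Ideal.Quotient.mk
          (IsLocalRing.maximalIdeal B ^ (n + 1))))).appTop b) := by
    intro b
    exact congrArg (fun k : Γ(Spec B, ⊤) ⟶ CommRingCat.of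
      (B ⧸ IsLocalRing.maximalIdeal B ^ (n + 1)) => k b)
      (Scheme.ΓSpecIso_naturality (CommRingCat.ofHom (Ideal.Quotient.mk
      (IsLocalRing.maximalIdeal B ^ (n + 1))))).symm
  rw [h8, h8, h7]

/-- near every point of a collapsed fibre, `f = p ≫ e ≫ f` -/
theorem exists_open_eq [IsLocallyNoetherian S] [IsLocallyNoetherian X] [Flat p] [IsSeparated q]
    (hf : f ≫ q = p) (hep : e ≫ p = 𝟙 S)
    (h0 : Function.Surjective (pullback.snd p (S.fromSpecResidueField s)).appTop)
    (hs : ∀ x x' : X, p x = s → p x' = s → f x = f x') (x : X) (hx : p x = s) :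
    ∃ W : X.Opens, x ∈ W ∧ W.ι ≫ f = W.ι ≫ p ≫ e ≫ f := by
  subst hx
  have hloc : X.fromSpecStalk x ≫ f = X.fromSpecStalk x ≫ p ≫ e ≫ f := by
    apply eq_of_trunc
    intro n
    have hll : IsLocalHom (p.stalkMap x).hom := inferInstance
    have hlh : (IsLocalRing.maximalIdeal (S.presheaf.stalk (p x))).map (p.stalkMap x).hom ≤
        IsLocalRing.maximalIdeal (X.presheaf.stalk x) := by
      rw [Ideal.map_le_iff_le_comap]
      intro a ha
      rw [Ideal.mem_comap, IsLocalRing.mem_maximalIdeal, mem_nonunits_iff]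
      intro h
      exact (IsLocalRing.mem_maximalIdeal a).mp ha (hll.map_nonunit a h)
    let ℓ : CommRingCat.of (S.presheaf.stalk (p x) ⧸
        IsLocalRing.maximalIdeal (S.presheaf.stalk (p x)) ^ (n + 1)) ⟶
        CommRingCat.of (X.presheaf.stalk x ⧸
          IsLocalRing.maximalIdeal (X.presheaf.stalk x) ^ (n + 1)) :=
      CommRingCat.ofHom (Ideal.quotientMap _ (p.stalkMap x).hom (by
        rw [← Ideal.map_le_iff_le_comap, Ideal.map_pow]
        exact Ideal.pow_right_mono hlh _))
    have hℓ : Spec.map ℓ ≫ tn S (p x) n = Spec.map (CommRingCat.ofHom (Ideal.Quotient.mk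
        (IsLocalRing.maximalIdeal (X.presheaf.stalk x) ^ (n + 1)))) ≫ X.fromSpecStalk x ≫ p := by
      have h1 : CommRingCat.ofHom (Ideal.Quotient.mk
          (IsLocalRing.maximalIdeal (S.presheaf.stalk (p x)) ^ (n + 1))) ≫ ℓ =
          p.stalkMap x ≫ CommRingCat.ofHom (Ideal.Quotient.mk
            (IsLocalRing.maximalIdeal (X.presheaf.stalk x) ^ (n + 1))) := by
        ext a
        rfl
      rw [tn, ← Spec.map_comp_assoc, h1, Spec.map_comp_assoc, Scheme.SpecMap_stalkMap_fromSpecStalk]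
      rfl
    let m := pullback.lift (Spec.map (CommRingCat.ofHom (Ideal.Quotient.mk
        (IsLocalRing.maximalIdeal (X.presheaf.stalk x) ^ (n + 1)))) ≫ X.fromSpecStalk x)
        (Spec.map ℓ) (by rw [Category.assoc, hℓ])
    have hm : m ≫ pullback.fst p (tn S (p x) n) = Spec.map (CommRingCat.ofHom (Ideal.Quotient.mk
        (IsLocalRing.maximalIdeal (X.presheaf.stalk x) ^ (n + 1)))) ≫ X.fromSpecStalk x :=
      pullback.lift_fst _ _ _
    rw [← Category.assoc, ← hm, Category.assoc, eq_on_trunc f hep h0 hs n, ← Category.assoc, hm,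
      Category.assoc]
  -- the equalizer of `f` and `p ≫ e ≫ f`
  let Xo : Over S := Over.mk p
  let Yo : Over S := Over.mk q
  have hsep : IsSeparated Yo.hom := ‹IsSeparated q›
  let F : Xo ⟶ Yo := Over.homMk f hf
  let F' : Xo ⟶ Yo := Over.homMk (p ≫ e ≫ f) (by
    change (p ≫ e ≫ f) ≫ q = p
    rw [Category.assoc, Category.assoc, hf, hep, Category.comp_id])
  let ι := (equalizer.ι F F').left
  have hι : IsClosedImmersion ι := isClosedImmersion_equalizer_ι_left F F'
  have hιf : ι ≫ f = ι ≫ p ≫ e ≫ f := by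
    have := congrArg Over.Hom.left (equalizer.condition F F')
    rw [Over.comp_left, Over.comp_left] at this
    exact this
  let Z : Over S := Over.mk (X.fromSpecStalk x ≫ p)
  let z : Z ⟶ Xo := Over.homMk (X.fromSpecStalk x) rfl
  have hz : z ≫ F = z ≫ F' := by
    apply Over.OverMorphism.ext
    exact hloc
  let zl : Z ⟶ equalizer F F' := equalizer.lift z hz
  have hzl : zl.left ≫ ι = X.fromSpecStalk x ≫ 𝟙 X := by
    rw [← Over.comp_left, equalizer.lift_ι, Category.comp_id]
    rfl
  have hXo : IsLocallyNoetherian Xo.left := ‹IsLocallyNoetherian X›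
  have hfp : LocallyOfFinitePresentation ι :=
    LocallyOfFinitePresentation.iff_locallyOfFiniteType.mpr inferInstance
  obtain ⟨W, hxW, g, -, hg⟩ := Groth.Agent.Etbase.SpreadOut.spread_out' (sX := 𝟙 X) (sY := ι)
    (x := x) zl.left hzl
  rw [Category.comp_id] at hg
  refine ⟨W, hxW, ?_⟩
  rw [← hg, Category.assoc, hιf, Category.assoc]

end K686.RigSec
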