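import Groth.Agent.GIT.K686.Basic
import Mathlib.AlgebraicGeometry.Morphisms.ClosedImmersion
import Mathlib.AlgebraicGeometry.Morphisms.UnderlyingMap

/-!
# Orbits and fibres of a quotient map

`exists_lift_orbit` : two `T`-points of `X` with the same image in `Y` are, after a surjective base
change, in the same `G`-orbit.
`range_psi` : the orbit of a `T`-point `f` is the preimage in `X ⊗ T` of the image of the section
`(f ≫ φ, 1) : T ⟶ Y ⊗ T`.
-/

set_option autoImplicit false
universe u
open CategoryTheory MonoidalCategory CartesianMonoidalCategory MonObj AlgebraicGeometry Topology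

namespace K686.Orbit

variable {S : Scheme.{u}} {G : Over S} [GrpObj G] {X Y : Over S} {a : AlgGrp.Action G X} {φ : X ⟶ Y}

theorem PsiY_fst (hi : GIT.IsInvariant a φ) :
    GIT.PsiY a φ hi ≫ Limits.pullback.fst φ.left φ.left = a.act.left :=
  Limits.pullback.lift_fst _ _ _

theorem PsiY_snd (hi : GIT.IsInvariant a φ) :
    GIT.PsiY a φ hi ≫ Limits.pullback.snd φ.left φ.left = (snd G X).left :=
  Limits.pullback.lift_snd _ _ _

theorem exists_lift_orbit (hi : GIT.IsInvariant a φ)
    (ho : Function.Surjective (GIT.PsiY a φ hi).base) {T : Over S} (x₁ x₂ : T ⟶ X)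
    (h : x₁ ≫ φ = x₂ ≫ φ) :
    ∃ (T' : Over S) (p : T' ⟶ T) (g : T' ⟶ G), Surjective p.left ∧
      lift g (p ≫ x₂) ≫ a.act = p ≫ x₁ := by
  have h' : x₁.left ≫ φ.left = x₂.left ≫ φ.left := by
    rw [← Over.comp_left, h, Over.comp_left]
  let q : T.left ⟶ Limits.pullback φ.left φ.left := Limits.pullback.lift x₁.left x₂.left h'
  have : Surjective (GIT.PsiY a φ hi) := ⟨ho⟩
  let P := Limits.pullback (GIT.PsiY a φ hi) q
  let T' : Over S := Over.mk (Limits.pullback.snd (GIT.PsiY a φ hi) q ≫ T.hom)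
  let p : T' ⟶ T := Over.homMk (Limits.pullback.snd (GIT.PsiY a φ hi) q) rfl
  have hw := Limits.pullback.condition (f := GIT.PsiY a φ hi) (g := q)
  have h1 : Limits.pullback.fst (GIT.PsiY a φ hi) q ≫ a.act.left = p.left ≫ x₁.left := by
    rw [← PsiY_fst hi, ← Category.assoc, hw, Category.assoc, Limits.pullback.lift_fst]
    rfl
  have h2 : Limits.pullback.fst (GIT.PsiY a φ hi) q ≫ (snd G X).left = p.left ≫ x₂.left := by
    rw [← PsiY_snd hi, ← Category.assoc, hw, Category.assoc, Limits.pullback.lift_snd]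
    rfl
  let r : T' ⟶ G ⊗ X := Over.homMk (Limits.pullback.fst (GIT.PsiY a φ hi) q) (by
    rw [← Over.w (snd G X), ← Category.assoc, h2, Category.assoc, Over.w, Over.w])
  have hr2 : r ≫ snd G X = p ≫ x₂ := by
    ext1
    exact h2
  have hr1 : r ≫ a.act = p ≫ x₁ := by
    ext1
    exact h1
  refine ⟨T', p, r ≫ fst G X, inferInstanceAs (Surjective (Limits.pullback.snd _ _)), ?_⟩
  rw [← hr2, ← hr1]
  congr 1
  ext1 <;> simp

theorem psi_comp_whisker (hi : GIT.IsInvariant a φ) {T : Over S} (f : T ⟶ X) :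
    GIT.psi a f ≫ (φ ▷ T) = snd G T ≫ lift (f ≫ φ) (𝟙 T) := by
  have hi' : a.act ≫ φ = snd G X ≫ φ := hi
  ext1
  · simp [GIT.psi, hi']
  · simp [GIT.psi]

/-- The orbit of a `T`-point is a fibre of `φ ⊗ T`. -/
theorem range_psi (hi : GIT.IsInvariant a φ) (ho : Function.Surjective (GIT.PsiY a φ hi).base)
    {T : Over S} (f : T ⟶ X) :
    Set.range (GIT.psi a f).left = (φ ▷ T).left ⁻¹' Set.range (lift (f ≫ φ) (𝟙 T)).left := by
  apply Set.Subset.antisymm
  · rintro _ ⟨z, rfl⟩
    refine ⟨(snd G T).left z, ?_⟩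
    rw [← Scheme.Hom.comp_apply, ← Scheme.Hom.comp_apply, ← Over.comp_left, ← Over.comp_left,
      psi_comp_whisker hi]
  · rintro z ⟨t, ht⟩
    obtain ⟨w, hw1, hw2⟩ := Scheme.Pullback.exists_preimage_pullback z t ht.symm
    let T₁ : Over S := Over.mk (Limits.pullback.fst (φ ▷ T).left (lift (f ≫ φ) (𝟙 T)).left ≫
      (X ⊗ T).hom)
    let u₁ : T₁ ⟶ X ⊗ T := Over.homMk
      (Limits.pullback.fst (φ ▷ T).left (lift (f ≫ φ) (𝟙 T)).left) rfl
    have hc := Limits.pullback.condition (f := (φ ▷ T).left) (g := (lift (f ≫ φ) (𝟙 T)).left)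
    let u₂ : T₁ ⟶ T := Over.homMk
      (Limits.pullback.snd (φ ▷ T).left (lift (f ≫ φ) (𝟙 T)).left) (by
        rw [← Over.w (lift (f ≫ φ) (𝟙 T)), ← Category.assoc, ← hc, Category.assoc, Over.w]
        rfl)
    have hu : u₁ ≫ (φ ▷ T) = u₂ ≫ lift (f ≫ φ) (𝟙 T) := by
      apply Over.OverMorphism.ext
      exact hc
    have hua : u₁ ≫ snd X T = u₂ := by
      have := congrArg (fun k => k ≫ snd Y T) hu
      simpa using this
    have hub : (u₁ ≫ fst X T) ≫ φ = (u₂ ≫ f) ≫ φ := by
      have := congrArg (fun k => k ≫ fst Y T) hu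
      simpa using this
    obtain ⟨T₂, p, g, hp, hg⟩ := exists_lift_orbit hi ho _ _ hub
    obtain ⟨v, hv⟩ := hp.surj w
    refine ⟨(lift g (p ≫ u₂)).left v, ?_⟩
    have key : lift g (p ≫ u₂) ≫ GIT.psi a f = p ≫ u₁ := by
      ext1
      · rw [Category.assoc]
        simp only [GIT.psi, lift_fst, Category.assoc]
        rw [← Category.assoc, lift_whiskerLeft, Category.assoc, hg]
      · simp [GIT.psi, hua]
    rw [← Scheme.Hom.comp_apply, ← Over.comp_left, key, Over.comp_left, Scheme.Hom.comp_apply, hv]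
    exact hw1

/-- a section of a scheme over a one-point scheme has closed image -/
theorem isClosed_range_of_section {T Z : Scheme.{u}} [Subsingleton T] (q : Z ⟶ T) (e : T ⟶ Z)
    (h : e ≫ q = 𝟙 T) : IsClosed (Set.range e) := by
  have := isClosedImmersion_of_comp_eq_id q e h
  exact e.isClosedEmbedding.isClosed_range

theorem isClosedAction_of_orbit (hi : GIT.IsInvariant a φ)
    (ho : Function.Surjective (GIT.PsiY a φ hi).base) : GIT.IsClosedAction a := by
  intro Ω _ _ T e f
  have : Subsingleton T.left := by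
    have : Subsingleton (Spec (CommRingCat.of Ω)) := inferInstance
    exact (e.hom.homeomorph.toEquiv).subsingleton
  rw [range_psi hi ho f]
  refine (isClosed_range_of_section (snd Y T).left _ ?_).preimage (φ ▷ T).left.continuous
  rw [← Over.comp_left, lift_snd, Over.id_left]

end K686.Orbit
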