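import Groth.Prelude.Def_W4bk4git07Quot
import Mathlib.CategoryTheory.Limits.Constructions.Over.Connected

/-!
# The action induced on a base change
-/

set_option autoImplicit false
universe u
open CategoryTheory MonoidalCategory CartesianMonoidalCategory MonObj AlgebraicGeometry Topology Limits

namespace K686

variable {S : Scheme.{u}} {G : Over S} [GrpObj G]

section

variable {X' X Y' Y : Over S} {pr : X' ⟶ X} {φ' : X' ⟶ Y'} {φ : X ⟶ Y} {g : Y' ⟶ Y}

/-- a square over `S` which is a pullback of schemes is a pullback over `S` -/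
theorem isPullback_over (h : IsPullback pr.left φ'.left φ.left g.left) : IsPullback pr φ' φ g :=
  IsPullback.of_map_of_faithful (Over.forget S) h

theorem isPullback_left (h : IsPullback pr φ' φ g) : IsPullback pr.left φ'.left φ.left g.left :=
  h.map (Over.forget S)

/-- The action induced on a base change of `X ⟶ Y`. -/
noncomputable def bcAct (hp : IsPullback pr φ' φ g) (a : AlgGrp.Action G X) (h : GIT.IsInvariant a φ) :
    AlgGrp.Action G X' where
  act := hp.lift ((G ◁ pr) ≫ a.act) (snd G X' ≫ φ') (by
    rw [Category.assoc, h, Category.assoc, whiskerLeft_snd_assoc, hp.w])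
  one_act := by
    apply hp.hom_ext
    · rw [Category.assoc, hp.lift_fst, ← whisker_exchange_assoc, a.one_act, leftUnitor_naturality]
    · rw [Category.assoc, hp.lift_snd, whiskerRight_snd_assoc]
      rfl
  mul_act := by
    apply hp.hom_ext
    · simp only [Category.assoc, hp.lift_fst]
      rw [← whisker_exchange_assoc, a.mul_act]
      rw [← MonoidalCategory.whiskerLeft_comp_assoc, hp.lift_fst]
      simp
    · simp only [Category.assoc, hp.lift_snd]
      rw [whiskerRight_snd_assoc, whiskerLeft_snd_assoc, hp.lift_snd]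
      simp

variable (hp : IsPullback pr φ' φ g) (a : AlgGrp.Action G X) (h : GIT.IsInvariant a φ)

theorem bcAct_pr : (bcAct hp a h).act ≫ pr = (G ◁ pr) ≫ a.act := hp.lift_fst _ _ _

theorem bcAct_inv : GIT.IsInvariant (bcAct hp a h) φ' := hp.lift_snd _ _ _

end

section

variable {X Y : Over S} (φ : X ⟶ Y) (W : Y.left.Opens)

/-- an open subscheme of the base -/
noncomputable abbrev YW (Y : Over S) (W : Y.left.Opens) : Over S := Over.mk (W.ι ≫ Y.hom)

/-- the inclusion -/
noncomputable abbrev iW (Y : Over S) (W : Y.left.Opens) : YW Y W ⟶ Y := Over.homMk W.ι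

/-- the restriction to an open subscheme of the base -/
noncomputable abbrev φW : YW X (φ.left ⁻¹ᵁ W) ⟶ YW Y W := Over.homMk (φ.left ∣_ W) (by
  change φ.left ∣_ W ≫ W.ι ≫ Y.hom = (φ.left ⁻¹ᵁ W).ι ≫ X.hom
  rw [morphismRestrict_ι_assoc, Over.w])

theorem isPullback_W : IsPullback (iW X (φ.left ⁻¹ᵁ W)) (φW φ W) φ (iW Y W) :=
  isPullback_over (isPullback_morphismRestrict φ.left W).flip

end

end K686
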