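import Groth.Prelude.Def_W4bk4git07Quot
import Groth.Agent.NRQuot.K990.Orbit
import Groth.Agent.S4093
import Groth.Agent.S0086
import Groth.Agent.S0409
import Groth.Agent.GIT.K686.Whisk

/-!
# Properness of orbit maps
-/

set_option autoImplicit false
universe u
open CategoryTheory MonoidalCategory CartesianMonoidalCategory MonObj GrpObj AlgebraicGeometry Topology
open Groth.Agent.Books.BorelOrb K990.NRQuot

namespace K686.OrbProper

section General

/-- a morphism is proper if it is so near each point of a set meeting every nonempty closed set -/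
theorem isProper_of_local {X Y : Scheme.{u}} (f : X ⟶ Y)
    (h : ∀ y : Y, IsClosed ({y} : Set Y) → ∃ W : Y.Opens, y ∈ W ∧ IsProper (f ∣_ W)) [CompactSpace Y] :
    IsProper f := by
  let 𝒲 : Set Y.Opens := {W | IsProper (f ∣_ W)}
  have hsup : ⨆ W : 𝒲, W.1 = ⊤ := by
    rw [eq_top_iff]
    intro y _
    by_contra hy
    have hc : IsClosed (((⨆ W : 𝒲, W.1 : Y.Opens) : Set Y)ᶜ) := (⨆ W : 𝒲, W.1 : Y.Opens).2.isClosed_compl
    obtain ⟨z, hz, hz'⟩ := hc.exists_closed_singleton ⟨y, hy⟩
    obtain ⟨W, hzW, hW⟩ := h z hz'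
    apply hz
    exact TopologicalSpace.Opens.mem_iSup.mpr ⟨⟨W, hW⟩, hzW⟩
  rw [IsZariskiLocalAtTarget.iff_of_iSup_eq_top (P := @IsProper) (fun W : 𝒲 => W.1) hsup]
  exact fun W => W.2

theorem restrict_congr {X Y : Scheme.{u}} {f g : X ⟶ Y} (h : f = g) (W : Y.Opens) :
    IsProper (f ∣_ W) ↔ IsProper (g ∣_ W) := by
  subst h; rfl

theorem restrict_of_comm {X Y : Scheme.{u}} (f : X ⟶ Y) (L : X ⟶ X) (T : Y ⟶ Y) [IsIso L] [IsIso T]
    (h : L ≫ f = f ≫ T) (W : Y.Opens) (hW : IsProper (f ∣_ W)) : IsProper (f ∣_ (T ⁻¹ᵁ W)) := by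
  have h1 : IsProper ((L ≫ f) ∣_ W) := by
    rw [morphismRestrict_comp]
    have h2 : IsIso (L ∣_ (f ⁻¹ᵁ W)) := by
      rw [← MorphismProperty.isomorphisms.iff]
      exact IsZariskiLocalAtTarget.restrict (P := .isomorphisms Scheme.{u}) ‹IsIso L› _
    exact (MorphismProperty.cancel_left_of_respectsIso (P := @IsProper) (L ∣_ (f ⁻¹ᵁ W)) (f ∣_ W)).mpr hW
  rw [restrict_congr h, morphismRestrict_comp] at h1
  exact (MorphismProperty.cancel_right_of_respectsIso (P := @IsProper) (f ∣_ (T ⁻¹ᵁ W)) (T ∣_ W)).mp h1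

/-- a quasi-finite morphism with closed image is finite over a neighbourhood of some point of the image -/
theorem exists_restrict_isProper {Q X : Scheme.{u}} (i : Q ⟶ X) [LocallyQuasiFinite i] [LocallyOfFiniteType i]
    [QuasiCompact i] [Nonempty Q] (hc : IsClosed (Set.range i)) :
    ∃ W : X.Opens, IsProper (i ∣_ W) ∧ ∃ z ∈ W, z ∈ Set.range i := by
  have h1 : i.toImage ≫ i.imageι = i := i.toImage_imageι
  have h2 : LocallyQuasiFinite i.toImage := by
    have : LocallyQuasiFinite (i.toImage ≫ i.imageι) := by rwa [h1]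
    exact LocallyQuasiFinite.of_comp i.toImage i.imageι
  have h3 : LocallyOfFiniteType i.toImage := by
    have : LocallyOfFiniteType (i.toImage ≫ i.imageι) := by rwa [h1]
    exact locallyOfFiniteType_of_comp i.toImage i.imageι
  obtain ⟨U, hU, hfin⟩ := Groth.Agent.S0409.result i.toImage
  obtain ⟨W, hW⟩ : ∃ W : X.Opens, i.imageι ⁻¹ᵁ W = U := by
    obtain ⟨W, hW, hWU⟩ := i.imageι.isEmbedding.isInducing.isOpen_iff.mp U.2
    exact ⟨⟨W, hW⟩, TopologicalSpace.Opens.ext hWU⟩
  subst hW
  refine ⟨W, ?_, ?_⟩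
  · rw [← restrict_congr h1, morphismRestrict_comp]
    have h5 : IsFinite (i.imageι ∣_ W) := IsZariskiLocalAtTarget.restrict (P := @IsFinite) inferInstance _
    have h6 : IsFinite ((i.toImage ∣_ (i.imageι ⁻¹ᵁ W)) ≫ (i.imageι ∣_ W)) :=
      MorphismProperty.comp_mem @IsFinite _ _ hfin h5
    have h7 : IsProper ((i.toImage ∣_ (i.imageι ⁻¹ᵁ W)) ≫ (i.imageι ∣_ W)) := inferInstance
    exact h7
  · have : Nonempty i.image := ⟨i.toImage (Classical.arbitrary Q)⟩
    obtain ⟨u, hu⟩ := hU.nonempty
    refine ⟨i.imageι u, hu, ?_⟩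
    have h4 : DenseRange i.toImage := i.toImage.denseRange
    have h5 : i.imageι '' closure (Set.range i.toImage) ⊆ closure (i.imageι '' Set.range i.toImage) :=
      image_closure_subset_closure_image i.imageι.continuous
    have h6 : i.imageι '' Set.range i.toImage = Set.range i := by
      rw [← Set.range_comp, ← TopCat.coe_comp, ← Scheme.Hom.comp_base, h1]
    rw [h6, hc.closure_eq] at h5
    exact h5 ⟨u, h4 u, rfl⟩

end General

section Unit

variable {S : Scheme.{u}} {G X : Over S} [GrpObj G] (a : AlgGrp.Action G X) (x : 𝟙_ (Over S) ⟶ X)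

theorem psi_eq : GIT.psi a x = (ρ_ G).hom ≫ a.orbitMap x ≫ (ρ_ X).inv := by
  apply CartesianMonoidalCategory.hom_ext
  · have h1 : GIT.psi a x ≫ fst X (𝟙_ _) = (G ◁ x) ≫ a.act := lift_fst _ _
    have h2 : (ρ_ G).hom ≫ a.orbitMap x = sm a (ρ_ G).hom (toUnit _ ≫ x) := comp_orbitMap a _ x
    rw [h1, Category.assoc, Category.assoc, rightUnitor_inv_fst, Category.comp_id, h2, sm]
    congr 1
    apply CartesianMonoidalCategory.hom_ext
    · simp only [whiskerLeft_fst, lift_fst]
      exact (rightUnitor_hom G).symm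
    · simp only [whiskerLeft_snd, lift_snd]
      congr 1
      exact toUnit_unique _ _
  · exact toUnit_unique _ _

theorem lift_eq : lift x (𝟙 (𝟙_ (Over S))) = x ≫ (ρ_ X).inv := by
  apply CartesianMonoidalCategory.hom_ext
  · simp
  · exact toUnit_unique _ _

theorem isPullback_stab : IsPullback
    (Limits.pullback.fst (a.orbitMap x).left x.left ≫ (ρ_ G).inv.left)
    (Limits.pullback.snd (a.orbitMap x).left x.left) (GIT.psi a x).left (lift x (𝟙 (𝟙_ (Over S)))).left := by
  have h1 : IsPullback (Limits.pullback.fst (a.orbitMap x).left x.left)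
      (Limits.pullback.snd (a.orbitMap x).left x.left) (a.orbitMap x).left x.left := .of_hasPullback _ _
  refine IsPullback.of_iso h1 (Iso.refl _) ((Over.forget S).mapIso (ρ_ G).symm) (Iso.refl _)
    ((Over.forget S).mapIso (ρ_ X).symm) ?_ ?_ ?_ ?_
  · simp
  · simp
  · change (a.orbitMap x).left ≫ (ρ_ X).inv.left = (ρ_ G).inv.left ≫ (GIT.psi a x).left
    rw [← Over.comp_left, ← Over.comp_left, psi_eq, Iso.inv_hom_id_assoc]
  · change x.left ≫ (ρ_ X).inv.left = 𝟙 _ ≫ (lift x (𝟙 (𝟙_ (Over S)))).left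
    rw [Category.id_comp, lift_eq, Over.comp_left]

end Unit

section Main

variable {k : Type u} [Field k] [IsAlgClosed k] {G X : Over (Spec (CommRingCat.of k))} [GrpObj G]
  [LocallyOfFiniteType G.hom] [QuasiCompact G.hom] [LocallyOfFiniteType X.hom] [QuasiCompact X.hom]
  (a : AlgGrp.Action G X) (x : 𝟙_ (Over (Spec (CommRingCat.of k))) ⟶ X)

omit [LocallyOfFiniteType X.hom] [QuasiCompact X.hom] in
theorem exists_point (y : X.left) (hy : IsClosed ({y} : Set X.left)) (h : y ∈ Set.range (a.orbitMap x).left) :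
    ∃ g : 𝟙_ (Over (Spec (CommRingCat.of k))) ⟶ G, pt (sm a g x) = y := by
  have hc : CompactSpace G.left := QuasiCompact.compactSpace_of_compactSpace G.hom
  have h1 : IsClosed ((a.orbitMap x).left ⁻¹' {y}) := hy.preimage (a.orbitMap x).left.continuous
  obtain ⟨z, hz⟩ := h
  obtain ⟨g, hg, hg'⟩ := h1.exists_closed_singleton ⟨z, hz⟩
  obtain ⟨g, rfl⟩ := exists_pt g hg'
  refine ⟨g, ?_⟩
  rw [← section_orbitMap, pt_comp]
  exact hg

theorem isProper_orbitMap_of_open (hcl : IsClosed (Set.range (a.orbitMap x).left))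
    (W : X.left.Opens) (hW : IsProper ((a.orbitMap x).left ∣_ W)) (z : X.left) (hzW : z ∈ W)
    (hz : z ∈ Set.range (a.orbitMap x).left) : IsProper (a.orbitMap x).left := by
  have hX : CompactSpace X.left := QuasiCompact.compactSpace_of_compactSpace X.hom
  have hJ : JacobsonSpace X.left := LocallyOfFiniteType.jacobsonSpace X.hom
  obtain ⟨z₀, ⟨hz₀, hz₀W⟩, hz₀c⟩ := nonempty_inter_closedPoints
    (Z := Set.range (a.orbitMap x).left ∩ W) ⟨z, hz, hzW⟩ (hcl.isLocallyClosed.inter W.2.isLocallyClosed)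
  obtain ⟨g₀, hg₀⟩ := exists_point a x z₀ hz₀c hz₀
  apply isProper_of_local
  intro y hy
  by_cases hyr : y ∈ Set.range (a.orbitMap x).left
  · obtain ⟨g, hg⟩ := exists_point a x y hy hyr
    refine ⟨(tr a (g₀ * g⁻¹)).left ⁻¹ᵁ W, ?_, ?_⟩
    · change (tr a (g₀ * g⁻¹)).left y ∈ W
      rw [← hg, tr_pt, ← mul_sm, inv_mul_cancel_right, hg₀]
      exact hz₀W
    · have h1 : IsIso (tr (leftAct G) (g₀ * g⁻¹)) := (trIso (leftAct G) (g₀ * g⁻¹)).isIso_hom
      have h2 : IsIso (tr a (g₀ * g⁻¹)) := (trIso a (g₀ * g⁻¹)).isIso_hom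
      have h3 : IsIso (tr (leftAct G) (g₀ * g⁻¹)).left :=
        inferInstanceAs (IsIso ((Over.forget _).map (tr (leftAct G) (g₀ * g⁻¹))))
      have h4 : IsIso (tr a (g₀ * g⁻¹)).left :=
        inferInstanceAs (IsIso ((Over.forget _).map (tr a (g₀ * g⁻¹))))
      exact restrict_of_comm (a.orbitMap x).left (tr (leftAct G) (g₀ * g⁻¹)).left (tr a (g₀ * g⁻¹)).left
        (congrArg (fun t => t.left) (ltr_orbitMap a (g₀ * g⁻¹) x)) W hW
  · refine ⟨⟨(Set.range (a.orbitMap x).left)ᶜ, hcl.isOpen_compl⟩, hyr, ?_⟩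
    have : IsEmpty ((a.orbitMap x).left ⁻¹ᵁ
        (⟨(Set.range (a.orbitMap x).left)ᶜ, hcl.isOpen_compl⟩ : X.left.Opens)).toScheme :=
      ⟨fun t => t.2 ⟨t.1, rfl⟩⟩
    infer_instance

theorem isProper_orbitMap (hcl : IsClosed (Set.range (a.orbitMap x).left))
    (hst : IsProper (Limits.pullback.snd (a.orbitMap x).left x.left)) : IsProper (a.orbitMap x).left := by
  have hlfp : LocallyOfFinitePresentation G.hom := inferInstance
  have hH1 : IsPullback (Limits.pullback.fst (a.orbitMap x) x).left (Limits.pullback.snd (a.orbitMap x) x).left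
      (a.orbitMap x).left x.left := (IsPullback.of_hasPullback (a.orbitMap x) x).map (Over.forget _)
  have hH2 : IsProper (Limits.pullback.snd (a.orbitMap x) x).left := by
    rw [← hH1.isoPullback_hom_snd]
    exact (MorphismProperty.cancel_left_of_respectsIso (P := @IsProper) _ _).mpr hst
  have hH3 : IsProper (Limits.pullback (a.orbitMap x) x).hom := by
    rw [← Over.w (Limits.pullback.snd (a.orbitMap x) x)]
    have : IsIso (𝟙_ (Over (Spec (CommRingCat.of k)))).hom := inferInstanceAs (IsIso (𝟙 _))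
    exact (MorphismProperty.cancel_right_of_respectsIso (P := @IsProper) _ _).mpr hH2
  have hflat : Flat (Limits.pullback (a.orbitMap x) x).hom := inferInstance
  obtain ⟨Q, p, i, hpi, hps, hpf, hplfp, him, hQ, hsq⟩ := Groth.Agent.S4093.result _ G X a x hflat
  have hGc : CompactSpace G.left := QuasiCompact.compactSpace_of_compactSpace G.hom
  have hX : CompactSpace X.left := QuasiCompact.compactSpace_of_compactSpace X.hom
  have hQc : CompactSpace Q.left := hps.surj.compactSpace p.left.continuous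
  have hGn : IsLocallyNoetherian G.left := LocallyOfFiniteType.isLocallyNoetherian G.hom
  have hQn : IsLocallyNoetherian Q.left := LocallyOfFiniteType.isLocallyNoetherian Q.hom
  have hGn' : IsNoetherian G.left := {}
  have hQn' : IsNoetherian Q.left := {}
  have hp : IsProper p.left := by
    have h1 : IsPullback (fst G (Limits.pullback (a.orbitMap x) x)).left _ p.left p.left :=
      (hsq.map (Over.forget _)).flip
    have h2 : IsProper (fst G (Limits.pullback (a.orbitMap x) x)).left :=
      inferInstanceAs (IsProper (Limits.pullback.fst G.hom (Limits.pullback (a.orbitMap x) x).hom))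
    have := Groth.Agent.S0086.result
    exact MorphismProperty.of_isPullback_of_descendsAlong
      (P := @IsProper) (Q := @Surjective ⊓ @Flat ⊓ @QuasiCompact) h1 ⟨⟨hps, hpf⟩, inferInstance⟩ h2
  have hift : LocallyOfFiniteType i.left := by
    have : LocallyOfFiniteType (i.left ≫ X.hom) := by
      rw [Over.w]; infer_instance
    exact locallyOfFiniteType_of_comp i.left X.hom
  have himL : Mono i.left := inferInstance
  have hne : Nonempty Q.left := ⟨p.left (pt (1 : 𝟙_ (Over (Spec (CommRingCat.of k))) ⟶ G))⟩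
  have hcomp : p.left ≫ i.left = (a.orbitMap x).left := by rw [← Over.comp_left, hpi]
  have hrange : Set.range i.left = Set.range (a.orbitMap x).left := by
    rw [← hcomp, Scheme.Hom.comp_base, TopCat.coe_comp, Set.range_comp, Set.range_eq_univ.mpr hps.surj,
      Set.image_univ]
  obtain ⟨W, hW, z, hzW, hz⟩ := exists_restrict_isProper i.left (by rw [hrange]; exact hcl)
  refine isProper_orbitMap_of_open a x hcl W ?_ z hzW (by rw [← hrange]; exact hz)
  rw [← restrict_congr hcomp, morphismRestrict_comp]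
  exact MorphismProperty.comp_mem @IsProper (p.left ∣_ (i.left ⁻¹ᵁ W)) (i.left ∣_ W) inferInstance hW

/-- The orbit map is proper iff the orbit is closed and the stabilizer is proper. -/
theorem main : IsProper (GIT.psi a x).left ↔
      IsClosed (Set.range (GIT.psi a x).left.base) ∧
        IsProper (Limits.pullback.snd (GIT.psi a x).left (lift x (𝟙 (𝟙_ (Over (Spec (CommRingCat.of k)))))).left ≫
          (𝟙_ (Over (Spec (CommRingCat.of k)))).hom) := by
  have hiso : IsIso (𝟙_ (Over (Spec (CommRingCat.of k)))).hom := inferInstanceAs (IsIso (𝟙 _))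
  constructor
  · intro h
    refine ⟨(GIT.psi a x).left.isClosedMap.isClosed_range, ?_⟩
    exact (MorphismProperty.cancel_right_of_respectsIso (P := @IsProper) _ _).mpr inferInstance
  · rintro ⟨hcl, hst⟩
    have hst' := (MorphismProperty.cancel_right_of_respectsIso (P := @IsProper) _ _).mp hst
    have h1 : IsProper (Limits.pullback.snd (a.orbitMap x).left x.left) := by
      rw [← (isPullback_stab a x).isoPullback_hom_snd]
      exact (MorphismProperty.cancel_left_of_respectsIso (P := @IsProper) _ _).mpr hst'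
    have hpsi : (GIT.psi a x).left = (ρ_ G).hom.left ≫ (a.orbitMap x).left ≫ (ρ_ X).inv.left := by
      rw [psi_eq, Over.comp_left, Over.comp_left]
    have hi1 : IsIso (ρ_ G).hom.left := inferInstance
    have hi2 : IsIso (ρ_ X).inv.left := inferInstance
    have h2 : IsClosed (Set.range (a.orbitMap x).left) := by
      have h3 : Set.range (a.orbitMap x).left = (ρ_ X).inv.left ⁻¹' Set.range (GIT.psi a x).left := by
        have e1 : Function.Bijective (ρ_ X).inv.left := (Scheme.homeoOfIso (asIso (ρ_ X).inv.left)).bijective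
        have e2 : Function.Surjective (ρ_ G).hom.left := (Scheme.homeoOfIso (asIso (ρ_ G).hom.left)).surjective
        ext y
        constructor
        · rintro ⟨g, rfl⟩
          obtain ⟨g', rfl⟩ := e2 g
          refine ⟨g', ?_⟩
          rw [hpsi, Scheme.Hom.comp_apply, Scheme.Hom.comp_apply]
        · rintro ⟨g', hg'⟩
          rw [hpsi, Scheme.Hom.comp_apply, Scheme.Hom.comp_apply] at hg'
          exact ⟨_, e1.1 hg'⟩
      rw [h3]
      exact hcl.preimage (ρ_ X).inv.left.continuous
    have h4 := isProper_orbitMap a x h2 h1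
    rw [hpsi]
    exact (MorphismProperty.cancel_left_of_respectsIso (P := @IsProper) _ _).mpr
      ((MorphismProperty.cancel_right_of_respectsIso (P := @IsProper) _ _).mpr h4)

end Main

end K686.OrbProper
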