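import Groth.Agent.GIT.K686.EtSlice
import Groth.Agent.AlgSp.K597.EffDesc
import Groth.Agent.S0593

/-!
# Quotients by proper actions of affine groups are affine
-/

set_option autoImplicit false
universe u
open CategoryTheory MonoidalCategory CartesianMonoidalCategory MonObj AlgebraicGeometry Topology Limits

namespace K686.AffQ

variable {k : Type u} [Field k] {G X Y : Over (Spec (CommRingCat.of k))} [GrpObj G]
  [LocallyOfFiniteType G.hom] [QuasiCompact G.hom]
  [LocallyOfFiniteType X.hom] [QuasiCompact X.hom]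
  [QuasiCompact Y.hom] [IsSeparated Y.hom]

/-- to check a property of the quotient morphism it suffices to check it if there is a finite flat slice -/
theorem of_slices (P : MorphismProperty Scheme.{u}) [IsZariskiLocalAtTarget P]
    [P.DescendsAlong K597.EffDesc.Fppf.{u}] (a : AlgGrp.Action G X) (hp : IsProper (GIT.psi a (𝟙 X)).left)
    (hj : LocallyQuasiFinite (GIT.psi a (𝟙 X)).left) (φ : X ⟶ Y) (h : GIT.IsGeomQuot a φ)
    (H : ∀ (X' N : Over (Spec (CommRingCat.of k))) (pr : X' ⟶ X) (φ' : X' ⟶ N) (g : N ⟶ Y)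
      (_ : IsPullback pr φ' φ g) (a' : AlgGrp.Action G X') (_ : a'.act ≫ pr = (G ◁ pr) ≫ a.act)
      (_ : GIT.IsInvariant a' φ') (Z : Over (Spec (CommRingCat.of k))) (u : Z ⟶ X'), IsAffine N.left →
      Etale g.left → IsAffine Z.left → LocallyOfFiniteType u.left → Flat (OrbS.orb a' u).left →
      IsFinite (OrbS.orb a' u).left → Surjective (OrbS.orb a' u).left → P φ'.left) : P φ.left := by
  have hYc : CompactSpace Y.left := QuasiCompact.compactSpace_of_compactSpace Y.hom
  refine K597.EffDesc.prop_of_etale_local P φ.left fun y => ?_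
  obtain ⟨y₀, hy₀, hc⟩ := (isClosed_closure (s := {y})).exists_closed_singleton ⟨y, subset_closure rfl⟩
  obtain ⟨N, g, hg, hN, hyr, hs⟩ := EtSlice.exists_etale_slice a hp hj φ h y₀ hc
  have hyr' : y ∈ Set.range g.left := by
    have h1 : y ⤳ y₀ := specializes_iff_mem_closure.mpr hy₀
    exact h1.mem_open g.left.isOpenMap.isOpen_range hyr
  let X' : Over (Spec (CommRingCat.of k)) := Over.mk (pullback.fst φ.left g.left ≫ X.hom)
  let pr : X' ⟶ X := Over.homMk (pullback.fst φ.left g.left) rfl
  let φ' : X' ⟶ N := Over.homMk (pullback.snd φ.left g.left) (by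
    change pullback.snd φ.left g.left ≫ N.hom = pullback.fst φ.left g.left ≫ X.hom
    rw [← Over.w g, ← pullback.condition_assoc, Over.w])
  have hX : IsPullback pr φ' φ g := isPullback_over (IsPullback.of_hasPullback φ.left g.left)
  obtain ⟨Z, u, hZ, hu, h1, h2, h3⟩ := hs X' pr φ' hX (bcAct hX a h.inv) (bcAct_pr _ _ _) (bcAct_inv _ _ _)
  exact ⟨N.left, g.left, X'.left, pr.left, φ'.left, hg, hyr', isPullback_left hX,
    H X' N pr φ' g hX (bcAct hX a h.inv) (bcAct_pr _ _ _) (bcAct_inv _ _ _) Z u hN hg hZ hu h1 h2 h3⟩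

/-- Quotients by proper actions of affine groups are affine. -/
theorem main [IsAffine G.left] [IsSeparated X.hom] (a : AlgGrp.Action G X)
    (hp : IsProper (GIT.psi a (𝟙 X)).left) (φ : X ⟶ Y) (h : GIT.IsGeomQuot a φ) : IsAffineHom φ.left := by
  have hG : IsAffineHom G.hom := inferInstance
  have haff : IsAffineHom (GIT.psi a (𝟙 X)).left := by
    have h1 : IsAffineHom ((GIT.psi a (𝟙 X)).left ≫ (snd X X).left) := by
      have : GIT.psi a (𝟙 X) ≫ snd X X = snd G X := by rw [GIT.psi, lift_snd]
      rw [← Over.comp_left, this]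
      exact MorphismProperty.pullback_snd (P := @IsAffineHom) G.hom X.hom hG
    have h2 : IsSeparated (snd X X).left := inferInstanceAs (IsSeparated (pullback.snd X.hom X.hom))
    exact IsAffineHom.of_comp _ (snd X X).left
  have hfin : IsFinite (GIT.psi a (𝟙 X)).left := (IsFinite.iff_isProper_and_isAffineHom).mpr ⟨hp, haff⟩
  have hd := K597.EffDesc.descendsAlong_isAffineHom.{u}
  have hqc : QuasiCompact φ.left := K957.Bundle.quasiCompact_left φ
  have hsep : IsSeparated φ.left := K957.Bundle.isSeparated_left φ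
  refine of_slices @IsAffineHom a hp inferInstance φ h ?_
  intro X' N pr φ' g hX a' ha' hi' Z u hN hg hZ hu h1 h2 h3
  have hGZ : IsAffine (G ⊗ Z).left := inferInstanceAs (IsAffine (pullback G.hom Z.hom))
  have hqc' : QuasiCompact φ'.left := MorphismProperty.of_isPullback (isPullback_left hX) hqc
  have hsep' : IsSeparated φ'.left := MorphismProperty.of_isPullback (isPullback_left hX) hsep
  have hc : CompactSpace X'.left := QuasiCompact.compactSpace_of_compactSpace φ'.left
  have hqs : QuasiSeparatedSpace X'.left := quasiSeparatedSpace_of_quasiSeparated φ'.left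
  have hX' : IsAffine X'.left := Groth.Agent.S0593.isAffine_of_isFinite (OrbS.orb a' u).left
  infer_instance

end K686.AffQ
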