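import Mathlib.RingTheory.Spectrum.Prime.Topology
import Mathlib.RingTheory.Ideal.Maps
import Mathlib.RingTheory.Noetherian.Basic

/-!
# Ring maps with a linear retraction
-/

set_option autoImplicit false
universe u v

namespace K686.Retr

/-- a linear retraction of a ring map -/
structure Retraction {R₀ : Type u} {R : Type v} [CommRing R₀] [CommRing R] (f : R₀ →+* R) where
  /-- the retraction -/
  ret : R →+ R₀
  ret_mul : ∀ a b, ret (f a * b) = a * ret b
  ret_one : ret 1 = 1

variable {R₀ : Type u} {R : Type v} [CommRing R₀] [CommRing R] {f : R₀ →+* R} (E : Retraction f)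

namespace Retraction

include E

lemma ret_map (a : R₀) : E.ret (f a) = a := by
  have := E.ret_mul a 1
  rwa [mul_one, E.ret_one, mul_one] at this

lemma injective : Function.Injective f := fun a b h => by rw [← E.ret_map a, ← E.ret_map b, h]

lemma ret_mem_of_mem_map {p : Ideal R₀} {x : R} (hx : x ∈ p.map f) : E.ret x ∈ p := by
  suffices h : ∀ b, E.ret (b * x) ∈ p by
    have := h 1
    rwa [one_mul] at this
  induction hx using Submodule.span_induction with
  | mem x hx =>
    obtain ⟨r, hr, rfl⟩ := hx
    intro b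
    rw [mul_comm, E.ret_mul]
    exact p.mul_mem_right _ hr
  | zero => intro b; rw [mul_zero, map_zero]; exact p.zero_mem
  | add x y _ _ hx hy => intro b; rw [mul_add, map_add]; exact p.add_mem (hx b) (hy b)
  | smul c x _ hx => intro b; rw [smul_eq_mul, ← mul_assoc]; exact hx _

lemma comap_map (p : Ideal R₀) : (p.map f).comap f = p := by
  apply le_antisymm
  · intro a ha
    have := E.ret_mem_of_mem_map (Ideal.mem_comap.mp ha)
    rwa [E.ret_map] at this
  · exact Ideal.le_comap_map

lemma isNoetherianRing [IsNoetherianRing R] : IsNoetherianRing R₀ := by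
  rw [isNoetherianRing_iff, isNoetherian_iff']
  have hm : StrictMono (fun p : Ideal R₀ => p.map f) := by
    refine Monotone.strictMono_of_injective (fun p q h => Ideal.map_mono h) (fun p q h => ?_)
    rw [← E.comap_map p, ← E.comap_map q]
    exact congrArg (Ideal.comap f) h
  have := isNoetherian_iff'.mp (isNoetherianRing_iff.mp (inferInstance : IsNoetherianRing R))
  exact hm.wellFoundedGT

/-- the descended retraction modulo a stable ideal -/
noncomputable def quot (J : Ideal R) (hJ : ∀ j ∈ J, f (E.ret j) ∈ J) :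
    Retraction (Ideal.quotientMap J f (le_refl (J.comap f))) where
  ret := QuotientAddGroup.map J.toAddSubgroup (J.comap f).toAddSubgroup E.ret (fun j hj => hJ j hj)
  ret_mul a b := by
    obtain ⟨a, rfl⟩ := Ideal.Quotient.mk_surjective a
    obtain ⟨b, rfl⟩ := Ideal.Quotient.mk_surjective b
    change Ideal.Quotient.mk _ (E.ret (f a * b)) = Ideal.Quotient.mk _ a * Ideal.Quotient.mk _ (E.ret b)
    rw [E.ret_mul, map_mul]
  ret_one := by
    change Ideal.Quotient.mk _ (E.ret 1) = 1
    rw [E.ret_one, map_one]

lemma comap_surjective : Function.Surjective (PrimeSpectrum.comap f) := by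
  intro p
  have h := E.comap_map p.asIdeal
  obtain ⟨q, hq, h⟩ := (Ideal.comap_map_eq_self_iff_of_isPrime p.asIdeal).mp h
  exact ⟨⟨q, hq⟩, PrimeSpectrum.ext h⟩

/-- the image of the zero locus of a stable ideal is closed -/
lemma image_zeroLocus (J : Ideal R) (hJ : ∀ j ∈ J, f (E.ret j) ∈ J) :
    PrimeSpectrum.comap f '' PrimeSpectrum.zeroLocus J = PrimeSpectrum.zeroLocus (J.comap f) := by
  apply Set.Subset.antisymm
  · rintro _ ⟨q, hq, rfl⟩
    exact Ideal.comap_mono hq
  · intro p hp
    obtain ⟨p', hp'⟩ : ∃ p' : PrimeSpectrum (R₀ ⧸ J.comap f),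
        PrimeSpectrum.comap (Ideal.Quotient.mk (J.comap f)) p' = p := by
      have := range_comap_of_surjective _ (Ideal.Quotient.mk (J.comap f)) Ideal.Quotient.mk_surjective
      rw [Ideal.mk_ker] at this
      have h2 : p ∈ Set.range (PrimeSpectrum.comap (Ideal.Quotient.mk (J.comap f))) := by rw [this]; exact hp
      exact h2
    obtain ⟨q', rfl⟩ := (E.quot J hJ).comap_surjective p'
    refine ⟨PrimeSpectrum.comap (Ideal.Quotient.mk J) q', ?_, ?_⟩
    · intro x hx
      change Ideal.Quotient.mk J x ∈ q'.asIdeal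
      rw [Ideal.Quotient.eq_zero_iff_mem.mpr hx]
      exact q'.asIdeal.zero_mem
    · rw [← hp']
      apply PrimeSpectrum.ext
      rfl

lemma iSup_comap {ι : Type*} (J : ι → Ideal R) (hJ : ∀ i, ∀ j ∈ J i, f (E.ret j) ∈ J i) (h : ⨆ i, J i = ⊤) :
    ⨆ i, (J i).comap f = ⊤ := by
  rw [Ideal.eq_top_iff_one] at h ⊢
  suffices key : ∀ x ∈ ⨆ i, J i, E.ret x ∈ ⨆ i, (J i).comap f by
    have := key 1 h
    rwa [E.ret_one] at this
  intro x hx
  induction hx using Submodule.iSup_induction' with
  | mem i x hx => exact Ideal.mem_iSup_of_mem i (hJ i x hx)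
  | zero => rw [map_zero]; exact zero_mem _
  | add x y _ _ hx hy => rw [map_add]; exact add_mem hx hy

end Retraction

end K686.Retr
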