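import Groth.Agent.GIT.K686.Haar
import Groth.Agent.GIT.K686.Retr

/-!
# Affine quotients by groups with an invariant integral

`IsAffQuot a φ`: `φ` is invariant and `Γ(Y)` is the ring of invariant functions of `X`.
-/

set_option autoImplicit false
universe u
open CategoryTheory MonoidalCategory CartesianMonoidalCategory MonObj AlgebraicGeometry Topology

namespace K686

variable {S : Scheme.{u}} {G : Over S} [GrpObj G]

/-- `Γ(Y)` is the ring of invariant functions of `X` -/
structure IsAffQuot {X Y : Over S} (a : AlgGrp.Action G X) (φ : X ⟶ Y) : Prop where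
  inv : GIT.IsInvariant a φ
  inj : Function.Injective φ.left.appTop
  range : Set.range φ.left.appTop = {f | Haar.Inv a f}

namespace IsAffQuot

variable {X Y : Over S} {a : AlgGrp.Action G X} {φ : X ⟶ Y}

lemma inv_app (h : GIT.IsInvariant a φ) (r : Γ(Y.left, ⊤)) : Haar.Inv a (φ.left.appTop r) := by
  rw [Haar.Inv, ← Haar.comp_appTop', ← Haar.comp_appTop', h]

lemma exists_ret (h : IsAffQuot a φ) (H : Haar G) [IsAffine X.left] (f : Γ(X.left, ⊤)) :
    ∃ r, φ.left.appTop r = H.E a f := by
  have : H.E a f ∈ Set.range φ.left.appTop := by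
    rw [h.range]; exact H.inv_E a f
  exact this

/-- the value of the retraction -/
noncomputable def retFun (h : IsAffQuot a φ) (H : Haar G) [IsAffine X.left] (f : Γ(X.left, ⊤)) : Γ(Y.left, ⊤) :=
  (h.exists_ret H f).choose

lemma map_retFun (h : IsAffQuot a φ) (H : Haar G) [IsAffine X.left] (f : Γ(X.left, ⊤)) :
    φ.left.appTop (h.retFun H f) = H.E a f := (h.exists_ret H f).choose_spec

/-- the retraction given by the Reynolds operator -/
noncomputable def retr (h : IsAffQuot a φ) (H : Haar G) [IsAffine X.left] : Retr.Retraction φ.left.appTop.hom where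
  ret := AddMonoidHom.mk' (h.retFun H) (fun f g => by
    apply h.inj
    rw [map_add, h.map_retFun H, h.map_retFun H, h.map_retFun H, map_add])
  ret_mul r f := by
    apply h.inj
    change φ.left.appTop (h.retFun H (φ.left.appTop r * f)) = φ.left.appTop (r * h.retFun H f)
    rw [map_mul, h.map_retFun H, h.map_retFun H]
    exact H.E_mul a (inv_app h.inv r) f
  ret_one := by
    apply h.inj
    change φ.left.appTop (h.retFun H 1) = φ.left.appTop 1
    rw [h.map_retFun H, H.E_one a, map_one]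

lemma map_retr (h : IsAffQuot a φ) (H : Haar G) [IsAffine X.left] (f : Γ(X.left, ⊤)) :
    φ.left.appTop ((h.retr H).ret f) = H.E a f := h.map_retFun H f

/-- base change of affine quotients -/
theorem baseChange (h : IsAffQuot a φ) (H : Haar G) {X' Y' : Over S} [IsAffine X.left] [IsAffine Y.left]
    [IsAffine X'.left] [IsAffine Y'.left]
    (pr : X' ⟶ X) (φ' : X' ⟶ Y') (g : Y' ⟶ Y) (hp : IsPullback pr.left φ'.left φ.left g.left)
    (a' : AlgGrp.Action G X') (ha' : a'.act ≫ pr = (G ◁ pr) ≫ a.act) (hinv : GIT.IsInvariant a' φ') :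
    IsAffQuot a' φ' := by
  have hpo := isPushout_appTop_of_isPullback hp
  refine ⟨hinv, ?_, ?_⟩
  · exact PushRing.injective_of_retraction hpo (h.retr H).ret (h.retr H).ret_mul (h.retr H).ret_one
  · apply Set.Subset.antisymm
    · rintro _ ⟨r, rfl⟩
      exact inv_app hinv r
    · intro f hf
      rw [← H.E_of_inv a' hf]
      clear hf
      induction f using PushRing.induction hpo with
      | hmul b c =>
        refine ⟨g.left.appTop ((h.retr H).ret b) * c, ?_⟩
        rw [mul_comm (pr.left.appTop b), H.E_mul a' (inv_app hinv c), ← H.map_E a' a pr ha', ← map_retr h H,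
          map_mul, ← Haar.comp_appTop', ← Haar.comp_appTop']
        have : φ' ≫ g = pr ≫ φ := by
          ext1
          exact hp.w.symm
        rw [this, mul_comm]
      | hadd x y hx hy =>
        obtain ⟨r, hr⟩ := hx
        obtain ⟨s, hs⟩ := hy
        exact ⟨r + s, by rw [map_add, map_add, hr, hs]⟩

end IsAffQuot

/-- naturality of `toSpecΓ` on points -/
lemma toSpecΓ_apply {X Y : Scheme.{u}} (p : X ⟶ Y) (x : X) :
    Y.toSpecΓ (p x) = PrimeSpectrum.comap p.appTop.hom (X.toSpecΓ x) := by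
  rw [← Scheme.Hom.comp_apply, Scheme.toSpecΓ_naturality, Scheme.Hom.comp_apply]
  rfl

lemma toSpecΓ_bijective (X : Scheme.{u}) [IsAffine X] : Function.Bijective X.toSpecΓ :=
  (Scheme.homeoOfIso (asIso X.toSpecΓ)).bijective

/-- invariant subsets -/
def InvSet {X : Over S} (a : AlgGrp.Action G X) (W : Set X.left) : Prop :=
  ∀ z : (G ⊗ X).left, (snd G X).left z ∈ W → a.act.left z ∈ W

/-- the ideal of a subset -/
noncomputable def van {X : Scheme.{u}} (W : Set X) : Ideal Γ(X, ⊤) :=
  PrimeSpectrum.vanishingIdeal (X.toSpecΓ '' W)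

lemma mem_van {X : Scheme.{u}} {W : Set X} {f : Γ(X, ⊤)} :
    f ∈ van W ↔ ∀ x ∈ W, f ∈ (X.toSpecΓ x).asIdeal := by
  rw [van, PrimeSpectrum.mem_vanishingIdeal]
  simp

lemma mem_iff_van_le {X : Scheme.{u}} [IsAffine X] {W : Set X} (hW : IsClosed W) (x : X) :
    x ∈ W ↔ van W ≤ (X.toSpecΓ x).asIdeal := by
  have h1 : IsClosed (X.toSpecΓ '' W) := (Scheme.homeoOfIso (asIso X.toSpecΓ)).isClosedMap _ hW
  have h2 : PrimeSpectrum.zeroLocus (PrimeSpectrum.vanishingIdeal (X.toSpecΓ '' W) : Set Γ(X, ⊤)) = X.toSpecΓ '' W := by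
    have := PrimeSpectrum.zeroLocus_vanishingIdeal_eq_closure (X.toSpecΓ '' W)
    exact this.trans h1.closure_eq
  have h3 : X.toSpecΓ x ∈ X.toSpecΓ '' W ↔ x ∈ W := by
    constructor
    · rintro ⟨y, hy, hyx⟩
      rwa [← (toSpecΓ_bijective X).1 hyx]
    · intro h
      exact ⟨x, h, rfl⟩
  rw [← h3, ← h2]
  rfl

lemma exists_pow_mem_invIdeal {X : Over S} (a : AlgGrp.Action G X) [IsAffine X.left] [IsAffine (G ⊗ X).left]
    {W : Set X.left} (hW : IsClosed W) (hi : InvSet a W) {f : Γ(X.left, ⊤)} (hf : f ∈ van W) :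
    ∃ n : ℕ, f ^ n ∈ invIdeal a (van W) := by
  have h : a.act.left.appTop f ∈ ((van W).map (snd G X).left.appTop.hom).radical := by
    rw [Ideal.radical_eq_sInf, Ideal.mem_sInf]
    rintro q ⟨hq, hq'⟩
    obtain ⟨z, hz⟩ := (toSpecΓ_bijective (G ⊗ X).left).2 ⟨q, hq'⟩
    have h1 : (snd G X).left z ∈ W := by
      rw [mem_iff_van_le hW, toSpecΓ_apply, hz]
      intro g hg
      exact hq (Ideal.mem_map_of_mem _ hg)
    have h2 := hi z h1
    have h3 := mem_van.mp hf _ h2
    rw [toSpecΓ_apply, hz] at h3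
    exact h3
  obtain ⟨n, hn⟩ := h
  refine ⟨n, ?_⟩
  rw [mem_invIdeal, map_pow]
  exact hn

/-- the zero locus of the invariant ideal of `W` is `W` -/
lemma mem_iff_invIdeal_le {X : Over S} (a : AlgGrp.Action G X) [IsAffine X.left] [IsAffine (G ⊗ X).left]
    {W : Set X.left} (hW : IsClosed W) (hi : InvSet a W) (x : X.left) :
    x ∈ W ↔ invIdeal a (van W) ≤ (X.left.toSpecΓ x).asIdeal := by
  rw [mem_iff_van_le hW]
  refine ⟨fun h => (invIdeal_le a _).trans h, fun h f hf => ?_⟩
  obtain ⟨n, hn⟩ := exists_pow_mem_invIdeal a hW hi hf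
  exact (X.left.toSpecΓ x).isPrime.mem_of_pow_mem n (h hn)

namespace IsAffQuot

variable {X Y : Over S} {a : AlgGrp.Action G X} {φ : X ⟶ Y}

lemma retr_mem (h : IsAffQuot a φ) (H : Haar G) [IsAffine X.left] (I : Ideal Γ(X.left, ⊤)) :
    ∀ j ∈ invIdeal a I, φ.left.appTop.hom ((h.retr H).ret j) ∈ invIdeal a I := by
  intro j hj
  have := h.map_retr H j
  change φ.left.appTop ((h.retr H).ret j) ∈ _
  rw [this]
  exact H.E_mem a I hj

/-- affine quotients are surjective -/
theorem surjective (h : IsAffQuot a φ) (H : Haar G) [IsAffine X.left] [IsAffine Y.left] :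
    Function.Surjective φ.left := by
  intro y
  obtain ⟨p, hp⟩ := (h.retr H).comap_surjective (Y.left.toSpecΓ y)
  obtain ⟨x, rfl⟩ := (toSpecΓ_bijective X.left).2 p
  refine ⟨x, (toSpecΓ_bijective Y.left).1 ?_⟩
  rw [toSpecΓ_apply, hp]

lemma mem_image_iff (h : IsAffQuot a φ) (H : Haar G) [IsAffine X.left] [IsAffine Y.left] {W : Set X.left}
    (hW : IsClosed W) (hi : InvSet a W) (y : Y.left) :
    y ∈ φ.left '' W ↔ (invIdeal a (van W)).comap φ.left.appTop.hom ≤ (Y.left.toSpecΓ y).asIdeal := by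
  have := H.affine X
  have h1 := (h.retr H).image_zeroLocus (invIdeal a (van W)) (h.retr_mem H _)
  constructor
  · rintro ⟨x, hx, rfl⟩
    rw [toSpecΓ_apply]
    exact Ideal.comap_mono ((mem_iff_invIdeal_le a hW hi x).mp hx)
  · intro hy
    have h2 : Y.left.toSpecΓ y ∈ PrimeSpectrum.comap φ.left.appTop.hom ''
        PrimeSpectrum.zeroLocus (invIdeal a (van W)) := by
      rw [h1]; exact hy
    obtain ⟨p, hp, hpy⟩ := h2
    obtain ⟨x, rfl⟩ := (toSpecΓ_bijective X.left).2 p
    refine ⟨x, (mem_iff_invIdeal_le a hW hi x).mpr hp, (toSpecΓ_bijective Y.left).1 ?_⟩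
    rw [toSpecΓ_apply, hpy]

/-- images of closed invariant sets are closed -/
theorem isClosed_image (h : IsAffQuot a φ) (H : Haar G) [IsAffine X.left] [IsAffine Y.left] {W : Set X.left}
    (hW : IsClosed W) (hi : InvSet a W) : IsClosed (φ.left '' W) := by
  have : φ.left '' W = Y.left.toSpecΓ ⁻¹'
      PrimeSpectrum.zeroLocus ((invIdeal a (van W)).comap φ.left.appTop.hom) := by
    ext y
    rw [h.mem_image_iff H hW hi]
    rfl
  rw [this]
  exact (PrimeSpectrum.isClosed_zeroLocus _).preimage Y.left.toSpecΓ.continuous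

/-- closed invariant sets without common point have images without common point -/
theorem iInter_image_eq_empty (h : IsAffQuot a φ) (H : Haar G) [IsAffine X.left] [IsAffine Y.left] {κ : Type*}
    (W : κ → Set X.left) (hW : ∀ i, IsClosed (W i)) (hi : ∀ i, InvSet a (W i)) (he : ⋂ i, W i = ∅) :
    ⋂ i, φ.left '' W i = ∅ := by
  have := H.affine X
  have h1 : ⨆ i, invIdeal a (van (W i)) = ⊤ := by
    by_contra hne
    obtain ⟨m, hm, hle⟩ := Ideal.exists_le_maximal _ hne
    obtain ⟨x, hx⟩ := (toSpecΓ_bijective X.left).2 ⟨m, hm.isPrime⟩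
    have : x ∈ ⋂ i, W i := by
      rw [Set.mem_iInter]
      intro i
      rw [mem_iff_invIdeal_le a (hW i) (hi i), hx]
      exact (le_iSup (fun i => invIdeal a (van (W i))) i).trans hle
    rw [he] at this
    exact this
  have h2 := (h.retr H).iSup_comap _ (fun i => h.retr_mem H (van (W i))) h1
  rw [Set.eq_empty_iff_forall_notMem]
  intro y hy
  rw [Set.mem_iInter] at hy
  have h3 : ⨆ i, (invIdeal a (van (W i))).comap φ.left.appTop.hom ≤ (Y.left.toSpecΓ y).asIdeal :=
    iSup_le fun i => (h.mem_image_iff H (hW i) (hi i) y).mp (hy i)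
  rw [h2] at h3
  exact (Y.left.toSpecΓ y).isPrime.ne_top (top_le_iff.mp h3)

/-- affine quotients are quotient maps -/
theorem isQuotientMap (h : IsAffQuot a φ) (H : Haar G) [IsAffine X.left] [IsAffine Y.left] :
    IsQuotientMap φ.left := by
  rw [isQuotientMap_iff_isClosed]
  refine ⟨h.surjective H, fun V => ⟨fun hV => hV.preimage φ.left.continuous, fun hV => ?_⟩⟩
  rw [← Set.image_preimage_eq V (h.surjective H)]
  refine h.isClosed_image H hV ?_
  intro z hz
  change φ.left (a.act.left z) ∈ V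
  have h1 : φ.left (a.act.left z) = φ.left ((snd G X).left z) := by
    rw [← Scheme.Hom.comp_apply, ← Scheme.Hom.comp_apply, h.inv.left]
  rw [h1]
  exact hz

end IsAffQuot

end K686
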