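import Groth.Agent.GIT.K686.Devis
import Mathlib.AlgebraicGeometry.Morphisms.Flat
import Mathlib.AlgebraicGeometry.Morphisms.ClosedImmersion

/-!
# Global functions of flat schemes over an Artinian local base

`surjective_appTop` : `v : X ⟶ T` flat, `T` affine with `Γ(T, ⊤)` Artinian local; if the global functions
on the closed fibre come from `Γ(T, ⊤)` then so do those on `X`.  No finiteness is assumed on `v`.
-/

set_option autoImplicit false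
universe u
open CategoryTheory Limits AlgebraicGeometry TopologicalSpace TensorProduct Opposite

namespace K686.ArtinH0

variable {X T T₀ X₀ : Scheme.{u}}

/-- the sections over `U` as an algebra over the functions on the base -/
def SecA (v : X ⟶ T) (U : X.Opens) : Type u := (let _ := v; Γ(X, U))

noncomputable instance (v : X ⟶ T) (U : X.Opens) : CommRing (SecA v U) :=
  inferInstanceAs (CommRing Γ(X, U))

noncomputable instance (v : X ⟶ T) (U : X.Opens) : Algebra Γ(T, ⊤) (SecA v U) :=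
  (v.appLE ⊤ U le_top).hom.toAlgebra

theorem algebraMap_eq (v : X ⟶ T) (U : X.Opens) :
    algebraMap Γ(T, ⊤) (SecA v U) = (v.appLE ⊤ U le_top).hom := rfl

/-- restriction -/
noncomputable def res (v : X ⟶ T) (U V : X.Opens) (h : U ≤ V) : SecA v V →ₐ[Γ(T, ⊤)] SecA v U where
  __ := (X.presheaf.map (homOfLE h).op).hom
  commutes' a := by
    change (X.presheaf.map (homOfLE h).op) ((v.appLE ⊤ V le_top) a) = (v.appLE ⊤ U le_top) a
    rw [← CommRingCat.comp_apply, Scheme.Hom.appLE_map]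

theorem res_apply (v : X ⟶ T) (U V : X.Opens) (h : U ≤ V) (x : Γ(X, V)) :
    res v U V h x = X.presheaf.map (homOfLE h).op x := rfl

instance flat_secA (v : X ⟶ T) [Flat v] [IsAffine T] (U : X.affineOpens) :
    Module.Flat Γ(T, ⊤) (SecA v U.1) := by
  have := HasRingHomProperty.appLE (P := @Flat) v inferInstance ⟨⊤, isAffineOpen_top T⟩ U le_top
  exact this

section

variable {v : X ⟶ T} {i : T₀ ⟶ T} {j : X₀ ⟶ X} {v₀ : X₀ ⟶ T₀} (H : IsPullback j v₀ v i)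

include H in
theorem w_aux (U : X.Opens) : CommRingCat.ofHom (algebraMap Γ(T, ⊤) (SecA i ⊤)) ≫
    v₀.appLE ⊤ (j ⁻¹ᵁ U) le_top = CommRingCat.ofHom (algebraMap Γ(T, ⊤) (SecA v U)) ≫
      j.appLE U (j ⁻¹ᵁ U) le_rfl := by
  change i.appLE ⊤ ⊤ le_top ≫ v₀.appLE ⊤ (j ⁻¹ᵁ U) le_top =
    v.appLE ⊤ U le_top ≫ j.appLE U (j ⁻¹ᵁ U) le_rfl
  rw [Scheme.Hom.appLE_comp_appLE, Scheme.Hom.appLE_comp_appLE]
  congr 1
  exact H.w.symm

/-- the comparison map for sections of the base change -/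
noncomputable def ψ (U : X.Opens) :
    CommRingCat.of (SecA i ⊤ ⊗[Γ(T, ⊤)] SecA v U) ⟶ Γ(X₀, j ⁻¹ᵁ U) :=
  (CommRingCat.isPushout_tensorProduct Γ(T, ⊤) (SecA i ⊤) (SecA v U)).desc
    (v₀.appLE ⊤ (j ⁻¹ᵁ U) le_top) (j.appLE U (j ⁻¹ᵁ U) le_rfl) (w_aux H U)

theorem isIso_ψ [IsAffine T] [IsAffine T₀] (U : X.affineOpens) : IsIso (ψ H U.1) := by
  have h1 : IsPushout (v.appLE ⊤ U.1 le_top) (i.appLE ⊤ ⊤ le_top)
      (j.appLE U.1 (j ⁻¹ᵁ U.1) le_rfl) (v₀.appLE ⊤ (j ⁻¹ᵁ U.1) le_top) :=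
    (isIso_pushoutSection_iff H (US := ⊤) (UT := ⊤) (UX := U.1) (UY := j ⁻¹ᵁ U.1) le_top le_top
      (by simp)).mp (isIso_pushoutSection_of_isAffineOpen H (US := ⊤) (UT := ⊤) (UX := U.1)
        (UY := j ⁻¹ᵁ U.1) le_top le_top (by simp) (isAffineOpen_top T) (isAffineOpen_top T₀) U.2)
  have h2 := CommRingCat.isPushout_tensorProduct Γ(T, ⊤) (SecA i ⊤) (SecA v U.1)
  have h3 : ψ H U.1 = (h2.isoIsPushout _ _ h1.flip).hom := by
    apply h2.hom_ext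
    · rw [ψ, h2.inl_desc, IsPushout.inl_isoIsPushout_hom]
    · rw [ψ, h2.inr_desc, IsPushout.inr_isoIsPushout_hom]
  rw [h3]
  infer_instance

theorem injective_ψ [IsAffine T] [IsAffine T₀] (U : X.affineOpens) :
    Function.Injective (ψ H U.1) := by
  have := isIso_ψ H U
  exact ((ConcreteCategory.isIso_iff_bijective (ψ H U.1)).mp this).1

theorem ψ_left (U : X.Opens) (a : Γ(T₀, ⊤)) :
    ψ H U ((show SecA i ⊤ from a) ⊗ₜ[Γ(T, ⊤)] (1 : SecA v U)) =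
      v₀.appLE ⊤ (j ⁻¹ᵁ U) le_top a :=
  congrArg (fun k : Γ(T₀, ⊤) ⟶ Γ(X₀, j ⁻¹ᵁ U) => k a)
    ((CommRingCat.isPushout_tensorProduct Γ(T, ⊤) (SecA i ⊤) (SecA v U)).inl_desc
      (v₀.appLE ⊤ (j ⁻¹ᵁ U) le_top) (j.appLE U (j ⁻¹ᵁ U) le_rfl) (w_aux H U))

theorem ψ_right (U : X.Opens) (b : Γ(X, U)) :
    ψ H U ((1 : SecA i ⊤) ⊗ₜ[Γ(T, ⊤)] (show SecA v U from b)) =
      j.appLE U (j ⁻¹ᵁ U) le_rfl b :=
  congrArg (fun k : Γ(X, U) ⟶ Γ(X₀, j ⁻¹ᵁ U) => k b)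
    ((CommRingCat.isPushout_tensorProduct Γ(T, ⊤) (SecA i ⊤) (SecA v U)).inr_desc
      (v₀.appLE ⊤ (j ⁻¹ᵁ U) le_top) (j.appLE U (j ⁻¹ᵁ U) le_rfl) (w_aux H U))

theorem ψ_tmul (U : X.Opens) (a : Γ(T₀, ⊤)) (b : Γ(X, U)) :
    ψ H U ((show SecA i ⊤ from a) ⊗ₜ[Γ(T, ⊤)] (show SecA v U from b)) =
      v₀.appLE ⊤ (j ⁻¹ᵁ U) le_top a * j.appLE U (j ⁻¹ᵁ U) le_rfl b := by
  rw [← ψ_left H U a, ← ψ_right H U b, ← map_mul]
  congr 1
  rw [Algebra.TensorProduct.tmul_mul_tmul, mul_one, one_mul]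

theorem ψ_naturality (U V : X.Opens) (h : U ≤ V) (x : SecA i ⊤ ⊗[Γ(T, ⊤)] SecA v V) :
    X₀.presheaf.map (homOfLE (j.preimage_mono h)).op (ψ H V x) =
      ψ H U ((res v U V h).toLinearMap.lTensor (SecA i ⊤) x) := by
  induction x using TensorProduct.induction_on with
  | zero => simp only [map_zero]
  | add x y hx hy => simp only [map_add, hx, hy]
  | tmul a b =>
    rw [LinearMap.lTensor_tmul]
    refine (congrArg _ (ψ_tmul H V a b)).trans (Eq.trans ?_ (ψ_tmul H U a (res v U V h b)).symm)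
    rw [map_mul]
    congr 1
    · exact congrArg (fun k : Γ(T₀, ⊤) ⟶ Γ(X₀, j ⁻¹ᵁ U) => k a)
        (Scheme.Hom.appLE_map v₀ (U := ⊤) (V := j ⁻¹ᵁ V) (V' := j ⁻¹ᵁ U) le_top
          (homOfLE (j.preimage_mono h)).op)
    · refine (congrArg (fun k : Γ(X, V) ⟶ Γ(X₀, j ⁻¹ᵁ U) => k b)
        (Scheme.Hom.appLE_map j (U := V) (V := j ⁻¹ᵁ V) (V' := j ⁻¹ᵁ U) le_rfl
          (homOfLE (j.preimage_mono h)).op)).trans ?_
      exact (congrArg (fun k : Γ(X, V) ⟶ Γ(X₀, j ⁻¹ᵁ U) => k b)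
        (Scheme.Hom.map_appLE j (U := U) (V := j ⁻¹ᵁ U) (U' := V) le_rfl (homOfLE h).op)).symm

include H in
theorem surj_residue [IsAffine T] [IsAffine T₀] (hs : Function.Surjective v₀.appTop) :
    Devis.Surj Γ(T, ⊤) (ι := X.affineOpens) (fun U V => U.1 ≤ V.1) (fun U => SecA v U.1)
      (fun U V h => res v U.1 V.1 h) (SecA i ⊤) := by
  intro m hm
  -- glue the sections `ψ (m U)` on `X₀`
  have hcov : (⊤ : X₀.Opens) ≤ iSup (fun U : X.affineOpens => j ⁻¹ᵁ U.1) := by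
    intro x _
    have hx : j x ∈ (⊤ : X.Opens) := trivial
    rw [← iSup_affineOpens_eq_top X] at hx
    obtain ⟨U, hU⟩ := Opens.mem_iSup.mp hx
    exact Opens.mem_iSup.mpr ⟨U, hU⟩
  have hcomp : TopCat.Presheaf.IsCompatible X₀.presheaf
      (fun U : X.affineOpens => j ⁻¹ᵁ U.1) (fun U => ψ H U.1 (m U)) := by
    intro U V
    apply TopCat.Sheaf.eq_of_locally_eq' X₀.sheaf
      (fun W : {W : X.affineOpens // W.1 ≤ U.1 ⊓ V.1} => j ⁻¹ᵁ W.1.1)
      (j ⁻¹ᵁ U.1 ⊓ j ⁻¹ᵁ V.1) (fun W => homOfLE (j.preimage_mono W.2))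
    · intro x hx
      obtain ⟨W, hW, hxW, hWle⟩ := X.isBasis_affineOpens.exists_subset_of_mem_open
        (show j x ∈ ((U.1 ⊓ V.1 : X.Opens) : Set X) from hx) (U.1 ⊓ V.1).isOpen
      obtain ⟨W', hW', rfl⟩ := hW
      exact Opens.mem_iSup.mpr ⟨⟨⟨W', hW'⟩, hWle⟩, hxW⟩
    · intro W
      have hWU : W.1.1 ≤ U.1 := W.2.trans inf_le_left
      have hWV : W.1.1 ≤ V.1 := W.2.trans inf_le_right
      have e1 := ψ_naturality H W.1.1 U.1 hWU (m U)
      have e2 := ψ_naturality H W.1.1 V.1 hWV (m V)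
      rw [hm W.1 U hWU] at e1
      rw [hm W.1 V hWV] at e2
      refine Eq.trans ?_ (e1.trans (e2.symm.trans ?_))
      · exact (congrArg (fun k : Γ(X₀, j ⁻¹ᵁ U.1) ⟶ Γ(X₀, j ⁻¹ᵁ W.1.1) => k (ψ H U.1 (m U)))
          (X₀.presheaf.map_comp _ _).symm)
      · exact (congrArg (fun k : Γ(X₀, j ⁻¹ᵁ V.1) ⟶ Γ(X₀, j ⁻¹ᵁ W.1.1) => k (ψ H V.1 (m V)))
          (X₀.presheaf.map_comp _ _))
  obtain ⟨c, hc, -⟩ := TopCat.Sheaf.existsUnique_gluing' X₀.sheaf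
    (fun U : X.affineOpens => j ⁻¹ᵁ U.1) ⊤ (fun U => homOfLE le_top) hcov _ hcomp
  obtain ⟨a, ha⟩ := hs c
  refine ⟨a, fun U => injective_ψ H U ?_⟩
  refine Eq.trans (hc U).symm (Eq.trans ?_ (ψ_left H U.1 a).symm)
  rw [← ha]
  exact congrArg (fun k : Γ(T₀, ⊤) ⟶ Γ(X₀, j ⁻¹ᵁ U.1) => k a)
    (show v₀.appTop ≫ X₀.presheaf.map (homOfLE le_top).op = _ from rfl)

include H in
/-- Global functions on a flat scheme over an Artinian local base. -/
theorem surjective_appTop [IsAffine T] [IsAffine T₀] [IsArtinianRing Γ(T, ⊤)]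
    [IsLocalRing Γ(T, ⊤)] [Flat v] (hi : Function.Surjective i.appTop)
    (hk : RingHom.ker i.appTop.hom = IsLocalRing.maximalIdeal Γ(T, ⊤))
    (hs : Function.Surjective v₀.appTop) : Function.Surjective v.appTop := by
  have h0 := surj_residue H hs
  have e : (Γ(T, ⊤) ⧸ IsLocalRing.maximalIdeal Γ(T, ⊤)) ≃ₗ[Γ(T, ⊤)] SecA i ⊤ := by
    refine (Submodule.quotEquivOfEq _ _ ?_).trans
      ((Algebra.linearMap Γ(T, ⊤) (SecA i ⊤)).quotKerEquivOfSurjective ?_)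
    · rw [← hk]
      ext x
      have : i.appLE ⊤ ⊤ le_top = i.appTop := by
        rw [Scheme.Hom.appTop, Scheme.Hom.app_eq_appLE]
        rfl
      change i.appTop x = 0 ↔ i.appLE ⊤ ⊤ le_top x = 0
      rw [this]
    · intro x
      obtain ⟨y, hy⟩ := hi x
      refine ⟨y, ?_⟩
      have : i.appLE ⊤ ⊤ le_top = i.appTop := by
        rw [Scheme.Hom.appTop, Scheme.Hom.app_eq_appLE]
        rfl
      change i.appLE ⊤ ⊤ le_top y = x
      rw [this, hy]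
  have h1 := Devis.surj_of_residue (Devis.surj_of_equiv e h0) Γ(T, ⊤) inferInstance
  intro c
  obtain ⟨a, ha⟩ := h1 (fun U => 1 ⊗ₜ[Γ(T, ⊤)] (X.presheaf.map (homOfLE (le_top : U.1 ≤ ⊤)).op c :
    SecA v U.1)) (fun U V h => by
      rw [LinearMap.lTensor_tmul]
      congr 1
      change X.presheaf.map (homOfLE h).op _ = _
      rw [← CommRingCat.comp_apply, ← Functor.map_comp]
      rfl)
  refine ⟨a, ?_⟩
  apply TopCat.Sheaf.eq_of_locally_eq' X.sheaf (fun U : X.affineOpens => U.1) ⊤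
    (fun U => homOfLE le_top)
  · rw [iSup_affineOpens_eq_top X]
  · intro U
    have h2 := congrArg (TensorProduct.lid Γ(T, ⊤) (SecA v U.1)) (ha U)
    rw [TensorProduct.lid_tmul, TensorProduct.lid_tmul, one_smul, Algebra.smul_def, mul_one] at h2
    refine Eq.trans ?_ h2.symm
    exact congrArg (fun k : Γ(T, ⊤) ⟶ Γ(X, U.1) => k a)
      (show v.appTop ≫ X.presheaf.map (homOfLE le_top).op = _ from rfl)

end

end K686.ArtinH0
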