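import Groth.Agent.S1936
import Groth.Agent.Sga3.H775.ActGrpd
import Groth.Agent.EqInt.K957.Cart

/-!
# Flat group schemes are Cohen-Macaulay
-/

set_option autoImplicit false
universe u
open CategoryTheory MonoidalCategory CartesianMonoidalCategory MonObj AlgebraicGeometry Topology

namespace K686.CMGrp

open Groth.Agent.Sga3.H775.ActGrpd

variable {S : Scheme.{u}} {G : Over S} [GrpObj G]

variable (G) in
/-- the action on the terminal object -/
noncomputable def trivUnit : AlgGrp.Action G (𝟙_ (Over S)) where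
  act := toUnit _
  one_act := toUnit_unique _ _
  mul_act := toUnit_unique _ _

theorem isCMAt_unit [Flat G.hom] [LocallyOfFinitePresentation G.hom] (r : (G ⊗ 𝟙_ (Over S)).left) :
    Grpd.IsCMAt (snd G (𝟙_ (Over S))).left r := by
  let A := actGrpd (trivUnit G)
  have hs : A.s = (snd G (𝟙_ (Over S))).left := rfl
  have ht' : (trivUnit G).act = snd G (𝟙_ (Over S)) := toUnit_unique _ _
  have ht : A.t = (snd G (𝟙_ (Over S))).left := congrArg (fun t => t.left) ht'
  have h1 : Flat A.s := inferInstanceAs (Flat (Limits.pullback.snd G.hom (𝟙_ (Over S)).hom))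
  have h2 : LocallyOfFinitePresentation A.s :=
    inferInstanceAs (LocallyOfFinitePresentation (Limits.pullback.snd G.hom (𝟙_ (Over S)).hom))
  have h3 : Flat A.t := by rw [ht]; exact h1
  have h4 : LocallyOfFinitePresentation A.t := by rw [ht]; exact h2
  obtain ⟨U', hU, -, -, hs'⟩ := Groth.Agent.S1936.result S A
  have hst : A.s = A.t := hs.trans ht.symm
  have htop : (U' : Set A.U) = Set.univ := by
    rw [Set.eq_univ_iff_forall]
    intro x
    obtain ⟨r, hr, rfl⟩ : x ∈ ⇑A.s '' (A.t ⁻¹ᵁ U' : Set A.R) := by rw [hs']; trivial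
    have : A.t r ∈ U' := hr
    rw [hst]
    exact this
  have hr : r ∈ (A.t ⁻¹ᵁ U' : Set A.R) := by
    change A.t r ∈ (U' : Set A.U)
    rw [htop]
    trivial
  rw [hU] at hr
  exact hr

/-- projections `G × X ⟶ X` are Cohen-Macaulay -/
theorem isCMAt_snd [Flat G.hom] [LocallyOfFinitePresentation G.hom] (X : Over S) (r : (G ⊗ X).left) :
    Grpd.IsCMAt (snd G X).left r := by
  have h := K957.Cart.isPullback_whisker_left (G := G) (toUnit X)
  have h1 : Flat (snd G (𝟙_ (Over S))).left :=
    inferInstanceAs (Flat (Limits.pullback.snd G.hom (𝟙_ (Over S)).hom))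
  have h2 : LocallyOfFinitePresentation (snd G (𝟙_ (Over S))).left :=
    inferInstanceAs (LocallyOfFinitePresentation (Limits.pullback.snd G.hom (𝟙_ (Over S)).hom))
  exact (Groth.Agent.S1936.isCMAt_baseChange _ _ _ _ h r).mpr (isCMAt_unit _)

end K686.CMGrp
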