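import Mathlib.RingTheory.Ideal.AssociatedPrime.Finiteness
import Mathlib.RingTheory.Flat.Basic
import Mathlib.RingTheory.HopkinsLevitzki
import Mathlib.RingTheory.TensorProduct.Basic
import Mathlib.RingTheory.LocalRing.MaximalIdeal.Basic

/-!
# A dévissage for `M ⟶ lim_i M ⊗ R i`, `R i` flat over an Artinian local ring

`surj_of_residue` : let `R i` be a system of flat algebras over an Artinian local ring `A`; if every
compatible family of elements of `(A ⧸ 𝔪) ⊗ R i` is constant, then so is every compatible family of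
elements of `R i`.
-/

set_option autoImplicit false
universe u
open TensorProduct

namespace K686.Devis

variable (A : Type u) [CommRing A] {ι : Type u} (r : ι → ι → Prop) (R : ι → Type u)
  [∀ i, CommRing (R i)] [∀ i, Algebra A (R i)] (ρ : ∀ i j, r i j → (R j →ₐ[A] R i))

/-- every compatible family of elements of `M ⊗ R i` comes from `M` -/
def Surj (M : Type u) [AddCommGroup M] [Module A M] : Prop :=
  ∀ m : ∀ i, M ⊗[A] R i, (∀ i j (h : r i j), (ρ i j h).toLinearMap.lTensor M (m j) = m i) →
    ∃ x : M, ∀ i, m i = x ⊗ₜ 1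

variable {A r R ρ}

theorem rl_comm {M M' N N' : Type u} [AddCommGroup M] [Module A M] [AddCommGroup M'] [Module A M']
    [AddCommGroup N] [Module A N] [AddCommGroup N'] [Module A N'] (f : M →ₗ[A] M')
    (g : N →ₗ[A] N') (x : M ⊗[A] N) :
    f.rTensor N' (g.lTensor M x) = g.lTensor M' (f.rTensor N x) :=
  LinearMap.congr_fun (show f.rTensor N' ∘ₗ g.lTensor M = g.lTensor M' ∘ₗ f.rTensor N by
    rw [LinearMap.rTensor_comp_lTensor, LinearMap.lTensor_comp_rTensor]) x

theorem surj_exact [∀ i, Module.Flat A (R i)] {M₁ M₂ M₃ : Type u} [AddCommGroup M₁] [Module A M₁]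
    [AddCommGroup M₂] [Module A M₂] [AddCommGroup M₃] [Module A M₃] (f : M₁ →ₗ[A] M₂)
    (g : M₂ →ₗ[A] M₃) (hf : Function.Injective f) (hg : Function.Surjective g)
    (hfg : Function.Exact f g) (h₁ : Surj A r R ρ M₁) (h₃ : Surj A r R ρ M₃) :
    Surj A r R ρ M₂ := by
  intro m hm
  obtain ⟨x'', hx''⟩ := h₃ (fun i => g.rTensor (R i) (m i)) (fun i j h => by
    rw [← hm i j h]
    exact (rl_comm g _ _).symm)
  obtain ⟨x, rfl⟩ := hg x''
  have h1 : ∀ i, ∃ y : M₁ ⊗[A] R i, f.rTensor (R i) y = m i - x ⊗ₜ 1 := fun i => by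
    have he := rTensor_exact (R i) hfg hg
    refine (he _).mp ?_
    rw [map_sub, hx'' i, LinearMap.rTensor_tmul, sub_self]
  choose y hy using h1
  have hinj : ∀ i, Function.Injective (f.rTensor (R i)) := fun i =>
    Module.Flat.rTensor_preserves_injective_linearMap f hf
  obtain ⟨x', hx'⟩ := h₁ y (fun i j h => by
    apply hinj i
    rw [hy i]
    have h2 : f.rTensor (R i) ((ρ i j h).toLinearMap.lTensor M₁ (y j)) =
        (ρ i j h).toLinearMap.lTensor M₂ (f.rTensor (R j) (y j)) := rl_comm f _ _
    rw [h2, hy j, map_sub, hm i j h, LinearMap.lTensor_tmul]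
    simp)
  refine ⟨x + f x', fun i => ?_⟩
  have h3 := hy i
  rw [hx' i, LinearMap.rTensor_tmul, eq_sub_iff_add_eq] at h3
  rw [← h3, add_tmul, add_comm]

theorem surj_of_equiv {M M' : Type u} [AddCommGroup M] [Module A M] [AddCommGroup M'] [Module A M']
    (e : M ≃ₗ[A] M') (h : Surj A r R ρ M') : Surj A r R ρ M := by
  intro m hm
  obtain ⟨x, hx⟩ := h (fun i => e.toLinearMap.rTensor (R i) (m i)) (fun i j h => by
    rw [← hm i j h]
    exact (rl_comm e.toLinearMap _ _).symm)
  refine ⟨e.symm x, fun i => ?_⟩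
  have h1 := congrArg (e.symm.toLinearMap.rTensor (R i)) (hx i)
  rw [LinearMap.rTensor_tmul] at h1
  have h2 : e.symm.toLinearMap.rTensor (R i) (e.toLinearMap.rTensor (R i) (m i)) = m i := by
    rw [← LinearMap.comp_apply, ← LinearMap.rTensor_comp]
    simp
  rw [h2] at h1
  exact h1

theorem surj_of_subsingleton {M : Type u} [AddCommGroup M] [Module A M] [Subsingleton M] :
    Surj A r R ρ M := by
  intro m _
  have h : ∀ i, Subsingleton (M ⊗[A] R i) := fun i => inferInstance
  exact ⟨0, fun i => (h i).elim _ _⟩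

/-- If every compatible family of elements of `(A ⧸ 𝔪) ⊗ R i` is constant, so is every compatible
family of elements of `R i`. -/
theorem surj_of_residue [IsArtinianRing A] [IsLocalRing A] [∀ i, Module.Flat A (R i)]
    (h : Surj A r R ρ (A ⧸ IsLocalRing.maximalIdeal A)) (M : Type u) [AddCommGroup M] [Module A M]
    (hM : Module.Finite A M) : Surj A r R ρ M := by
  induction hM using IsNoetherianRing.induction_on_isQuotientEquivQuotientPrime A with
  | subsingleton N => exact surj_of_subsingleton
  | quotient N p e =>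
    have hp : p.asIdeal = IsLocalRing.maximalIdeal A :=
      IsLocalRing.eq_maximalIdeal (haveI := p.2; Ideal.IsPrime.isMaximal' inferInstance)
    rw [hp] at e
    exact surj_of_equiv e h
  | exact N₁ N₂ N₃ f g hf hg hfg h₁ h₃ => exact surj_exact f g hf hg hfg h₁ h₃

end K686.Devis
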