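import Groth.Agent.GIT.K686.OrbS
import Groth.Agent.Sga3.H775.S4095OfS4089
import Groth.Agent.EqInt.K957.Bundle

/-!
# Slices of geometric quotients, étale locally on the base
-/

set_option autoImplicit false
universe u
open CategoryTheory MonoidalCategory CartesianMonoidalCategory MonObj AlgebraicGeometry Topology Limits

namespace K686.EtSlice

open Groth.Agent.Sga3.H775.ActGrpd Groth.Agent.GrpQ.H769.Sig Groth.Agent.GrpQ.H769.IsolFib OrbS

section

variable {S : Scheme.{u}} {G X Y : Over S} [GrpObj G] (a : AlgGrp.Action G X)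

/-- a slice through a point closed in its fibre -/
theorem exists_slice [IsLocallyNoetherian S] [Flat G.hom] [LocallyOfFiniteType G.hom]
    [LocallyOfFiniteType X.hom] (hj : LocallyQuasiFinite (GIT.psi a (𝟙 X)).left) (x : X.left)
    (hx : ClosedInFib X.hom x) : ∃ (Z : Over S) (u : Z ⟶ X), IsAffine Z.left ∧ LocallyOfFiniteType u.left ∧
      Flat (orb a u).left ∧ LocallyQuasiFinite (orb a u).left ∧ x ∈ Set.range u.left := by
  have hlfp : LocallyOfFinitePresentation G.hom := inferInstance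
  have h1 : Flat (actGrpd a).s := inferInstanceAs (Flat (pullback.snd G.hom X.hom))
  have h2 : LocallyOfFiniteType (actGrpd a).s := inferInstanceAs (LocallyOfFiniteType (pullback.snd G.hom X.hom))
  have h3 : LocallyOfFiniteType (actGrpd a).pU := ‹LocallyOfFiniteType X.hom›
  have h4 : LocallyOfFiniteType (actGrpd a).j := Groth.Agent.Sga3.H775.S4095OfS4089.locallyOfFiniteType_j a
  have h5 : LocallyQuasiFinite (actGrpd a).j := by
    have : LocallyQuasiFinite (lift a.act (snd G X)).left := by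
      rw [K957.Bundle.psi_eq] at hj
      exact hj
    exact this
  have hCM : Grpd.IsCMAt (actGrpd a).s ((actGrpd a).e x) := CMGrp.isCMAt_snd X _
  obtain ⟨Z, u, hZ, -, hft, hfl, hqf, hxr⟩ := Groth.Agent.GrpQ.H769.Slice.exists_slice (actGrpd a) x hx hCM
  let Z' : Over S := Over.mk (u ≫ X.hom)
  let u' : Z' ⟶ X := Over.homMk u rfl
  exact ⟨Z', u', hZ, hft, (orb_iff a u' @Flat).mpr hfl, (orb_iff a u' @LocallyQuasiFinite).mpr hqf, hxr⟩


/-- the translate `(g, (h, z)) ↦ (g h, z)` -/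
theorem exists_translate {Z : Over S} (u : Z ⟶ X) :
    ∃ m : G ⊗ (G ⊗ Z) ⟶ G ⊗ Z, m ≫ orb a u = (G ◁ orb a u) ≫ a.act := by
  refine ⟨(α_ G G Z).inv ≫ (μ[G] ▷ Z), ?_⟩
  rw [orb, Category.assoc, ← whisker_exchange_assoc, a.mul_act]
  simp

/-- the image of an orbit morphism is invariant -/
theorem orb_invariant {Z : Over S} (u : Z ⟶ X) (r : (G ⊗ X).left)
    (hr : (snd G X).left r ∈ Set.range (orb a u).left) : a.act.left r ∈ Set.range (orb a u).left := by
  obtain ⟨w, hw⟩ := hr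
  obtain ⟨m, hm⟩ := exists_translate a u
  obtain ⟨v, hv, -⟩ := Scheme.exists_preimage_of_isPullback
    (K957.Cart.isPullback_whisker_left (G := G) (orb a u)) r w hw.symm
  refine ⟨m.left v, ?_⟩
  rw [← Scheme.Hom.comp_apply, ← Over.comp_left, hm, Over.comp_left, Scheme.Hom.comp_apply, hv]

/-- the image of an orbit morphism is saturated -/
theorem orb_saturated {Z : Over S} (u : Z ⟶ X) {φ : X ⟶ Y} (hi : GIT.IsInvariant a φ)
    (h : Surjective (GIT.PsiY a φ hi)) (x x' : X.left) (hx : x ∈ Set.range (orb a u).left)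
    (he : φ.left x' = φ.left x) : x' ∈ Set.range (orb a u).left := by
  obtain ⟨p, hp1, hp2⟩ := Scheme.Pullback.exists_preimage_pullback (f := φ.left) (g := φ.left) x' x he
  obtain ⟨r, rfl⟩ := h.surj p
  have e1 : GIT.PsiY a φ hi ≫ pullback.fst φ.left φ.left = a.act.left := pullback.lift_fst _ _ _
  have e2 : GIT.PsiY a φ hi ≫ pullback.snd φ.left φ.left = (snd G X).left := pullback.lift_snd _ _ _
  have h1 : a.act.left r = x' := by rw [← hp1, ← Scheme.Hom.comp_apply, e1]
  have h2 : (snd G X).left r = x := by rw [← hp2, ← Scheme.Hom.comp_apply, e2]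
  rw [← h1]
  exact orb_invariant a u r (by rw [h2]; exact hx)

/-- base change of a finite flat slice -/
theorem restrict_slice {X₁ T N X' V : Over S} (a₁ : AlgGrp.Action G X₁) (φ₁ : X₁ ⟶ T) (u : V ⟶ X₁)
    [Flat (orb a₁ u).left] [IsFinite (orb a₁ u).left] [IsFinite (u ≫ φ₁).left] (g : N ⟶ T) [IsAffine N.left]
    (hN : ∀ x, φ₁.left x ∈ Set.range g.left → x ∈ Set.range (orb a₁ u).left) {ρ : X' ⟶ X₁} {φ' : X' ⟶ N}
    (hpb : IsPullback ρ φ' φ₁ g) (a' : AlgGrp.Action G X') (ha' : a'.act ≫ ρ = (G ◁ ρ) ≫ a₁.act) :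
    ∃ (Z : Over S) (u' : Z ⟶ X'), IsAffine Z.left ∧ LocallyOfFiniteType u'.left ∧
      Flat (orb a' u').left ∧ IsFinite (orb a' u').left ∧ Surjective (orb a' u').left := by
  let Z : Over S := Over.mk (pullback.fst u.left ρ.left ≫ V.hom)
  let b : Z ⟶ V := Over.homMk (pullback.fst u.left ρ.left) rfl
  let u' : Z ⟶ X' := Over.homMk (pullback.snd u.left ρ.left) (by
    change pullback.snd u.left ρ.left ≫ X'.hom = pullback.fst u.left ρ.left ≫ V.hom
    rw [← Over.w ρ, ← Over.w u, pullback.condition_assoc])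
  have hZ : IsPullback b u' u ρ := isPullback_over (IsPullback.of_hasPullback u.left ρ.left)
  have horb := isPullback_left (isPullback_orb a₁ u a' ha' hZ)
  have h2 : IsPullback b (u' ≫ φ') (u ≫ φ₁) g := hZ.paste_vert hpb
  have h3 : IsFinite (u' ≫ φ').left := MorphismProperty.of_isPullback (isPullback_left h2) ‹_›
  have h4 : IsAffine Z.left := isAffine_of_isAffineHom (u' ≫ φ').left
  refine ⟨Z, u', h4, ?_, ?_, ?_, ?_⟩
  · have : LocallyOfFiniteType (u'.left ≫ φ'.left) := by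
      rw [← Over.comp_left]
      infer_instance
    exact locallyOfFiniteType_of_comp u'.left φ'.left
  · exact MorphismProperty.of_isPullback horb ‹_›
  · exact MorphismProperty.of_isPullback horb ‹_›
  · refine ⟨fun x => ?_⟩
    have h5 : ρ.left x ∈ Set.range (orb a₁ u).left := by
      apply hN
      refine ⟨φ'.left x, ?_⟩
      rw [← Scheme.Hom.comp_apply, ← Scheme.Hom.comp_apply, ← Over.comp_left, ← Over.comp_left, hpb.w]
    obtain ⟨w, hw⟩ := h5
    obtain ⟨v, -, hv⟩ := Scheme.exists_preimage_of_isPullback horb w x hw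
    exact ⟨v, hv⟩

/-- finite slices near a point, after an étale base change -/
theorem exists_finite_slice {Z : Over S} (a : AlgGrp.Action G X) (u : Z ⟶ X) [Flat (orb a u).left]
    [LocallyQuasiFinite (orb a u).left] {φ : X ⟶ Y} (hi : GIT.IsInvariant a φ)
    (hp : IsProper (GIT.PsiY a φ hi)) [IsSeparated (u ≫ φ).left] [LocallyOfFiniteType (u ≫ φ).left] (z : Z.left)
    (hz : (u ≫ φ).left.QuasiFiniteAt z) :
    ∃ (T : Over S) (g : T ⟶ Y) (X₁ : Over S) (pr : X₁ ⟶ X) (φ₁ : X₁ ⟶ T) (_ : IsPullback pr φ₁ φ g)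
      (a₁ : AlgGrp.Action G X₁) (V : Over S) (v : V ⟶ X₁) (w : V.left), Etale g.left ∧
      a₁.act ≫ pr = (G ◁ pr) ≫ a.act ∧ GIT.IsInvariant a₁ φ₁ ∧ Flat (orb a₁ v).left ∧
      IsFinite (orb a₁ v).left ∧ IsFinite (v ≫ φ₁).left ∧ g.left ((v ≫ φ₁).left w) = (u ≫ φ).left z := by
  obtain ⟨T₀, g₀, hg₀, -, V, W, v₀, -, hfin, hv₀⟩ := exists_etale_isCompl_of_quasiFiniteAt (u ≫ φ).left rfl hz
  let T : Over S := Over.mk (g₀ ≫ Y.hom)
  let g : T ⟶ Y := Over.homMk g₀ rfl
  let X₁ : Over S := Over.mk (pullback.fst φ.left g₀ ≫ X.hom)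
  let pr : X₁ ⟶ X := Over.homMk (pullback.fst φ.left g₀) rfl
  let φ₁ : X₁ ⟶ T := Over.homMk (pullback.snd φ.left g₀) (by
    change pullback.snd φ.left g₀ ≫ g₀ ≫ Y.hom = pullback.fst φ.left g₀ ≫ X.hom
    rw [← pullback.condition_assoc, Over.w])
  have hX : IsPullback pr φ₁ φ g := isPullback_over (IsPullback.of_hasPullback φ.left g₀)
  let Z₁ : Over S := Over.mk (pullback.fst (u ≫ φ).left g₀ ≫ Z.hom)
  let b : Z₁ ⟶ Z := Over.homMk (pullback.fst (u ≫ φ).left g₀) rfl
  let c : Z₁ ⟶ T := Over.homMk (pullback.snd (u ≫ φ).left g₀) (by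
    change pullback.snd (u ≫ φ).left g₀ ≫ g₀ ≫ Y.hom = pullback.fst (u ≫ φ).left g₀ ≫ Z.hom
    rw [← pullback.condition_assoc, Over.w])
  have hZ : IsPullback b c (u ≫ φ) g := isPullback_over (IsPullback.of_hasPullback (u ≫ φ).left g₀)
  let u₁ : Z₁ ⟶ X₁ := hX.lift (b ≫ u) c (by rw [Category.assoc, hZ.w])
  have hu1 : u₁ ≫ pr = b ≫ u := hX.lift_fst _ _ _
  have hu2 : u₁ ≫ φ₁ = c := hX.lift_snd _ _ _
  have hu : IsPullback b u₁ u pr := by
    refine IsPullback.of_bot (v₂₁ := φ₁) (v₂₂ := φ) (h₃₁ := g) ?_ hu1.symm hX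
    rw [hu2]
    exact hZ
  let a₁ := bcAct hX a hi
  have ha₁ : a₁.act ≫ pr = (G ◁ pr) ≫ a.act := bcAct_pr _ _ _
  have hi₁ : GIT.IsInvariant a₁ φ₁ := bcAct_inv _ _ _
  let V' : Over S := Over.mk (V.ι ≫ Z₁.hom)
  let ιV : V' ⟶ Z₁ := Over.homMk V.ι rfl
  have horb := isPullback_left (isPullback_orb a u a₁ ha₁ hu)
  have h1 : Flat (orb a₁ u₁).left := MorphismProperty.of_isPullback horb ‹_›
  have h2 : LocallyQuasiFinite (orb a₁ u₁).left := MorphismProperty.of_isPullback horb ‹_›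
  have hιV : IsOpenImmersion ιV.left := inferInstanceAs (IsOpenImmersion V.ι)
  have hGι : IsOpenImmersion (G ◁ ιV).left :=
    MorphismProperty.of_isPullback (K957.Cart.isPullback_whisker_left (G := G) ιV).flip hιV
  have he : (orb a₁ (ιV ≫ u₁)).left = (G ◁ ιV).left ≫ (orb a₁ u₁).left := by
    rw [← Over.comp_left, orb, orb, MonoidalCategory.whiskerLeft_comp, Category.assoc]
  have h3 : Flat (orb a₁ (ιV ≫ u₁)).left := by rw [he]; infer_instance
  have h4 : LocallyQuasiFinite (orb a₁ (ιV ≫ u₁)).left := by rw [he]; infer_instance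
  have h5 : IsFinite ((ιV ≫ u₁) ≫ φ₁).left := by
    rw [Category.assoc, hu2]
    exact hfin
  have h6 : IsProper (GIT.PsiY a₁ φ₁ hi₁) :=
    MorphismProperty.of_isPullback (GeomBase.isPullback_PsiY hX a₁ ha₁ hi hi₁) hp
  have h7 : IsProper (orb a₁ (ιV ≫ u₁)).left := isProper_orb hi₁ h6 inferInstance
  refine ⟨T, g, X₁, pr, φ₁, hX, a₁, V', ιV ≫ u₁, v₀, hg₀, ha₁, hi₁, h3, ?_, h5, ?_⟩
  · exact IsFinite.of_isProper_of_locallyQuasiFinite _
  · have e1 : ((ιV ≫ u₁) ≫ φ₁) ≫ g = ιV ≫ b ≫ u ≫ φ := by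
      rw [Category.assoc, Category.assoc, reassoc_of% hu2, ← hZ.w]
    have e2 : ((ιV ≫ u₁) ≫ φ₁).left ≫ g.left = (V.ι ≫ pullback.fst (u ≫ φ).left g₀) ≫ (u ≫ φ).left := by
      rw [← Over.comp_left, e1, Category.assoc]
      rfl
    rw [← Scheme.Hom.comp_apply, e2, Scheme.Hom.comp_apply]
    exact congrArg (u ≫ φ).left hv₀

end

section

variable {k : Type u} [Field k] {G X Y : Over (Spec (CommRingCat.of k))} [GrpObj G]
  [LocallyOfFiniteType G.hom] [QuasiCompact G.hom]
  [LocallyOfFiniteType X.hom] [QuasiCompact X.hom] [IsSeparated Y.hom]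

/-- étale locally on the base there is a finite flat slice -/
theorem exists_etale_slice (a : AlgGrp.Action G X) (hp : IsProper (GIT.psi a (𝟙 X)).left)
    (hj : LocallyQuasiFinite (GIT.psi a (𝟙 X)).left) (φ : X ⟶ Y) (h : GIT.IsGeomQuot a φ) (y : Y.left)
    (hy : IsClosed ({y} : Set Y.left)) :
    ∃ (N : Over (Spec (CommRingCat.of k))) (g : N ⟶ Y), Etale g.left ∧ IsAffine N.left ∧
      y ∈ Set.range g.left ∧
      ∀ (X' : Over (Spec (CommRingCat.of k))) (pr : X' ⟶ X) (φ' : X' ⟶ N) (_ : IsPullback pr φ' φ g)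
        (a' : AlgGrp.Action G X') (_ : a'.act ≫ pr = (G ◁ pr) ≫ a.act) (_ : GIT.IsInvariant a' φ'),
        ∃ (Z : Over (Spec (CommRingCat.of k))) (u : Z ⟶ X'), IsAffine Z.left ∧ LocallyOfFiniteType u.left ∧
          Flat (orb a' u).left ∧ IsFinite (orb a' u).left ∧ Surjective (orb a' u).left := by
  have hS : IsLocallyNoetherian (Spec (CommRingCat.of k)) := inferInstance
  have hflat : Flat G.hom := inferInstance
  have hcompS : CompactSpace (Spec (CommRingCat.of k)) := inferInstance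
  have hXc : CompactSpace X.left := QuasiCompact.compactSpace_of_compactSpace X.hom
  have hXn : IsLocallyNoetherian X.left := LocallyOfFiniteType.isLocallyNoetherian X.hom
  have hpsi : GIT.PsiY a φ h.inv ≫ K957.Bundle.toProd φ = (GIT.psi a (𝟙 X)).left :=
    K957.Bundle.psiY_toProd a φ h.inv
  have hpY : IsProper (GIT.PsiY a φ h.inv) := by
    have : IsProper (GIT.PsiY a φ h.inv ≫ K957.Bundle.toProd φ) := by rw [hpsi]; exact hp
    exact IsProper.of_comp _ (K957.Bundle.toProd φ)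
  -- a closed point over `y`
  obtain ⟨x, hxy, hx⟩ := (hy.preimage φ.left.continuous).exists_closed_singleton (h.surj y)
  have hx' : ClosedInFib X.hom x := by
    intro x' h1 _
    have h2 : x' ∈ closure {x} := specializes_iff_mem_closure.mp h1
    rw [hx.closure_eq] at h2
    exact h2
  obtain ⟨Z, u, hZ, hu, hfl, hqf, z, rfl⟩ := exists_slice a hj x hx'
  have hqc : QuasiCompact (orb a u).left := by
    have h1 : CompactSpace (G ⊗ Z).left := by
      have h2 : QuasiCompact (snd G Z).left := inferInstanceAs (QuasiCompact (pullback.snd G.hom Z.hom))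
      exact QuasiCompact.compactSpace_of_compactSpace (snd G Z).left
    infer_instance
  have hft : LocallyOfFiniteType (u ≫ φ).left := by
    rw [Over.comp_left]
    have h1 : LocallyOfFiniteType (φ.left ≫ Y.hom) := by rw [Over.w]; infer_instance
    have h2 : LocallyOfFiniteType φ.left := locallyOfFiniteType_of_comp φ.left Y.hom
    infer_instance
  have hfin : ∀ y, ((u ≫ φ).left ⁻¹' {y}).Finite := finite_fibre h.inv ⟨h.orbit⟩
  have hlqf : LocallyQuasiFinite (u ≫ φ).left := LocallyQuasiFinite.of_finite_preimage_singleton _ hfin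
  have hsep : IsSeparated (u ≫ φ).left := by
    have h1 : IsSeparated ((u ≫ φ).left ≫ Y.hom) := by
      rw [Over.w]
      infer_instance
    exact IsSeparated.of_comp _ Y.hom
  obtain ⟨T, g, X₁, pr, φ₁, hX, a₁, V, v, w, hg, ha₁, hi₁, h1, h2, h3, h4⟩ :=
    exists_finite_slice a u h.inv hpY z ((u ≫ φ).left.quasiFiniteAt z)
  -- the image of the orbit morphism
  have hX₁n : IsLocallyNoetherian X₁.left := by
    have : LocallyOfFiniteType pr.left := by
      have : LocallyOfFiniteType g.left := inferInstance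
      exact MorphismProperty.of_isPullback (isPullback_left hX).flip this
    exact LocallyOfFiniteType.isLocallyNoetherian pr.left
  have hopen : IsOpen (Set.range (orb a₁ v).left) := (orb a₁ v).left.isOpenMap.isOpen_range
  have hq : IsQuotientMap φ₁.left := h.subm _ _ _ (isPullback_left hX).flip
  have hpY₁ : Surjective (GIT.PsiY a₁ φ₁ hi₁) :=
    MorphismProperty.of_isPullback (GeomBase.isPullback_PsiY hX a₁ ha₁ h.inv hi₁)
      (show Surjective (GIT.PsiY a φ h.inv) from ⟨h.orbit⟩)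
  have hsat : φ₁.left ⁻¹' (φ₁.left '' Set.range (orb a₁ v).left) = Set.range (orb a₁ v).left := by
    apply Set.Subset.antisymm _ (Set.subset_preimage_image _ _)
    rintro x' ⟨x, hx, he⟩
    exact orb_saturated a₁ v hi₁ hpY₁ x x' hx he.symm
  let N₀ : T.left.Opens := ⟨φ₁.left '' Set.range (orb a₁ v).left, by
    rw [← hq.isOpen_preimage, hsat]
    exact hopen⟩
  have hwN : (v ≫ φ₁).left w ∈ N₀ := by
    refine ⟨v.left w, ?_, by rw [← Scheme.Hom.comp_apply]; rfl⟩
    refine ⟨(lift (toUnit V ≫ η[G]) (𝟙 V)).left w, ?_⟩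
    rw [← Scheme.Hom.comp_apply, ← Over.comp_left]
    have : lift (toUnit V ≫ η[G]) (𝟙 V) ≫ orb a₁ v = v := by
      have h5 := lift_one_act a₁ v
      rw [orb, lift_whiskerLeft_assoc, Category.id_comp]
      exact h5
    rw [this]
  obtain ⟨N, hN, hwN', hle⟩ := exists_isAffineOpen_mem_and_subset hwN
  have hNaff : IsAffine (YW T N).left := hN
  refine ⟨YW T N, iW T N ≫ g, ?_, hN, ?_, ?_⟩
  · have : IsOpenImmersion (iW T N).left := inferInstanceAs (IsOpenImmersion N.ι)
    rw [Over.comp_left]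
    infer_instance
  · refine ⟨⟨_, hwN'⟩, ?_⟩
    have e : (u ≫ φ).left z = φ.left (u.left z) := by rw [← Scheme.Hom.comp_apply]; rfl
    have hxy' : φ.left (u.left z) = y := hxy
    rw [← hxy', ← e, ← h4]
    rfl
  · intro X' pr' φ' hpb a' ha' hi'
    let ρ : X' ⟶ X₁ := hX.lift pr' (φ' ≫ iW T N) (by rw [hpb.w, Category.assoc])
    have hρ1 : ρ ≫ pr = pr' := hX.lift_fst _ _ _
    have hρ2 : ρ ≫ φ₁ = φ' ≫ iW T N := hX.lift_snd _ _ _
    have hρ : IsPullback ρ φ' φ₁ (iW T N) := by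
      refine IsPullback.of_right ?_ hρ2 hX
      rw [hρ1]
      exact hpb
    have ha'' : a'.act ≫ ρ = (G ◁ ρ) ≫ a₁.act := by
      apply hX.hom_ext
      · rw [Category.assoc, hρ1, ha', Category.assoc, ha₁, ← MonoidalCategory.whiskerLeft_comp_assoc, hρ1]
      · have hi'' : a'.act ≫ φ' = snd G X' ≫ φ' := hi'
        have hi₁' : a₁.act ≫ φ₁ = snd G X₁ ≫ φ₁ := hi₁
        rw [Category.assoc, hρ2, reassoc_of% hi'', Category.assoc, hi₁', whiskerLeft_snd_assoc, hρ2]
    refine restrict_slice a₁ φ₁ v (iW T N) ?_ hρ a' ha''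
    rintro x ⟨n, hn⟩
    rw [← hsat]
    change φ₁.left x ∈ N₀
    rw [← hn]
    exact hle n.2

end

end K686.EtSlice
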