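import Groth.Agent.GIT.K686.PushRing
import Mathlib.RingTheory.Flat.Basic
import Mathlib.RingTheory.RingHom.Flat

/-!
# Flat base change of equalizers of rings
-/

set_option autoImplicit false
set_option backward.isDefEq.respectTransparency false
universe u v
open CategoryTheory TensorProduct

namespace K686.PushRing

section

variable {A B C D : CommRingCat.{u}} {f : A ⟶ B} {g : A ⟶ C} {i : B ⟶ D} {j : C ⟶ D}

/-- the tensor product computes the pushout -/
theorem exists_equiv (h : IsPushout f g i j) :
    letI := f.hom.toAlgebra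
    letI := g.hom.toAlgebra
    ∃ e : TensorProduct A B C →+ D, Function.Bijective e ∧ ∀ b c, e (b ⊗ₜ[A] c) = i b * j c := by
  let _ := f.hom.toAlgebra
  let _ := g.hom.toAlgebra
  let e := (CommRingCat.isPushout_tensorProduct A B C).isoIsPushout _ _ h
  have h1 : ∀ b, e.hom (Algebra.TensorProduct.includeLeftRingHom b) = i b := fun b ↦
    ConcreteCategory.congr_hom
      ((CommRingCat.isPushout_tensorProduct A B C).inl_isoIsPushout_hom _ _ h) b
  have h2 : ∀ c, e.hom (Algebra.TensorProduct.includeRight c) = j c := fun c ↦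
    ConcreteCategory.congr_hom
      ((CommRingCat.isPushout_tensorProduct A B C).inr_isoIsPushout_hom _ _ h) c
  refine ⟨e.hom.hom.toAddMonoidHom, ConcreteCategory.bijective_of_isIso e.hom, fun b c => ?_⟩
  rw [← h1, ← h2, ← map_mul]
  have : (Algebra.TensorProduct.includeLeftRingHom b * Algebra.TensorProduct.includeRight c : TensorProduct A B C)
      = b ⊗ₜ[A] c := by simp
  rw [this]
  rfl

end

variable {A B C A' B' C' : CommRingCat.{u}} {f : A ⟶ B} {c : A ⟶ C} {g : A ⟶ A'} {b : B ⟶ B'}
  {f' : A' ⟶ B'} {c' : A' ⟶ C'} {γ : C ⟶ C'}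

/-- flat base change of equalizers -/
theorem flat_equalizer (h : IsPushout f g b f') (h2 : IsPushout c g γ c') (hg : g.hom.Flat)
    (p q : B ⟶ C) (hp : f ≫ p = c) (hq : f ≫ q = c) (p' q' : B' ⟶ C') (hp1 : b ≫ p' = p ≫ γ)
    (hp2 : f' ≫ p' = c') (hq1 : b ≫ q' = q ≫ γ) (hq2 : f' ≫ q' = c') (hinj : Function.Injective f)
    (hex : ∀ x, p x = q x → x ∈ Set.range f) :
    Function.Injective f' ∧ ∀ x, p' x = q' x → x ∈ Set.range f' := by
  obtain ⟨e, he, he1⟩ := exists_equiv h
  obtain ⟨eC, heC, heC1⟩ := exists_equiv h2
  let _ := f.hom.toAlgebra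
  let _ := c.hom.toAlgebra
  let _ := g.hom.toAlgebra
  have : Module.Flat A A' := hg
  let F : A →ₗ[A] B := Algebra.linearMap A B
  have hpl : ∀ (a : A) (x : B), p (f a * x) = c a * p x := by
    intro a x
    rw [map_mul, ← CommRingCat.comp_apply, hp]
  have hql : ∀ (a : A) (x : B), q (f a * x) = c a * q x := by
    intro a x
    rw [map_mul, ← CommRingCat.comp_apply, hq]
  let D : B →ₗ[A] C :=
    { toFun := fun x => p x - q x
      map_add' := fun x y => by rw [map_add, map_add]; ring
      map_smul' := fun a x => by
        rw [Algebra.smul_def, Algebra.smul_def]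
        change p (f a * x) - q (f a * x) = c a * (p x - q x)
        rw [hpl, hql]
        ring }
  have hex' : Function.Exact F D := by
    intro x
    constructor
    · intro hx
      exact hex x (sub_eq_zero.mp hx)
    · rintro ⟨a, rfl⟩
      change p (f a) - q (f a) = 0
      rw [← CommRingCat.comp_apply, hp, ← CommRingCat.comp_apply, hq, sub_self]
  have hF : ∀ a' : A', e (F.rTensor A' ((TensorProduct.lid A A').symm a')) = f' a' := by
    intro a'
    rw [TensorProduct.lid_symm_apply, LinearMap.rTensor_tmul, he1]
    change b (f 1) * f' a' = f' a'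
    rw [map_one, map_one, one_mul]
  constructor
  · intro x y hxy
    rw [← hF, ← hF] at hxy
    have h3 := Module.Flat.rTensor_preserves_injective_linearMap (M := A') F hinj (he.1 hxy)
    exact (TensorProduct.lid A A').symm.injective h3
  · intro x hx
    obtain ⟨t, rfl⟩ := he.2 x
    have h4 : ∀ t, eC (D.rTensor A' t) = p' (e t) - q' (e t) := by
      intro t
      induction t using TensorProduct.induction_on with
      | zero => simp
      | tmul y z =>
        have k1 : p' (b y) = γ (p y) := by rw [← CommRingCat.comp_apply, hp1, CommRingCat.comp_apply]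
        have k2 : q' (b y) = γ (q y) := by rw [← CommRingCat.comp_apply, hq1, CommRingCat.comp_apply]
        have k3 : p' (f' z) = c' z := by rw [← CommRingCat.comp_apply, hp2]
        have k4 : q' (f' z) = c' z := by rw [← CommRingCat.comp_apply, hq2]
        rw [LinearMap.rTensor_tmul, heC1, he1, map_mul, map_mul, k1, k2, k3, k4]
        change γ (p y - q y) * c' z = γ (p y) * c' z - γ (q y) * c' z
        rw [map_sub]
        ring
      | add y z hy hz => rw [map_add, map_add, map_add, map_add, map_add, hy, hz]; ring
    have h5 : D.rTensor A' t = 0 := by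
      apply heC.1
      rw [h4, hx, sub_self, map_zero]
    obtain ⟨s, rfl⟩ := (Module.Flat.rTensor_exact A' hex' t).mp h5
    obtain ⟨a', rfl⟩ := (TensorProduct.lid A A').symm.surjective s
    exact ⟨a', (hF a').symm⟩

end K686.PushRing
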