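import Groth.Agent.GIT.K686.LocQuot
import Groth.Agent.GIT.K686.Orbit
import Groth.Agent.GIT.K686.Whisk
import Groth.Agent.Books.BorelOrb
import Mathlib.FieldTheory.IsAlgClosed.AlgebraicClosure

/-!
# Affine quotients by closed actions are geometric quotients
-/

set_option autoImplicit false
universe u
open CategoryTheory MonoidalCategory CartesianMonoidalCategory MonObj AlgebraicGeometry Topology
open Groth.Agent.Books.BorelOrb

namespace K686.GeomAff

variable {S : Scheme.{u}} {G : Over S} [GrpObj G] {X Y : Over S} {a : AlgGrp.Action G X} {φ : X ⟶ Y}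

/-- the action of `G` on `X ⊗ T` -/
noncomputable def actT (h : GIT.IsInvariant a φ) (T : Over S) : AlgGrp.Action G (X ⊗ T) :=
  bcAct (Whisk.isPullback_whiskerRight φ T).flip a h

theorem actT_fst (h : GIT.IsInvariant a φ) (T : Over S) :
    (actT h T).act ≫ fst X T = (G ◁ fst X T) ≫ a.act := bcAct_pr _ _ _

theorem actT_inv (h : GIT.IsInvariant a φ) (T : Over S) : GIT.IsInvariant (actT h T) (φ ▷ T) := bcAct_inv _ _ _

theorem actT_snd (h : GIT.IsInvariant a φ) (T : Over S) :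
    (actT h T).act ≫ snd X T = snd G (X ⊗ T) ≫ snd X T := by
  have h1 : (actT h T).act ≫ (φ ▷ T) = snd G (X ⊗ T) ≫ (φ ▷ T) := actT_inv h T
  have h2 := congrArg (fun t => t ≫ snd Y T) h1
  simpa using h2

theorem whisker_psi_act (h : GIT.IsInvariant a φ) {T : Over S} (f : T ⟶ X) :
    (G ◁ GIT.psi a f) ≫ (actT h T).act = ((α_ G G T).inv ≫ (μ[G] ▷ T)) ≫ GIT.psi a f := by
  apply CartesianMonoidalCategory.hom_ext
  · rw [Category.assoc, actT_fst, ← MonoidalCategory.whiskerLeft_comp_assoc]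
    have h1 : GIT.psi a f ≫ fst X T = (G ◁ f) ≫ a.act := lift_fst _ _
    rw [h1, Category.assoc, Category.assoc, h1, ← whisker_exchange_assoc, a.mul_act,
      MonoidalCategory.whiskerLeft_comp, Category.assoc]
    rw [← associator_inv_naturality_right_assoc]
    simp
  · rw [Category.assoc, actT_snd]
    have h1 : GIT.psi a f ≫ snd X T = snd G T := lift_snd _ _
    rw [whiskerLeft_snd_assoc, h1, Category.assoc, Category.assoc, h1]
    simp

/-- orbits are invariant sets -/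
theorem invSet_range_psi (h : GIT.IsInvariant a φ) {T : Over S} (f : T ⟶ X) :
    InvSet (actT h T) (Set.range (GIT.psi a f).left) := by
  intro w hw
  obtain ⟨v, hv⟩ := hw
  have hp : IsPullback (G ◁ GIT.psi a f).left (snd G (G ⊗ T)).left (snd G (X ⊗ T)).left (GIT.psi a f).left :=
    isPullback_left (Whisk.isPullback_whiskerLeft (GIT.psi a f) G)
  obtain ⟨u', hu1, hu2⟩ := Scheme.Pullback.exists_preimage_pullback w v hv.symm
  let u := hp.isoPullback.inv u'
  have hu : (G ◁ GIT.psi a f).left u = w := by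
    rw [← hu1, ← Scheme.Hom.comp_apply, hp.isoPullback_inv_fst]
  rw [← hu, ← Scheme.Hom.comp_apply, ← Over.comp_left, whisker_psi_act h f, Over.comp_left,
    Scheme.Hom.comp_apply]
  exact ⟨_, rfl⟩

theorem one_psi {T : Over S} (f : T ⟶ X) : lift (1 : T ⟶ G) (𝟙 T) ≫ GIT.psi a f = lift f (𝟙 T) := by
  rw [GIT.psi, comp_lift]
  congr 1
  · rw [← Category.assoc, lift_whiskerLeft, Category.id_comp]
    exact one_sm a f
  · rw [lift_snd]

theorem exists_smul (h : IsAffQuot a φ) (H : Haar G) [IsAffine X.left] [IsAffine Y.left] [IsAffine S]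
    {T : Over S} [IsAffine T.left] [Nonempty T.left] (f₁ f₂ : T ⟶ X) (hf : f₁ ≫ φ = f₂ ≫ φ)
    (hc₁ : IsClosed (Set.range (GIT.psi a f₁).left)) (hc₂ : IsClosed (Set.range (GIT.psi a f₂).left)) :
    ∃ (T' : Over S) (p : T' ⟶ T) (g : T' ⟶ G), Nonempty T'.left ∧ sm a g (p ≫ f₂) = p ≫ f₁ := by
  have : IsAffine (X ⊗ T).left := inferInstanceAs (IsAffine (Limits.pullback X.hom T.hom))
  have : IsAffine (Y ⊗ T).left := inferInstanceAs (IsAffine (Limits.pullback Y.hom T.hom))
  have hT : IsAffQuot (actT h.inv T) (φ ▷ T) :=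
    h.baseChange H (fst X T) (φ ▷ T) (fst Y T) (isPullback_left (Whisk.isPullback_whiskerRight φ T).flip)
      (actT h.inv T) (actT_fst h.inv T) (actT_inv h.inv T)
  have hne : ¬ (⋂ b : Bool, Set.range (GIT.psi a (cond b f₁ f₂)).left) = ∅ := by
    intro he
    have h1 := hT.iInter_image_eq_empty H (fun b : Bool => Set.range (GIT.psi a (cond b f₁ f₂)).left)
      (by rintro (_ | _) <;> assumption) (fun b => invSet_range_psi h.inv _) he
    obtain ⟨t⟩ := ‹Nonempty T.left›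
    have h2 : (φ ▷ T).left ((lift f₁ (𝟙 T)).left t) ∈
        ⋂ b : Bool, (φ ▷ T).left '' Set.range (GIT.psi a (cond b f₁ f₂)).left := by
      rw [Set.mem_iInter]
      have hh : lift f₁ (𝟙 T) ≫ (φ ▷ T) = lift f₂ (𝟙 T) ≫ (φ ▷ T) := by
        simp [hf]
      rintro (_ | _)
      · rw [← Scheme.Hom.comp_apply, ← Over.comp_left, hh, Over.comp_left, Scheme.Hom.comp_apply]
        refine ⟨_, ⟨(lift (1 : T ⟶ G) (𝟙 T)).left t, ?_⟩, rfl⟩
        rw [← Scheme.Hom.comp_apply, ← Over.comp_left]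
        exact congrArg (fun q => q.left t) (one_psi (a := a) f₂)
      · refine ⟨_, ⟨(lift (1 : T ⟶ G) (𝟙 T)).left t, ?_⟩, rfl⟩
        rw [← Scheme.Hom.comp_apply, ← Over.comp_left]
        exact congrArg (fun q => q.left t) (one_psi (a := a) f₁)
    exact (Set.eq_empty_iff_forall_notMem.mp h1) _ h2
  obtain ⟨z, hz⟩ := Set.nonempty_iff_ne_empty.mpr hne
  rw [Set.mem_iInter] at hz
  obtain ⟨v₁, hv₁⟩ := hz true
  obtain ⟨v₂, hv₂⟩ := hz false
  change (GIT.psi a f₁).left v₁ = z at hv₁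
  change (GIT.psi a f₂).left v₂ = z at hv₂
  obtain ⟨w, -, -⟩ := Scheme.Pullback.exists_preimage_pullback v₁ v₂ (hv₁.trans hv₂.symm)
  let P := Limits.pullback (GIT.psi a f₁).left (GIT.psi a f₂).left
  let T' : Over S := Over.mk (Limits.pullback.fst (GIT.psi a f₁).left (GIT.psi a f₂).left ≫ (G ⊗ T).hom)
  let u₁ : T' ⟶ G ⊗ T := Over.homMk (Limits.pullback.fst (GIT.psi a f₁).left (GIT.psi a f₂).left) rfl
  have hcond := Limits.pullback.condition (f := (GIT.psi a f₁).left) (g := (GIT.psi a f₂).left)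
  let u₂ : T' ⟶ G ⊗ T := Over.homMk (Limits.pullback.snd (GIT.psi a f₁).left (GIT.psi a f₂).left) (by
    rw [← Over.w (GIT.psi a f₂), ← Category.assoc, ← hcond, Category.assoc, Over.w]
    rfl)
  have hu : u₁ ≫ GIT.psi a f₁ = u₂ ≫ GIT.psi a f₂ := by
    apply Over.OverMorphism.ext
    exact hcond
  have hu2 : u₁ ≫ snd G T = u₂ ≫ snd G T := by
    have := congrArg (fun q => q ≫ snd X T) hu
    simpa [GIT.psi] using this
  have hpsi : ∀ (f : T ⟶ X) (u : T' ⟶ G ⊗ T), u ≫ GIT.psi a f ≫ fst X T = sm a (u ≫ fst G T) ((u ≫ snd G T) ≫ f) := by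
    intro f u
    have h1 : GIT.psi a f ≫ fst X T = (G ◁ f) ≫ a.act := lift_fst _ _
    rw [h1, sm]
    have h2 : u ≫ (G ◁ f) = lift (u ≫ fst G T) ((u ≫ snd G T) ≫ f) := by
      apply CartesianMonoidalCategory.hom_ext <;> simp
    rw [← h2, Category.assoc]
  have hu1 : sm a (u₁ ≫ fst G T) ((u₁ ≫ snd G T) ≫ f₁) = sm a (u₂ ≫ fst G T) ((u₁ ≫ snd G T) ≫ f₂) := by
    rw [← hpsi, hu2, ← hpsi, ← Category.assoc, hu, Category.assoc]
  refine ⟨T', u₁ ≫ snd G T, (u₁ ≫ fst G T)⁻¹ * (u₂ ≫ fst G T), ⟨w⟩, ?_⟩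
  rw [mul_sm, ← hu1, ← mul_sm, inv_mul_cancel, one_sm]

/-- over an affine base change, closed actions have surjective `PsiY` -/
theorem orbit_surjective (h : IsAffQuot a φ) (H : Haar G) [IsAffine X.left] [IsAffine Y.left] [IsAffine S]
    (hc : GIT.IsClosedAction a) {X' Y' : Over S} {pr : X' ⟶ X} {φ' : X' ⟶ Y'} {g : Y' ⟶ Y}
    (hp : IsPullback pr φ' φ g) (a' : AlgGrp.Action G X') (ha' : a'.act ≫ pr = (G ◁ pr) ≫ a.act)
    (hinv : GIT.IsInvariant a' φ') : Function.Surjective (GIT.PsiY a' φ' hinv).base := by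
  intro z
  let κ := (Limits.pullback φ'.left φ'.left).residueField z
  let Ω := AlgebraicClosure κ
  obtain ⟨t, ht⟩ : ∃ t : Spec (CommRingCat.of Ω) ⟶ Limits.pullback φ'.left φ'.left, ∀ x, t x = z := by
    refine ⟨Spec.map (CommRingCat.ofHom (algebraMap κ Ω)) ≫
      (Limits.pullback φ'.left φ'.left).fromSpecResidueField z, fun x => ?_⟩
    rw [Scheme.Hom.comp_apply]
    exact Scheme.fromSpecResidueField_apply z _
  let T : Over S := Over.mk (t ≫ Limits.pullback.fst φ'.left φ'.left ≫ X'.hom)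
  have hcond := Limits.pullback.condition (f := φ'.left) (g := φ'.left)
  let x₁ : T ⟶ X' := Over.homMk (t ≫ Limits.pullback.fst φ'.left φ'.left) (by
    rw [Category.assoc]; rfl)
  have hw : (t ≫ Limits.pullback.snd φ'.left φ'.left) ≫ X'.hom = T.hom := by
    have h1 : Limits.pullback.fst φ'.left φ'.left ≫ X'.hom = Limits.pullback.snd φ'.left φ'.left ≫ X'.hom := by
      rw [← Over.w φ', ← Category.assoc, hcond, Category.assoc]
    rw [Category.assoc, ← h1]
    rfl
  let x₂ : T ⟶ X' := Over.homMk (t ≫ Limits.pullback.snd φ'.left φ'.left) hw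
  have hx : x₁ ≫ φ' = x₂ ≫ φ' := by
    apply Over.OverMorphism.ext
    change (t ≫ Limits.pullback.fst φ'.left φ'.left) ≫ φ'.left = (t ≫ Limits.pullback.snd φ'.left φ'.left) ≫ φ'.left
    rw [Category.assoc, hcond, Category.assoc]
  have hf : (x₁ ≫ pr) ≫ φ = (x₂ ≫ pr) ≫ φ := by
    rw [Category.assoc, hp.w, ← Category.assoc, hx, Category.assoc, Category.assoc, hp.w]
  have : IsAffine T.left := inferInstanceAs (IsAffine (Spec (CommRingCat.of Ω)))
  have : Nonempty T.left := inferInstanceAs (Nonempty (Spec (CommRingCat.of Ω)))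
  obtain ⟨T', p, γ, ⟨w⟩, hγ⟩ := exists_smul h H (x₁ ≫ pr) (x₂ ≫ pr) hf
    (hc Ω T (Iso.refl _) _) (hc Ω T (Iso.refl _) _)
  have hγ' : sm a' γ (p ≫ x₂) = p ≫ x₁ := by
    apply hp.hom_ext
    · rw [sm, Category.assoc, ha', ← Category.assoc, lift_whiskerLeft]
      have : lift γ ((p ≫ x₂) ≫ pr) ≫ a.act = sm a γ (p ≫ x₂ ≫ pr) := by rw [sm, Category.assoc]
      rw [this, hγ, Category.assoc]
    · have h1 : a'.act ≫ φ' = snd G X' ≫ φ' := hinv
      rw [sm, Category.assoc, h1, ← Category.assoc, lift_snd, Category.assoc, Category.assoc, hx]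
  refine ⟨(lift γ (p ≫ x₂)).left w, ?_⟩
  have h2 : (lift γ (p ≫ x₂)).left ≫ GIT.PsiY a' φ' hinv = p.left ≫ t := by
    apply Limits.pullback.hom_ext
    · rw [Category.assoc, Orbit.PsiY_fst, ← Over.comp_left]
      have : lift γ (p ≫ x₂) ≫ a'.act = p ≫ x₁ := hγ'
      rw [this, Over.comp_left, Category.assoc]
      rfl
    · rw [Category.assoc, Orbit.PsiY_snd, ← Over.comp_left, lift_snd, Over.comp_left, Category.assoc]
      rfl
  have h3 : (GIT.PsiY a' φ' hinv) ((lift γ (p ≫ x₂)).left w) = (p.left ≫ t) w := by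
    rw [← Scheme.Hom.comp_apply, h2]
  refine h3.trans ?_
  rw [Scheme.Hom.comp_apply]
  exact ht _

theorem isGeomQuot_bc (h : IsAffQuot a φ) (H : Haar G) [IsAffine X.left] [IsAffine Y.left] [IsAffine S]
    (hc : GIT.IsClosedAction a) {X' Y' : Over S} {pr : X' ⟶ X} {φ' : X' ⟶ Y'} {g : Y' ⟶ Y}
    (hp : IsPullback pr φ' φ g) (a' : AlgGrp.Action G X') (ha' : a'.act ≫ pr = (G ◁ pr) ≫ a.act)
    (hinv : GIT.IsInvariant a' φ') : GIT.IsGeomQuot a' φ' := by
  have hl := h.isLocQuot H pr φ' g hp a' ha' hinv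
  refine ⟨hinv, hl.surjective H, orbit_surjective h H hc hp a' ha' hinv, ?_, hl.sections⟩
  have h1 : GIT.IsUnivSubmersive φ.left := h.isUnivSubmersive H
  exact MorphismProperty.of_isPullback (P := MorphismProperty.universally (topologically @IsQuotientMap))
    (isPullback_left hp) h1

/-- affine quotients by closed actions are universal geometric quotients -/
theorem isUnivGeomQuot (h : IsAffQuot a φ) (H : Haar G) [IsAffine X.left] [IsAffine Y.left] [IsAffine S]
    (hc : GIT.IsClosedAction a) : GIT.IsUnivGeomQuot a φ := by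
  refine ⟨?_, fun X' Y' pr φ' g _ hp a' ha' hinv => isGeomQuot_bc h H hc hp a' ha' hinv⟩
  exact isGeomQuot_bc h H hc (IsPullback.of_horiz_isIso ⟨by simp⟩ : IsPullback (𝟙 X) φ φ (𝟙 Y)) a (by simp) h.inv

/-- affine quotients are geometric exactly when the action is closed -/
theorem main (h : IsAffQuot a φ) (H : Haar G) [IsAffine X.left] [IsAffine Y.left] [IsAffine S] :
    (GIT.IsGeomQuot a φ ↔ GIT.IsClosedAction a) ∧ (GIT.IsClosedAction a → GIT.IsUnivGeomQuot a φ) :=
  ⟨⟨fun hg => Orbit.isClosedAction_of_orbit hg.inv hg.orbit, fun hc => (isUnivGeomQuot h H hc).1⟩,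
    isUnivGeomQuot h H⟩

end K686.GeomAff
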