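import Groth.Agent.GIT.K686.LocQuot
import Groth.Agent.GIT.K686.FlatEq
import Groth.Agent.Ega3B.SteinComp
import Groth.Agent.EqInt.K957.Restr
import Groth.Agent.EqInt.K957.Cart
import Groth.Agent.EqInt.K957.UnivOpen

/-!
# Flat base change of geometric quotients

`isGeomQuot_flat`: the base change of a geometric quotient along a flat morphism is a geometric quotient.
-/

set_option autoImplicit false
universe u
open CategoryTheory MonoidalCategory CartesianMonoidalCategory MonObj AlgebraicGeometry Topology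
open Groth.Agent.GrpQ.H766.GeomQuotLocal

namespace K686

variable {S : Scheme.{u}} {G : Over S} [GrpObj G]

/-- flat base change of affine quotients -/
theorem IsAffQuot.flat_baseChange {X Y X' Y' : Over S} {a : AlgGrp.Action G X} {φ : X ⟶ Y}
    (h : IsAffQuot a φ) [IsAffine Y.left] [IsAffine Y'.left]
    (pr : X' ⟶ X) (φ' : X' ⟶ Y') (g : Y' ⟶ Y) [Flat g.left] [QuasiCompact φ.left] [QuasiSeparated φ.left]
    [QuasiCompact (snd G X).left] [QuasiSeparated (snd G X).left]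
    (hp : IsPullback pr.left φ'.left φ.left g.left) (a' : AlgGrp.Action G X')
    (ha' : a'.act ≫ pr = (G ◁ pr) ≫ a.act) (hinv : GIT.IsInvariant a' φ') :
    IsAffQuot a' φ' := by
  have hp2 : IsPullback (G ◁ pr).left ((snd G X').left ≫ φ'.left) ((snd G X).left ≫ φ.left) g.left :=
    (K957.Cart.isPullback_whisker_left (G := G) pr).paste_vert hp
  have hpo := Groth.Agent.Ega3B.SteinComp.isPushout_appTop hp
  have hpo2 := Groth.Agent.Ega3B.SteinComp.isPushout_appTop hp2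
  have hfl : g.left.appTop.hom.Flat := (HasRingHomProperty.iff_of_isAffine (P := @Flat)).mp inferInstance
  have c1 : ∀ {A B C : Scheme.{u}} (x : A ⟶ B) (y : B ⟶ C), y.appTop ≫ x.appTop = (x ≫ y).appTop :=
    fun x y => (Scheme.Hom.comp_appTop x y).symm
  have hi : a.act.left ≫ φ.left = (snd G X).left ≫ φ.left := h.inv.left
  have hi' : a'.act.left ≫ φ'.left = (snd G X').left ≫ φ'.left := hinv.left
  have h1 : a'.act.left ≫ pr.left = (G ◁ pr).left ≫ a.act.left := congrArg (fun t => t.left) ha'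
  have h2 : (snd G X').left ≫ pr.left = (G ◁ pr).left ≫ (snd G X).left :=
    congrArg (fun t => t.left) (whiskerLeft_snd G pr).symm
  have key := PushRing.flat_equalizer hpo hpo2 hfl a.act.left.appTop (snd G X).left.appTop
    (by rw [c1, hi]) (by rw [c1]) a'.act.left.appTop (snd G X').left.appTop
    (by rw [c1, c1, h1]) (by rw [c1, hi']) (by rw [c1, c1, h2]) (by rw [c1]) h.inj (by
      intro x hx
      rw [h.range]
      exact hx)
  refine ⟨hinv, key.1, Set.Subset.antisymm ?_ ?_⟩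
  · rintro _ ⟨r, rfl⟩
    exact inv_app hinv r
  · intro f hf
    exact key.2 f hf

namespace GeomBase

variable {X Y : Over S} {a : AlgGrp.Action G X} {φ : X ⟶ Y}

/-- invariance of a section over `W` and of its restriction -/
theorem inv_ρ_iff (hi : GIT.IsInvariant a φ) (W : Y.left.Opens) (f : Γ(X.left, φ.left ⁻¹ᵁ W)) :
    GIT.IsInvSection a φ W f ↔
      Haar.Inv (bcAct (isPullback_W φ W) a hi) (IsLocQuot.ρ X (φ.left ⁻¹ᵁ W) f) := by
  refine ⟨IsLocQuot.inv_ρ hi W f, fun hf => ?_⟩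
  set j := iW X (φ.left ⁻¹ᵁ W) with hj
  set a' := bcAct (isPullback_W φ W) a hi with ha'
  have w1 : a'.act ≫ j = (G ◁ j) ≫ a.act := bcAct_pr _ _ _
  have w2 : snd G _ ≫ j = (G ◁ j) ≫ snd G X := (whiskerLeft_snd G j).symm
  have w1' : a'.act.left ≫ j.left = (G ◁ j).left ≫ a.act.left := congrArg (fun t => t.left) w1
  have w2' : (snd G _).left ≫ j.left = (G ◁ j).left ≫ (snd G X).left := congrArg (fun t => t.left) w2
  have m1 := appLE_apply_appLE a'.act.left j.left (φ.left ⁻¹ᵁ W) ⊤ ⊤ (IsLocQuot.top_le X _) le_top f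
  have m2 := appLE_apply_appLE (snd G (YW X (φ.left ⁻¹ᵁ W))).left j.left (φ.left ⁻¹ᵁ W) ⊤ ⊤
    (IsLocQuot.top_le X _) le_top f
  rw [IsLocQuot.appLE_top] at m1 m2
  have hopen : IsOpenImmersion (G ◁ j).left :=
    inferInstanceAs (IsOpenImmersion (G ◁ K957.Restr.iU (φ.left ⁻¹ᵁ W)).left)
  have hrange : (G ◁ j).left.opensRange = (snd G X).left ⁻¹ᵁ (φ.left ⁻¹ᵁ W) :=
    K957.Restr.opensRange_whisker (G := G) (φ.left ⁻¹ᵁ W)
  have e3 : (⊤ : (G ⊗ YW X (φ.left ⁻¹ᵁ W)).left.Opens) =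
      (G ◁ j).left ⁻¹ᵁ (a.act.left ⁻¹ᵁ (φ.left ⁻¹ᵁ W) ⊓ (snd G X).left ⁻¹ᵁ (φ.left ⁻¹ᵁ W)) := by
    apply le_antisymm _ le_top
    intro x _
    refine ⟨?_, ?_⟩
    · change ((G ◁ j).left ≫ a.act.left) x ∈ φ.left ⁻¹ᵁ W
      rw [← w1']
      exact IsLocQuot.top_le X (φ.left ⁻¹ᵁ W) (Set.mem_univ _)
    · change ((G ◁ j).left ≫ (snd G X).left) x ∈ φ.left ⁻¹ᵁ W
      rw [← w2']
      exact IsLocQuot.top_le X (φ.left ⁻¹ᵁ W) (Set.mem_univ _)
  have k1 := appLE_apply_appLE (G ◁ j).left a.act.left (φ.left ⁻¹ᵁ W)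
    (a.act.left ⁻¹ᵁ (φ.left ⁻¹ᵁ W) ⊓ (snd G X).left ⁻¹ᵁ (φ.left ⁻¹ᵁ W)) ⊤ inf_le_left e3.le f
  have k2 := appLE_apply_appLE (G ◁ j).left (snd G X).left (φ.left ⁻¹ᵁ W)
    (a.act.left ⁻¹ᵁ (φ.left ⁻¹ᵁ W) ⊓ (snd G X).left ⁻¹ᵁ (φ.left ⁻¹ᵁ W)) ⊤ inf_le_right e3.le f
  have n1 := appLE_congr_hom w1' (φ.left ⁻¹ᵁ W) ⊤ (le_trans le_top (a'.act.left.preimage_mono
    (IsLocQuot.top_le X _))) f
  have n2 := appLE_congr_hom w2' (φ.left ⁻¹ᵁ W) ⊤
    (le_trans le_top ((snd G (YW X (φ.left ⁻¹ᵁ W))).left.preimage_mono (IsLocQuot.top_le X _))) f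
  have hinj := (appLE_bijective (G ◁ j).left
    (a.act.left ⁻¹ᵁ (φ.left ⁻¹ᵁ W) ⊓ (snd G X).left ⁻¹ᵁ (φ.left ⁻¹ᵁ W)) ⊤ (by
      rw [hrange]; exact inf_le_right) e3).1
  exact hinj ((k1.trans (n1.symm.trans m1.symm)).trans (hf.trans (m2.trans (n2.trans k2.symm))))

/-- a geometric quotient is an affine quotient over each open of the base -/
theorem isAffQuot_W (h : GIT.IsGeomQuot a φ) (W : Y.left.Opens) :
    IsAffQuot (bcAct (isPullback_W φ W) a h.inv) (φW φ W) := by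
  refine ⟨bcAct_inv _ _ _, ?_, Set.Subset.antisymm ?_ ?_⟩
  · intro f g hfg
    obtain ⟨f, rfl⟩ := (IsLocQuot.ρ_bijective Y W).2 f
    obtain ⟨g, rfl⟩ := (IsLocQuot.ρ_bijective Y W).2 g
    rw [← IsLocQuot.ρ_app, ← IsLocQuot.ρ_app] at hfg
    rw [(h.sections W).1 ((IsLocQuot.ρ_bijective X _).1 hfg)]
  · rintro _ ⟨r, rfl⟩
    exact IsAffQuot.inv_app (bcAct_inv _ _ _) r
  · intro f hf
    obtain ⟨f, rfl⟩ := (IsLocQuot.ρ_bijective X (φ.left ⁻¹ᵁ W)).2 f
    have h1 : f ∈ Set.range (φ.left.app W) := by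
      rw [(h.sections W).2]
      exact (inv_ρ_iff h.inv W f).mpr hf
    obtain ⟨g, rfl⟩ := h1
    exact ⟨IsLocQuot.ρ Y W g, (IsLocQuot.ρ_app φ W g).symm⟩

/-- sections of the quotient are the invariant sections, if so on a basis of opens of the base -/
theorem sections_of_basis (hi : GIT.IsInvariant a φ)
    (H : ∀ (W : Y.left.Opens) (y : Y.left), y ∈ W → ∃ W' : Y.left.Opens, y ∈ W' ∧ W' ≤ W ∧
      IsAffQuot (bcAct (isPullback_W φ W') a hi) (φW φ W')) (U : Y.left.Opens) :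
    Function.Injective (φ.left.app U) ∧ Set.range (φ.left.app U) = {f | GIT.IsInvSection a φ U f} := by
  have hinj' : ∀ W : Y.left.Opens, Function.Injective (φ.left.app W) := by
    refine inj_of_local φ.left ?_
    intro W y hy
    obtain ⟨W', hy', hle, hq⟩ := H W y hy
    refine ⟨W', hy', hle, ?_⟩
    intro f g hfg
    apply (IsLocQuot.ρ_bijective Y W').1
    apply hq.inj
    rw [← IsLocQuot.ρ_app, ← IsLocQuot.ρ_app, hfg]
  refine ⟨hinj' U, Set.Subset.antisymm ?_ ?_⟩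
  · rintro _ ⟨g, rfl⟩
    have k1 := appLE_apply_appLE a.act.left φ.left U (φ.left ⁻¹ᵁ U)
      (a.act.left ⁻¹ᵁ (φ.left ⁻¹ᵁ U) ⊓ (snd G X).left ⁻¹ᵁ (φ.left ⁻¹ᵁ U)) le_rfl inf_le_left g
    have k2 := appLE_apply_appLE (snd G X).left φ.left U (φ.left ⁻¹ᵁ U)
      (a.act.left ⁻¹ᵁ (φ.left ⁻¹ᵁ U) ⊓ (snd G X).left ⁻¹ᵁ (φ.left ⁻¹ᵁ U)) le_rfl inf_le_right g
    rw [Scheme.Hom.appLE_eq_app] at k1 k2
    exact k1.trans ((appLE_congr_hom hi.left _ _ _ _).trans k2.symm)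
  · intro f hf
    obtain ⟨g, hg⟩ := sec_of_local a.act.left (snd G X).left φ.left hinj' (fun W y hy => by
      obtain ⟨W', hy', hle, hq⟩ := H W y hy
      refine ⟨W', hy', hle, fun f hf => ?_⟩
      have h1 := IsLocQuot.inv_ρ hi W' f hf
      have h2 : IsLocQuot.ρ X (φ.left ⁻¹ᵁ W') f ∈ Set.range (φW φ W').left.appTop := by
        rw [hq.range]; exact h1
      obtain ⟨g', hg'⟩ := h2
      obtain ⟨g, rfl⟩ := (IsLocQuot.ρ_bijective Y W').2 g'
      refine ⟨g, (IsLocQuot.ρ_bijective X _).1 ?_⟩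
      rw [IsLocQuot.ρ_app, hg']) U f hf
    exact ⟨g, hg⟩

/-- base change of `PsiY` -/
theorem isPullback_PsiY {X' Y' : Over S} {pr : X' ⟶ X} {φ' : X' ⟶ Y'} {g : Y' ⟶ Y}
    (hp : IsPullback pr φ' φ g) (a' : AlgGrp.Action G X') (ha' : a'.act ≫ pr = (G ◁ pr) ≫ a.act)
    (hi : GIT.IsInvariant a φ) (hi' : GIT.IsInvariant a' φ') :
    IsPullback (G ◁ pr).left (GIT.PsiY a' φ' hi') (GIT.PsiY a φ hi)
      (K957.UnivOpen.mapKer (isPullback_left hp).w) := by
  have H : IsPullback pr.left φ'.left φ.left g.left := isPullback_left hp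
  have h1 := K957.UnivOpen.isPullback_mapKer_snd H
  have h2 := K957.Cart.isPullback_whisker_left (G := G) pr
  have e1 : GIT.PsiY a φ hi ≫ Limits.pullback.snd φ.left φ.left = (snd G X).left :=
    Limits.pullback.lift_snd _ _ _
  have e2 : GIT.PsiY a' φ' hi' ≫ Limits.pullback.snd φ'.left φ'.left = (snd G X').left :=
    Limits.pullback.lift_snd _ _ _
  have e3 : (G ◁ pr).left ≫ GIT.PsiY a φ hi = GIT.PsiY a' φ' hi' ≫ K957.UnivOpen.mapKer H.w := by
    apply Limits.pullback.hom_ext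
    · rw [Category.assoc, Category.assoc, K957.UnivOpen.mapKer_fst, GIT.PsiY, GIT.PsiY,
        Limits.pullback.lift_fst, Limits.pullback.lift_fst_assoc, ← Over.comp_left, ← Over.comp_left, ha']
    · rw [Category.assoc, Category.assoc, K957.UnivOpen.mapKer_snd, GIT.PsiY, GIT.PsiY,
        Limits.pullback.lift_snd, Limits.pullback.lift_snd_assoc, ← Over.comp_left, ← Over.comp_left,
        whiskerLeft_snd]
  refine IsPullback.of_bot ?_ e3 h1
  rw [e1, e2]
  exact h2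

/-- the restriction of a morphism to opens of source and target -/
noncomputable abbrev qWW {Y' : Over S} (g : Y' ⟶ Y) (W : Y.left.Opens) (W' : Y'.left.Opens)
    (hle : W' ≤ g.left ⁻¹ᵁ W) : YW Y' W' ⟶ YW Y W :=
  Over.homMk (g.left.resLE W W' hle) (by
    change g.left.resLE W W' hle ≫ W.ι ≫ Y.hom = W'.ι ≫ Y'.hom
    rw [Scheme.Hom.resLE_comp_ι_assoc, Over.w])

/-- base change of affine opens: the square over affine opens of both bases -/
theorem isPullback_WW {X' Y' : Over S} {pr : X' ⟶ X} {φ' : X' ⟶ Y'} {g : Y' ⟶ Y}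
    (hp : IsPullback pr φ' φ g) (W : Y.left.Opens) (W' : Y'.left.Opens) (hle : W' ≤ g.left ⁻¹ᵁ W) :
    ∃ (r : YW X' (φ'.left ⁻¹ᵁ W') ⟶ YW X (φ.left ⁻¹ᵁ W)),
      IsPullback r (φW φ' W') (φW φ W) (qWW g W W' hle) ∧
      r ≫ iW X (φ.left ⁻¹ᵁ W) = iW X' (φ'.left ⁻¹ᵁ W') ≫ pr := by
  let q := qWW g W W' hle
  have hq : q ≫ iW Y W = iW Y' W' ≫ g := by
    apply Over.OverMorphism.ext
    exact Scheme.Hom.resLE_comp_ι _ _
  have hP := isPullback_W φ W
  have hP' := isPullback_W φ' W'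
  have hw : iW X' (φ'.left ⁻¹ᵁ W') ≫ pr ≫ φ = (φW φ' W' ≫ q) ≫ iW Y W := by
    rw [hp.w, Category.assoc, hq, ← Category.assoc, hP'.w, Category.assoc]
  refine ⟨hP.lift (iW X' (φ'.left ⁻¹ᵁ W') ≫ pr) (φW φ' W' ≫ q) (by rw [Category.assoc, hw]), ?_,
    hP.lift_fst _ _ _⟩
  refine IsPullback.of_right ?_ (hP.lift_snd _ _ _) hP
  rw [hP.lift_fst, hq]
  exact hP'.paste_horiz hp

/-- flat base change of geometric quotients -/
theorem isGeomQuot_flat (h : GIT.IsGeomQuot a φ) {X' Y' : Over S} {pr : X' ⟶ X} {φ' : X' ⟶ Y'} {g : Y' ⟶ Y}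
    [Flat g.left] [QuasiCompact φ.left] [QuasiSeparated φ.left] [QuasiCompact G.hom] [QuasiSeparated G.hom]
    (hp : IsPullback pr φ' φ g) (a' : AlgGrp.Action G X') (ha' : a'.act ≫ pr = (G ◁ pr) ≫ a.act)
    (hi' : GIT.IsInvariant a' φ') : GIT.IsGeomQuot a' φ' where
  inv := hi'
  surj := by
    have h1 : Surjective φ.left := ⟨h.surj⟩
    have h2 : Surjective φ'.left := MorphismProperty.of_isPullback (isPullback_left hp) h1
    exact h2.surj
  orbit := by
    have h1 : Surjective (GIT.PsiY a φ h.inv) := ⟨h.orbit⟩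
    have h2 : Surjective (GIT.PsiY a' φ' hi') :=
      MorphismProperty.of_isPullback (isPullback_PsiY hp a' ha' h.inv hi') h1
    exact h2.surj
  subm := by
    intro X'' Y'' i₁ i₂ f' H
    exact h.subm (i₁ ≫ pr.left) (i₂ ≫ g.left) f' (H.paste_vert (isPullback_left hp).flip)
  sections := by
    refine sections_of_basis hi' ?_
    intro W' y' hy'
    obtain ⟨W, hW, hy, -⟩ := exists_isAffineOpen_mem_and_subset (U := ⊤) (x := g.left y') (Set.mem_univ _)
    obtain ⟨V', hV', hyV', hle⟩ := exists_isAffineOpen_mem_and_subset (U := W' ⊓ g.left ⁻¹ᵁ W) (x := y')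
      ⟨hy', hy⟩
    refine ⟨V', hyV', fun x hx => (hle hx).1, ?_⟩
    obtain ⟨r, hrq, hr⟩ := isPullback_WW hp W V' (fun x hx => (hle hx).2)
    have h1 := isAffQuot_W h W
    have : IsAffine (YW Y W).left := hW
    have : IsAffine (YW Y' V').left := hV'
    have e1 : QuasiCompact (φW φ W).left := inferInstanceAs (QuasiCompact (φ.left ∣_ W))
    have e2 : QuasiSeparated (φW φ W).left := inferInstanceAs (QuasiSeparated (φ.left ∣_ W))
    have e3 : Flat (qWW g W V' (fun x hx => (hle hx).2)).left :=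
      inferInstanceAs (Flat (g.left.resLE W V' _))
    have e4 : QuasiCompact (snd G (YW X (φ.left ⁻¹ᵁ W))).left :=
      inferInstanceAs (QuasiCompact (Limits.pullback.snd G.hom _))
    have e5 : QuasiSeparated (snd G (YW X (φ.left ⁻¹ᵁ W))).left :=
      inferInstanceAs (QuasiSeparated (Limits.pullback.snd G.hom _))
    refine h1.flat_baseChange r (φW φ' V') _ (isPullback_left hrq) _ ?_ (bcAct_inv _ _ _)
    have hm : Mono (iW X (φ.left ⁻¹ᵁ W)) := inferInstanceAs (Mono (K957.Restr.iU (φ.left ⁻¹ᵁ W)))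
    rw [← cancel_mono (iW X (φ.left ⁻¹ᵁ W)), Category.assoc, Category.assoc, hr, bcAct_pr, ← Category.assoc,
      bcAct_pr, Category.assoc, ha', ← MonoidalCategory.whiskerLeft_comp_assoc,
      ← MonoidalCategory.whiskerLeft_comp_assoc, hr]

end GeomBase

end K686
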