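import Mathlib.Algebra.Category.Ring.Constructions
import Mathlib.AlgebraicGeometry.Morphisms.Affine
import Mathlib.RingTheory.TensorProduct.Maps

/-!
# Additive maps out of a pushout of rings
-/

set_option autoImplicit false
set_option backward.isDefEq.respectTransparency false
universe u v
open CategoryTheory

namespace K686.PushRing

variable {A B C D : CommRingCat.{u}} {f : A ⟶ B} {g : A ⟶ C} {i : B ⟶ D} {j : C ⟶ D}

/-- every element of a pushout is a sum of products -/
theorem induction (h : IsPushout f g i j) {P : D → Prop} (hmul : ∀ b c, P (i b * j c))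
    (hadd : ∀ x y, P x → P y → P (x + y)) (d : D) : P d := by
  let _ := f.hom.toAlgebra
  let _ := g.hom.toAlgebra
  let e := (CommRingCat.isPushout_tensorProduct A B C).isoIsPushout _ _ h
  have h1 : ∀ b, e.hom (Algebra.TensorProduct.includeLeftRingHom b) = i b := fun b ↦
    ConcreteCategory.congr_hom
      ((CommRingCat.isPushout_tensorProduct A B C).inl_isoIsPushout_hom _ _ h) b
  have h2 : ∀ c, e.hom (Algebra.TensorProduct.includeRight c) = j c := fun c ↦
    ConcreteCategory.congr_hom
      ((CommRingCat.isPushout_tensorProduct A B C).inr_isoIsPushout_hom _ _ h) c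
  obtain ⟨t, rfl⟩ : ∃ t, e.hom t = d := ⟨e.inv d, by simp⟩
  induction t using TensorProduct.induction_on with
  | zero =>
    have := hmul 0 0
    rw [map_zero, zero_mul] at this
    rwa [map_zero]
  | tmul b c =>
    have : (b ⊗ₜ[A] c : TensorProduct A B C) =
        Algebra.TensorProduct.includeLeftRingHom b * Algebra.TensorProduct.includeRight c := by
      simp
    rw [this, map_mul, h1, h2]
    exact hmul b c
  | add x y hx hy => rw [map_add]; exact hadd _ _ hx hy

/-- balanced biadditive maps extend to the pushout -/
theorem exists_addHom (h : IsPushout f g i j) {M : Type v} [AddCommGroup M] (β : B →+ C →+ M)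
    (hβ : ∀ a b c, β (f a * b) c = β b (g a * c)) :
    ∃ I : D →+ M, ∀ b c, I (i b * j c) = β b c := by
  let _ := f.hom.toAlgebra
  let _ := g.hom.toAlgebra
  let e := (CommRingCat.isPushout_tensorProduct A B C).isoIsPushout _ _ h
  have h1 : ∀ b, e.hom (Algebra.TensorProduct.includeLeftRingHom b) = i b := fun b ↦
    ConcreteCategory.congr_hom
      ((CommRingCat.isPushout_tensorProduct A B C).inl_isoIsPushout_hom _ _ h) b
  have h2 : ∀ c, e.hom (Algebra.TensorProduct.includeRight c) = j c := fun c ↦
    ConcreteCategory.congr_hom
      ((CommRingCat.isPushout_tensorProduct A B C).inr_isoIsPushout_hom _ _ h) c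
  let J : TensorProduct A B C →+ M := TensorProduct.liftAddHom β (by
    intro r b c
    rw [Algebra.smul_def, Algebra.smul_def]
    exact hβ r b c)
  refine ⟨J.comp e.inv.hom.toAddMonoidHom, fun b c => ?_⟩
  have h3 : e.inv (i b * j c) = b ⊗ₜ[A] c := by
    rw [← h1, ← h2, ← map_mul]
    have : (Algebra.TensorProduct.includeLeftRingHom b * Algebra.TensorProduct.includeRight c : TensorProduct A B C)
        = b ⊗ₜ[A] c := by simp
    rw [this]
    simp
  change J (e.inv (i b * j c)) = _
  rw [h3]
  rfl

/-- if `f` has an additive `A`-linear retraction then `j` is injective -/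
theorem injective_of_retraction (h : IsPushout f g i j) (E : B →+ A) (hE : ∀ a b, E (f a * b) = a * E b)
    (h1 : E 1 = 1) : Function.Injective j := by
  obtain ⟨I, hI⟩ := exists_addHom h (M := C)
    ((AddMonoidHom.mul (R := C)).comp (g.hom.toAddMonoidHom.comp E)) (by
      intro a b c
      change g (E (f a * b)) * c = g (E b) * (g a * c)
      rw [hE, map_mul]
      ring)
  have h2 : ∀ c, I (j c) = c := by
    intro c
    have := hI 1 c
    rw [map_one, one_mul] at this
    rw [this]
    change g (E 1) * c = c
    rw [h1, map_one, one_mul]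
  intro x y hxy
  rw [← h2 x, ← h2 y, hxy]

end K686.PushRing
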