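import Groth.Prelude.Def_W4bk4git07Quot
import Groth.Agent.GIT.K686.PushRing

/-!
# Averaging over a group scheme

`Haar G`: a natural system of `Γ(X)`-linear maps `∫ : Γ(G × X) → Γ(X)`, `X` affine, with `∫ 1 = 1`, invariant
under translations.  For an action of `G` on an affine `X` it gives the Reynolds operator
`H.E a : Γ(X) → Γ(X)`, the projection onto the invariant functions.
-/

set_option autoImplicit false
universe u
open CategoryTheory MonoidalCategory CartesianMonoidalCategory MonObj AlgebraicGeometry Topology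

namespace K686

variable {S : Scheme.{u}}

/-- a normalized invariant integral on a group scheme -/
structure Haar (G : Over S) [GrpObj G] where
  /-- integration along the fibres of `G × X → X` -/
  int (X : Over S) : Γ((G ⊗ X).left, ⊤) →+ Γ(X.left, ⊤)
  int_mul (X : Over S) [IsAffine X.left] (r : Γ(X.left, ⊤)) (F : Γ((G ⊗ X).left, ⊤)) :
    int X ((snd G X).left.appTop r * F) = r * int X F
  int_one (X : Over S) [IsAffine X.left] : int X 1 = 1
  map_int {X' X : Over S} [IsAffine X'.left] [IsAffine X.left] (p : X' ⟶ X) (F : Γ((G ⊗ X).left, ⊤)) :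
    p.left.appTop (int X F) = int X' ((G ◁ p).left.appTop F)
  int_mulmap (X : Over S) [IsAffine X.left] (F : Γ((G ⊗ X).left, ⊤)) :
    int (G ⊗ X) (((α_ G G X).inv ≫ (μ[G] ▷ X)).left.appTop F) = (snd G X).left.appTop (int X F)
  affine (X : Over S) [IsAffine X.left] : IsAffine (G ⊗ X).left

namespace Haar

variable {G : Over S} [GrpObj G] (H : Haar G)

lemma comp_appTop' {X Y Z : Over S} (p : X ⟶ Y) (q : Y ⟶ Z) (f : Γ(Z.left, ⊤)) :
    (p ≫ q).left.appTop f = p.left.appTop (q.left.appTop f) := by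
  rw [Over.comp_left, Scheme.Hom.comp_appTop]; rfl

/-- The Reynolds operator. -/
noncomputable def E {X : Over S} (a : AlgGrp.Action G X) : Γ(X.left, ⊤) →+ Γ(X.left, ⊤) :=
  (H.int X).comp a.act.left.appTop.hom.toAddMonoidHom

lemma E_apply {X : Over S} (a : AlgGrp.Action G X) (f : Γ(X.left, ⊤)) : H.E a f = H.int X (a.act.left.appTop f) := rfl

/-- a global function is invariant -/
def Inv {X : Over S} (a : AlgGrp.Action G X) (f : Γ(X.left, ⊤)) : Prop :=
  a.act.left.appTop f = (snd G X).left.appTop f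

lemma int_snd {X : Over S} [IsAffine X.left] (f : Γ(X.left, ⊤)) : H.int X ((snd G X).left.appTop f) = f := by
  have := H.int_mul X f 1
  rwa [_root_.mul_one, int_one, _root_.mul_one] at this

lemma E_of_inv {X : Over S} [IsAffine X.left] (a : AlgGrp.Action G X) {f : Γ(X.left, ⊤)} (h : Inv a f) :
    H.E a f = f := by
  rw [E_apply, h, int_snd]

lemma E_mul {X : Over S} [IsAffine X.left] (a : AlgGrp.Action G X) {c : Γ(X.left, ⊤)} (h : Inv a c)
    (f : Γ(X.left, ⊤)) : H.E a (c * f) = c * H.E a f := by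
  rw [E_apply, map_mul, h, int_mul, E_apply]

lemma E_one {X : Over S} [IsAffine X.left] (a : AlgGrp.Action G X) : H.E a 1 = 1 := by
  rw [E_apply, map_one, int_one]

/-- values of the Reynolds operator are invariant -/
lemma inv_E {X : Over S} [IsAffine X.left] (a : AlgGrp.Action G X) (f : Γ(X.left, ⊤)) : Inv a (H.E a f) := by
  have := H.affine X
  rw [Inv, E_apply, H.map_int a.act, ← comp_appTop', ← H.int_mulmap, ← comp_appTop']
  congr 4
  rw [Category.assoc, a.mul_act, Iso.inv_hom_id_assoc]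

/-- naturality of the Reynolds operator -/
lemma map_E {X' X : Over S} [IsAffine X'.left] [IsAffine X.left] (a' : AlgGrp.Action G X') (a : AlgGrp.Action G X)
    (p : X' ⟶ X) (hp : a'.act ≫ p = (G ◁ p) ≫ a.act) (f : Γ(X.left, ⊤)) :
    p.left.appTop (H.E a f) = H.E a' (p.left.appTop f) := by
  rw [E_apply, E_apply, H.map_int p, ← comp_appTop', ← comp_appTop', hp]

lemma inv_iff {X : Over S} [IsAffine X.left] (a : AlgGrp.Action G X) (f : Γ(X.left, ⊤)) :
    Inv a f ↔ H.E a f = f :=
  ⟨H.E_of_inv a, fun h => h ▸ H.inv_E a f⟩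

end Haar

section Ideals

variable {G : Over S} [GrpObj G]

/-- The functions `f` such that `σ^* f` lies in the ideal generated by `p₂^* I`. -/
noncomputable def invIdeal {X : Over S} (a : AlgGrp.Action G X) (I : Ideal Γ(X.left, ⊤)) : Ideal Γ(X.left, ⊤) :=
  (I.map (snd G X).left.appTop.hom).comap a.act.left.appTop.hom

lemma mem_invIdeal {X : Over S} (a : AlgGrp.Action G X) (I : Ideal Γ(X.left, ⊤)) (f : Γ(X.left, ⊤)) :
    f ∈ invIdeal a I ↔ a.act.left.appTop f ∈ I.map (snd G X).left.appTop.hom := Iff.rfl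

/-- the section `x ↦ (1, x)` of `p₂` -/
noncomputable def unitSec (G : Over S) [GrpObj G] (X : Over S) : X ⟶ G ⊗ X := (λ_ X).inv ≫ (η[G] ▷ X)

lemma unitSec_act {X : Over S} (a : AlgGrp.Action G X) : unitSec G X ≫ a.act = 𝟙 X := by
  rw [unitSec, Category.assoc, a.one_act, Iso.inv_hom_id]

lemma unitSec_snd (X : Over S) : unitSec G X ≫ snd G X = 𝟙 X := by
  rw [unitSec, Category.assoc, whiskerRight_snd]
  simp

lemma invIdeal_le {X : Over S} (a : AlgGrp.Action G X) (I : Ideal Γ(X.left, ⊤)) : invIdeal a I ≤ I := by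
  intro f hf
  have h1 : (unitSec G X).left.appTop (a.act.left.appTop f) = f := by
    rw [← Haar.comp_appTop', unitSec_act]; simp
  rw [← h1]
  rw [mem_invIdeal] at hf
  have h2 : I.map (snd G X).left.appTop.hom ≤ I.comap (unitSec G X).left.appTop.hom := by
    rw [Ideal.map_le_iff_le_comap]
    intro g hg
    change (unitSec G X).left.appTop ((snd G X).left.appTop g) ∈ I
    rw [← Haar.comp_appTop', unitSec_snd]
    simpa using hg
  exact h2 hf

lemma mem_invIdeal_of_inv {X : Over S} (a : AlgGrp.Action G X) (I : Ideal Γ(X.left, ⊤)) {f : Γ(X.left, ⊤)}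
    (hf : f ∈ I) (h : Haar.Inv a f) : f ∈ invIdeal a I := by
  rw [mem_invIdeal, h]
  exact Ideal.mem_map_of_mem _ hf

lemma Haar.int_mem (H : Haar G) {X : Over S} [IsAffine X.left] (I : Ideal Γ(X.left, ⊤)) {F : Γ((G ⊗ X).left, ⊤)}
    (hF : F ∈ I.map (snd G X).left.appTop.hom) : H.int X F ∈ I := by
  suffices h : ∀ b, H.int X (b * F) ∈ I by
    have := h 1
    rwa [_root_.one_mul] at this
  induction hF using Submodule.span_induction with
  | mem x hx =>
    obtain ⟨r, hr, rfl⟩ := hx
    intro b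
    have : b * (snd G X).left.appTop.hom r = (snd G X).left.appTop r * b := mul_comm _ _
    rw [this, int_mul]
    exact I.mul_mem_right _ hr
  | zero => intro b; rw [mul_zero, map_zero]; exact I.zero_mem
  | add x y _ _ hx hy => intro b; rw [mul_add, map_add]; exact I.add_mem (hx b) (hy b)
  | smul c x _ hx => intro b; rw [smul_eq_mul, ← _root_.mul_assoc]; exact hx _

lemma Haar.E_mem (H : Haar G) {X : Over S} [IsAffine X.left] (a : AlgGrp.Action G X) (I : Ideal Γ(X.left, ⊤))
    {f : Γ(X.left, ⊤)} (hf : f ∈ invIdeal a I) : H.E a f ∈ invIdeal a I :=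
  mem_invIdeal_of_inv a I (H.int_mem I hf) (H.inv_E a f)

end Ideals

end K686
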