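import Groth.Agent.GIT.K686.Haar
import Groth.Agent.Magnet.K951.Pts
import Groth.Agent.Sga3B.AffHopf
import Groth.Agent.HopfRep.K191.Reductive

/-!
# The invariant integral on a linearly reductive affine group scheme
-/

set_option autoImplicit false
universe u
open CategoryTheory MonoidalCategory CartesianMonoidalCategory MonObj AlgebraicGeometry Topology Limits
open scoped TensorProduct

namespace K686.HaarOfInt

section General

variable {S : Scheme.{u}} [IsAffine S] {G : Over S} [GrpObj G] [IsAffine G.left]

/-- the product with an affine scheme is affine -/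
theorem affine (G X : Over S) [IsAffine G.left] [IsAffine X.left] : IsAffine (G ⊗ X).left :=
  inferInstanceAs (IsAffine (pullback G.hom X.hom))

/-- the functions on `G × X` -/
theorem isPushout (G X : Over S) [IsAffine G.left] [IsAffine X.left] :
    IsPushout G.hom.appTop X.hom.appTop (fst G X).left.appTop (snd G X).left.appTop :=
  isPushout_appTop_of_isPullback (IsPullback.of_hasPullback G.hom X.hom)

variable (α : Γ(G.left, ⊤) →+ Γ(S, ⊤)) (hα : ∀ c b, α (G.hom.appTop c * b) = c * α b)

include hα in
omit [GrpObj G] in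
theorem exists_int (X : Over S) [IsAffine X.left] : ∃ I : Γ((G ⊗ X).left, ⊤) →+ Γ(X.left, ⊤),
    ∀ b c, I ((fst G X).left.appTop b * (snd G X).left.appTop c) = X.hom.appTop (α b) * c :=
  PushRing.exists_addHom (isPushout G X) (M := Γ(X.left, ⊤))
    ((AddMonoidHom.mul (R := Γ(X.left, ⊤))).comp (X.hom.appTop.hom.toAddMonoidHom.comp α)) (by
      intro a b c
      change X.hom.appTop (α (G.hom.appTop a * b)) * c = X.hom.appTop (α b) * (X.hom.appTop a * c)
      rw [hα, map_mul]
      ring)

open Classical in
/-- the integral -/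
noncomputable def int (X : Over S) : Γ((G ⊗ X).left, ⊤) →+ Γ(X.left, ⊤) :=
  if _h : IsAffine X.left then (exists_int α hα X).choose else 0

omit [GrpObj G] in
theorem int_apply (X : Over S) [h : IsAffine X.left] (b : Γ(G.left, ⊤)) (c : Γ(X.left, ⊤)) :
    int α hα X ((fst G X).left.appTop b * (snd G X).left.appTop c) = X.hom.appTop (α b) * c := by
  rw [int, dif_pos h]
  exact (exists_int α hα X).choose_spec b c

omit [GrpObj G] in
theorem int_mul (X : Over S) [IsAffine X.left] (r : Γ(X.left, ⊤)) (F : Γ((G ⊗ X).left, ⊤)) :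
    int α hα X ((snd G X).left.appTop r * F) = r * int α hα X F := by
  induction F using PushRing.induction (isPushout G X) with
  | hmul b c =>
    have : (snd G X).left.appTop r * ((fst G X).left.appTop b * (snd G X).left.appTop c) =
        (fst G X).left.appTop b * (snd G X).left.appTop (r * c) := by
      rw [map_mul]; ring
    rw [this, int_apply, int_apply]
    ring
  | hadd x y hx hy => rw [mul_add, map_add, map_add, hx, hy, mul_add]

variable (h1 : α 1 = 1)

include h1 in
omit [GrpObj G] in
theorem int_one (X : Over S) [IsAffine X.left] : int α hα X 1 = 1 := by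
  have := int_apply α hα X 1 1
  rwa [map_one, map_one, h1, map_one, _root_.mul_one, _root_.mul_one] at this

omit [GrpObj G] in
theorem map_int {X' X : Over S} [IsAffine X'.left] [IsAffine X.left] (p : X' ⟶ X) (F : Γ((G ⊗ X).left, ⊤)) :
    p.left.appTop (int α hα X F) = int α hα X' ((G ◁ p).left.appTop F) := by
  induction F using PushRing.induction (isPushout G X) with
  | hmul b c =>
    have e1 : (G ◁ p).left.appTop ((fst G X).left.appTop b) = (fst G X').left.appTop b := by
      rw [← Haar.comp_appTop', whiskerLeft_fst]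
    have e2 : (G ◁ p).left.appTop ((snd G X).left.appTop c) = (snd G X').left.appTop (p.left.appTop c) := by
      rw [← Haar.comp_appTop', ← Haar.comp_appTop', whiskerLeft_snd]
    have e3 : p.left.appTop (X.hom.appTop (α b)) = X'.hom.appTop (α b) := by
      have : p.left ≫ X.hom = X'.hom := Over.w p
      rw [← this, Scheme.Hom.comp_appTop]
      rfl
    rw [int_apply, map_mul (p.left.appTop.hom), map_mul ((G ◁ p).left.appTop.hom), e1, e2, e3, int_apply]
  | hadd x y hx hy => simp only [map_add, hx, hy]

variable (hinv : ∀ b, int α hα G (μ[G].left.appTop b) = G.hom.appTop (α b))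

include hinv in
theorem int_mulmap (X : Over S) [IsAffine X.left] (F : Γ((G ⊗ X).left, ⊤)) :
    int α hα (G ⊗ X) (((α_ G G X).inv ≫ (μ[G] ▷ X)).left.appTop F) = (snd G X).left.appTop (int α hα X F) := by
  have := affine G X
  induction F using PushRing.induction (isPushout G X) with
  | hmul b c =>
    have w1 : ((α_ G G X).inv ≫ (μ[G] ▷ X)) ≫ fst G X = (G ◁ fst G X) ≫ μ[G] := by
      rw [Category.assoc, whiskerRight_fst, ← Category.assoc]
      congr 1
      apply CartesianMonoidalCategory.hom_ext <;> simp
    have w2 : ((α_ G G X).inv ≫ (μ[G] ▷ X)) ≫ snd G X = snd G (G ⊗ X) ≫ snd G X := by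
      rw [Category.assoc, whiskerRight_snd]
      simp
    have e1 : ((α_ G G X).inv ≫ (μ[G] ▷ X)).left.appTop ((fst G X).left.appTop b) =
        (G ◁ fst G X).left.appTop (μ[G].left.appTop b) := by
      rw [← Haar.comp_appTop', ← Haar.comp_appTop', w1]
    have e2 : ((α_ G G X).inv ≫ (μ[G] ▷ X)).left.appTop ((snd G X).left.appTop c) =
        (snd G (G ⊗ X)).left.appTop ((snd G X).left.appTop c) := by
      rw [← Haar.comp_appTop', ← Haar.comp_appTop', w2]
    have e3 : (fst G X).left.appTop (G.hom.appTop (α b)) = (snd G X).left.appTop (X.hom.appTop (α b)) := by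
      have h2 : (fst G X).left ≫ G.hom = (snd G X).left ≫ X.hom := (Over.w (fst G X)).trans (Over.w (snd G X)).symm
      have h3 := congrArg (fun t => t.appTop) h2
      rw [Scheme.Hom.comp_appTop, Scheme.Hom.comp_appTop] at h3
      exact congr($h3 (α b))
    rw [map_mul (((α_ G G X).inv ≫ (μ[G] ▷ X)).left.appTop.hom), e1, e2, mul_comm, int_mul, ← map_int, hinv,
      int_apply, map_mul (snd G X).left.appTop.hom, e3]
    exact mul_comm _ _
  | hadd x y hx hy => simp only [map_add, hx, hy]

/-- the invariant integral given by an invariant linear form -/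
noncomputable def haar : Haar G where
  int := int α hα
  int_mul X _ := int_mul α hα X
  int_one X _ := int_one α hα h1 X
  map_int p F := map_int α hα p F
  int_mulmap X _ F := int_mulmap α hα hinv X F
  affine X _ := affine G X

end General

section Hopf

open K951.Pts

attribute [local instance] K951.Pts.algΓ

variable {k : Type u} [Field k] {G : Over (Spec (CommRingCat.of k))} [GrpObj G]
  {C : Type u} [CommRing C] [HopfAlgebra k C] (e : CoactBr.sp k C ≅ G) [IsMonHom e.hom]

omit [GrpObj G] [IsMonHom e.hom] in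
theorem fn_bijective : Function.Bijective (fn e.inv) := by
  have h0 : IsIso e.inv.left := inferInstance
  have b1 := @ConcreteCategory.bijective_of_isIso _ _ _ _ _ _ _ _ e.inv.left.appTop
    (inferInstanceAs (IsIso (e.inv.left.app ⊤)))
  have b2 := ConcreteCategory.bijective_of_isIso (Scheme.ΓSpecIso (CommRingCat.of C)).inv
  exact b1.comp b2

/-- the coordinate ring of `G` -/
noncomputable def β : C ≃ₐ[k] Γ(G.left, ⊤) := AlgEquiv.ofBijective (fn e.inv) (fn_bijective e)

variable (α : C →ₗ[k] k)

/-- the linear form on the functions of `G` -/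
noncomputable def α' : Γ(G.left, ⊤) →+ Γ(Spec (CommRingCat.of k), ⊤) :=
  ((Scheme.ΓSpecIso (CommRingCat.of k)).inv.hom.toAddMonoidHom.comp α.toAddMonoidHom).comp
    (β e).symm.toRingEquiv.toRingHom.toAddMonoidHom

omit [GrpObj G] [IsMonHom e.hom] in
theorem α'_apply (b : Γ(G.left, ⊤)) : α' e α b = (Scheme.ΓSpecIso (CommRingCat.of k)).inv (α ((β e).symm b)) := rfl

omit [GrpObj G] [IsMonHom e.hom] in
theorem α'_β (x : C) : α' e α (β e x) = (Scheme.ΓSpecIso (CommRingCat.of k)).inv (α x) := by
  rw [α'_apply, AlgEquiv.symm_apply_apply]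

omit [GrpObj G] in
theorem hom_appTop (X : Over (Spec (CommRingCat.of k))) (c : k) :
    X.hom.appTop ((Scheme.ΓSpecIso (CommRingCat.of k)).inv c) = algebraMap k Γ(X.left, ⊤) c := rfl

omit [GrpObj G] [IsMonHom e.hom] in
theorem α'_mul (c : Γ(Spec (CommRingCat.of k), ⊤)) (b : Γ(G.left, ⊤)) :
    α' e α (G.hom.appTop c * b) = c * α' e α b := by
  obtain ⟨c, rfl⟩ : ∃ c₀, (Scheme.ΓSpecIso (CommRingCat.of k)).inv c₀ = c :=
    ⟨(Scheme.ΓSpecIso (CommRingCat.of k)).hom c, by simp⟩
  rw [hom_appTop, ← Algebra.smul_def, α'_apply, α'_apply, map_smul, map_smul, smul_eq_mul, map_mul]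

include e in
omit [GrpObj G] [IsMonHom e.hom] in
theorem isAffine : IsAffine G.left := by
  have : IsIso e.inv.left := inferInstance
  have : IsAffine (CoactBr.sp k C).left := inferInstanceAs (IsAffine (Spec (CommRingCat.of C)))
  exact IsAffine.of_isIso e.inv.left

omit [GrpObj G] [IsMonHom e.hom] in
theorem int_lift [IsAffine G.left] (t : C ⊗[k] C) :
    int (α' e α) (α'_mul e α) G (Algebra.TensorProduct.lift (fn (fst G G ≫ e.inv)) (fn (snd G G ≫ e.inv))
      (fun _ _ => .all _ _) t) = β e (TensorProduct.lid k C (α.rTensor C t)) := by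
  induction t using TensorProduct.induction_on with
  | zero => simp
  | tmul x y =>
    have h1 : Algebra.TensorProduct.lift (fn (fst G G ≫ e.inv)) (fn (snd G G ≫ e.inv))
        (fun _ _ => .all _ _) (x ⊗ₜ y) = (fst G G).left.appTop (β e x) * (snd G G).left.appTop (β e y) := by
      rw [Algebra.TensorProduct.lift_tmul, fn_comp, fn_comp]
      rfl
    rw [h1, int_apply, α'_β, hom_appTop, LinearMap.rTensor_tmul, TensorProduct.lid_tmul, map_smul,
      Algebra.smul_def]
  | add x y hx hy => simp only [map_add, hx, hy]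

theorem int_inv [IsAffine G.left] (hα : K191.Integral.IsInt α) (b : Γ(G.left, ⊤)) :
    int (α' e α) (α'_mul e α) G (μ[G].left.appTop b) = G.hom.appTop (α' e α b) := by
  obtain ⟨x, rfl⟩ := (β e).surjective b
  have h1 : μ[G].left.appTop (β e x) = fn (μ[G] ≫ e.inv) x := (fn_comp _ _ _).symm
  have h2 : μ[G] ≫ e.inv = (fst G G ≫ e.inv) * (snd G G ≫ e.inv) := by
    rw [MonObj.mul_eq_mul, MonObj.mul_comp]
  rw [h1, h2, fn_mul, AlgHom.comp_apply, int_lift]
  have h3 : α.rTensor C (Bialgebra.comulAlgHom k C x) = α x ⊗ₜ[k] (1 : C) := hα x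
  rw [h3, TensorProduct.lid_tmul, map_smul, map_one, α'_β, hom_appTop, Algebra.smul_def, _root_.mul_one]

/-- the invariant integral of a linearly reductive group -/
noncomputable def haarOfInt (h1 : α 1 = 1) (hα : K191.Integral.IsInt α) : Haar G :=
  have := isAffine e
  haar (α' e α) (α'_mul e α) (by
    rw [α'_apply, map_one, h1, map_one]) (int_inv e α hα)

end Hopf

end K686.HaarOfInt
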