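import Groth.Agent.GIT.K686.AffQuot
import Groth.Agent.GIT.K686.BcAct
import Groth.Agent.GIT.K687.CatQuot
import Groth.Agent.GrpQ.H766.GeomQuotLocal

/-!
# Quotients which are affine quotients locally on the base
-/

set_option autoImplicit false
universe u
open CategoryTheory MonoidalCategory CartesianMonoidalCategory MonObj AlgebraicGeometry Topology
open Groth.Agent.GrpQ.H766.GeomQuotLocal

namespace K686

variable {S : Scheme.{u}} {G : Over S} [GrpObj G]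

/-- `X ⟶ Y` is affine and over each affine open of `Y` it is an affine quotient. -/
structure IsLocQuot {X Y : Over S} (a : AlgGrp.Action G X) (φ : X ⟶ Y) : Prop where
  inv : GIT.IsInvariant a φ
  aff : IsAffineHom φ.left
  quot : ∀ W : Y.left.Opens, IsAffineOpen W → IsAffQuot (bcAct (isPullback_W φ W) a inv) (φW φ W)

/-- affine quotients stay local quotients after any base change -/
theorem IsAffQuot.isLocQuot {X Y : Over S} {a : AlgGrp.Action G X} {φ : X ⟶ Y} (h : IsAffQuot a φ) (H : Haar G)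
    [IsAffine X.left] [IsAffine Y.left] {X' Y' : Over S} (pr : X' ⟶ X) (φ' : X' ⟶ Y') (g : Y' ⟶ Y)
    (hp : IsPullback pr φ' φ g)
    (a' : AlgGrp.Action G X') (ha' : a'.act ≫ pr = (G ◁ pr) ≫ a.act) (hinv : GIT.IsInvariant a' φ') :
    IsLocQuot a' φ' := by
  have haff : IsAffineHom φ'.left :=
    MorphismProperty.of_isPullback (P := @IsAffineHom) (isPullback_left hp) inferInstance
  refine ⟨hinv, haff, fun W hW => ?_⟩
  have : IsAffine (YW Y' W).left := hW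
  have : IsAffine (YW X' (φ'.left ⁻¹ᵁ W)).left := hW.preimage φ'.left
  refine h.baseChange H (iW X' (φ'.left ⁻¹ᵁ W) ≫ pr) (φW φ' W) (iW Y' W ≫ g) ?_ _ ?_ (bcAct_inv _ _ _)
  · exact isPullback_left ((isPullback_W φ' W).paste_horiz hp)
  · rw [← Category.assoc, bcAct_pr, Category.assoc, ha', MonoidalCategory.whiskerLeft_comp, Category.assoc]

namespace IsLocQuot

variable {X Y : Over S} {a : AlgGrp.Action G X} {φ : X ⟶ Y}

theorem affineX (h : IsLocQuot a φ) {W : Y.left.Opens} (hW : IsAffineOpen W) :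
    IsAffine (YW X (φ.left ⁻¹ᵁ W)).left := by
  have := h.aff
  exact hW.preimage φ.left

omit [GrpObj G] in
theorem appLE_top {X Y : Scheme.{u}} (f : X ⟶ Y) (e : (⊤ : X.Opens) ≤ f ⁻¹ᵁ ⊤) : f.appLE ⊤ ⊤ e = f.appTop :=
  f.appLE_eq_app

omit [GrpObj G] in
theorem top_le (Y : Over S) (W : Y.left.Opens) : ⊤ ≤ (iW Y W).left ⁻¹ᵁ W := by
  intro x _
  exact x.2

/-- restriction of sections over `W` to the open subscheme `W` -/
noncomputable abbrev ρ (Y : Over S) (W : Y.left.Opens) : Γ(Y.left, W) ⟶ Γ((YW Y W).left, ⊤) :=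
  (iW Y W).left.appLE W ⊤ (top_le Y W)

omit [GrpObj G] in
theorem ρ_bijective (Y : Over S) (W : Y.left.Opens) : Function.Bijective (ρ Y W) := by
  have : IsOpenImmersion (iW Y W).left := inferInstanceAs (IsOpenImmersion W.ι)
  refine appLE_bijective (iW Y W).left W ⊤ ?_ ?_
  · change W ≤ W.ι.opensRange
    rw [Scheme.Opens.opensRange_ι]
  · symm
    rw [eq_top_iff]
    exact top_le Y W

omit [GrpObj G] in
theorem ρ_app (φ : X ⟶ Y) (W : Y.left.Opens) (g : Γ(Y.left, W)) :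
    ρ X (φ.left ⁻¹ᵁ W) (φ.left.app W g) = (φW φ W).left.appTop (ρ Y W g) := by
  have k1 := appLE_apply_appLE (iW X (φ.left ⁻¹ᵁ W)).left φ.left W (φ.left ⁻¹ᵁ W) ⊤ le_rfl (top_le X _) g
  have k2 := appLE_apply_appLE (φW φ W).left (iW Y W).left W ⊤ ⊤ (top_le Y W) le_top g
  have w : (iW X (φ.left ⁻¹ᵁ W)).left ≫ φ.left = (φW φ W).left ≫ (iW Y W).left :=
    congrArg (fun t => t.left) (isPullback_W φ W).w
  have k3 := appLE_congr_hom w W ⊤ (le_trans (top_le X _) ((iW X (φ.left ⁻¹ᵁ W)).left.preimage_mono le_rfl)) g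
  rw [Scheme.Hom.appLE_eq_app] at k1
  rw [appLE_top] at k2
  exact k1.trans (k3.trans k2.symm)

theorem inv_ρ (hi : GIT.IsInvariant a φ) (W : Y.left.Opens) (f : Γ(X.left, φ.left ⁻¹ᵁ W))
    (hf : GIT.IsInvSection a φ W f) :
    Haar.Inv (bcAct (isPullback_W φ W) a hi) (ρ X (φ.left ⁻¹ᵁ W) f) := by
  set j := iW X (φ.left ⁻¹ᵁ W) with hj
  set a' := bcAct (isPullback_W φ W) a hi with ha'
  have w1 : a'.act ≫ j = (G ◁ j) ≫ a.act := bcAct_pr _ _ _
  have w2 : snd G _ ≫ j = (G ◁ j) ≫ snd G X := (whiskerLeft_snd G j).symm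
  have w1' : a'.act.left ≫ j.left = (G ◁ j).left ≫ a.act.left := congrArg (fun t => t.left) w1
  have w2' : (snd G _).left ≫ j.left = (G ◁ j).left ≫ (snd G X).left := congrArg (fun t => t.left) w2
  have m1 := appLE_apply_appLE a'.act.left j.left (φ.left ⁻¹ᵁ W) ⊤ ⊤ (top_le X _) le_top f
  have m2 := appLE_apply_appLE (snd G (YW X (φ.left ⁻¹ᵁ W))).left j.left (φ.left ⁻¹ᵁ W) ⊤ ⊤ (top_le X _) le_top f
  rw [appLE_top] at m1 m2
  have e3 : (⊤ : (G ⊗ YW X (φ.left ⁻¹ᵁ W)).left.Opens) ≤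
      (G ◁ j).left ⁻¹ᵁ (a.act.left ⁻¹ᵁ (φ.left ⁻¹ᵁ W) ⊓ (snd G X).left ⁻¹ᵁ (φ.left ⁻¹ᵁ W)) := by
    intro x _
    refine ⟨?_, ?_⟩
    · change ((G ◁ j).left ≫ a.act.left) x ∈ φ.left ⁻¹ᵁ W
      rw [← w1']
      exact top_le X (φ.left ⁻¹ᵁ W) (Set.mem_univ _)
    · change ((G ◁ j).left ≫ (snd G X).left) x ∈ φ.left ⁻¹ᵁ W
      rw [← w2']
      exact top_le X (φ.left ⁻¹ᵁ W) (Set.mem_univ _)
  have k1 := appLE_apply_appLE (G ◁ j).left a.act.left (φ.left ⁻¹ᵁ W)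
    (a.act.left ⁻¹ᵁ (φ.left ⁻¹ᵁ W) ⊓ (snd G X).left ⁻¹ᵁ (φ.left ⁻¹ᵁ W)) ⊤ inf_le_left e3 f
  have k2 := appLE_apply_appLE (G ◁ j).left (snd G X).left (φ.left ⁻¹ᵁ W)
    (a.act.left ⁻¹ᵁ (φ.left ⁻¹ᵁ W) ⊓ (snd G X).left ⁻¹ᵁ (φ.left ⁻¹ᵁ W)) ⊤ inf_le_right e3 f
  have n1 := appLE_congr_hom w1' (φ.left ⁻¹ᵁ W) ⊤ (le_trans le_top (a'.act.left.preimage_mono (top_le X _))) f
  have n2 := appLE_congr_hom w2' (φ.left ⁻¹ᵁ W) ⊤
    (le_trans le_top ((snd G (YW X (φ.left ⁻¹ᵁ W))).left.preimage_mono (top_le X _))) f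
  have o : (G ◁ j).left.appLE _ ⊤ e3 (a.act.left.appLE (φ.left ⁻¹ᵁ W)
      (a.act.left ⁻¹ᵁ (φ.left ⁻¹ᵁ W) ⊓ (snd G X).left ⁻¹ᵁ (φ.left ⁻¹ᵁ W)) inf_le_left f) =
      (G ◁ j).left.appLE _ ⊤ e3 ((snd G X).left.appLE (φ.left ⁻¹ᵁ W)
      (a.act.left ⁻¹ᵁ (φ.left ⁻¹ᵁ W) ⊓ (snd G X).left ⁻¹ᵁ (φ.left ⁻¹ᵁ W)) inf_le_right f) := congrArg _ hf
  exact (m1.trans (n1.trans k1.symm)).trans (o.trans (k2.trans (n2.symm.trans m2.symm)))

/-- the sections of `O_Y` are the invariant sections of `O_X` -/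
theorem sections (h : IsLocQuot a φ) (U : Y.left.Opens) :
    Function.Injective (φ.left.app U) ∧ Set.range (φ.left.app U) = {f | GIT.IsInvSection a φ U f} := by
  have hinj : ∀ W : Y.left.Opens, IsAffineOpen W → Function.Injective (φ.left.app W) := by
    intro W hW f g hfg
    apply (ρ_bijective Y W).1
    apply (h.quot W hW).inj
    rw [← ρ_app, ← ρ_app, hfg]
  have hinj' : ∀ W : Y.left.Opens, Function.Injective (φ.left.app W) := by
    refine inj_of_local φ.left ?_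
    intro W y hy
    obtain ⟨W', hW', hy', hle⟩ := exists_isAffineOpen_mem_and_subset hy
    exact ⟨W', hy', hle, hinj W' hW'⟩
  refine ⟨hinj' U, Set.Subset.antisymm ?_ ?_⟩
  · rintro _ ⟨g, rfl⟩
    have k1 := appLE_apply_appLE a.act.left φ.left U (φ.left ⁻¹ᵁ U)
      (a.act.left ⁻¹ᵁ (φ.left ⁻¹ᵁ U) ⊓ (snd G X).left ⁻¹ᵁ (φ.left ⁻¹ᵁ U)) le_rfl inf_le_left g
    have k2 := appLE_apply_appLE (snd G X).left φ.left U (φ.left ⁻¹ᵁ U)
      (a.act.left ⁻¹ᵁ (φ.left ⁻¹ᵁ U) ⊓ (snd G X).left ⁻¹ᵁ (φ.left ⁻¹ᵁ U)) le_rfl inf_le_right g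
    rw [Scheme.Hom.appLE_eq_app] at k1 k2
    exact k1.trans ((appLE_congr_hom h.inv.left _ _ _ _).trans k2.symm)
  · intro f hf
    obtain ⟨g, hg⟩ := sec_of_local a.act.left (snd G X).left φ.left hinj' (fun W y hy => by
      obtain ⟨W', hW', hy', hle⟩ := exists_isAffineOpen_mem_and_subset hy
      refine ⟨W', hy', hle, fun f hf => ?_⟩
      have h1 := inv_ρ h.inv W' f hf
      have h2 : ρ X (φ.left ⁻¹ᵁ W') f ∈ Set.range (φW φ W').left.appTop := by
        rw [(h.quot W' hW').range]; exact h1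
      obtain ⟨g', hg'⟩ := h2
      obtain ⟨g, rfl⟩ := (ρ_bijective Y W').2 g'
      refine ⟨g, (ρ_bijective X _).1 ?_⟩
      rw [ρ_app, hg']) U f hf
    exact ⟨g, hg⟩

/-- local quotients are surjective -/
theorem surjective (h : IsLocQuot a φ) (H : Haar G) : Function.Surjective φ.left := by
  intro y
  obtain ⟨W, hW, hy, -⟩ := exists_isAffineOpen_mem_and_subset (U := ⊤) (x := y) (Set.mem_univ _)
  have : IsAffine (YW Y W).left := hW
  have : IsAffine (YW X (φ.left ⁻¹ᵁ W)).left := h.affineX hW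
  obtain ⟨x, hx⟩ := (h.quot W hW).surjective H ⟨y, hy⟩
  refine ⟨(φ.left ⁻¹ᵁ W).ι x, ?_⟩
  have h1 : φ.left ((φ.left ⁻¹ᵁ W).ι x) = W.ι ((φ.left ∣_ W) x) := by
    rw [← Scheme.Hom.comp_apply, ← Scheme.Hom.comp_apply, morphismRestrict_ι]
  rw [h1]
  exact congrArg W.ι hx

theorem invSet_preimage {X' : Over S} (a' : AlgGrp.Action G X') (j : X' ⟶ X)
    (hj : a'.act ≫ j = (G ◁ j) ≫ a.act) {C : Set X.left} (hC : InvSet a C) : InvSet a' (j.left ⁻¹' C) := by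
  intro z hz
  have h1 : j.left (a'.act.left z) = a.act.left ((G ◁ j).left z) := by
    rw [← Scheme.Hom.comp_apply, ← Scheme.Hom.comp_apply]
    exact congrArg (fun t => t.left z) hj
  have h2 : j.left ((snd G X').left z) = (snd G X).left ((G ◁ j).left z) := by
    rw [← Scheme.Hom.comp_apply, ← Scheme.Hom.comp_apply]
    exact congrArg (fun t => t.left z) (whiskerLeft_snd G j).symm
  change j.left (a'.act.left z) ∈ C
  rw [h1]
  apply hC
  rw [← h2]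
  exact hz

/-- images of closed invariant subsets under local quotients are closed -/
theorem isClosed_image (h : IsLocQuot a φ) (H : Haar G) {C : Set X.left} (hC : IsClosed C) (hi : InvSet a C) :
    IsClosed (φ.left '' C) := by
  have hcov : TopologicalSpace.IsOpenCover (fun W : Y.left.affineOpens => W.1) := by
    rw [TopologicalSpace.IsOpenCover]
    exact iSup_affineOpens_eq_top _
  rw [hcov.isClosed_iff_coe_preimage]
  intro W
  have : IsAffine (YW Y W.1).left := W.2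
  have : IsAffine (YW X (φ.left ⁻¹ᵁ W.1)).left := h.affineX W.2
  have h1 := (h.quot W.1 W.2).isClosed_image H (hC.preimage (φ.left ⁻¹ᵁ W.1).ι.continuous)
    (invSet_preimage _ (iW X (φ.left ⁻¹ᵁ W.1)) (bcAct_pr _ _ _) hi)
  have h2 : (Subtype.val ⁻¹' (φ.left '' C) : Set W.1) =
      (φ.left ∣_ W.1) '' ((φ.left ⁻¹ᵁ W.1).ι ⁻¹' C) := by
    apply Set.Subset.antisymm
    · rintro y ⟨x, hx, hxy⟩
      have hxW : x ∈ φ.left ⁻¹ᵁ W.1 := by
        change φ.left x ∈ W.1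
        rw [hxy]
        exact y.2
      refine ⟨⟨x, hxW⟩, hx, Subtype.ext ?_⟩
      have h1 : φ.left ((φ.left ⁻¹ᵁ W.1).ι ⟨x, hxW⟩) = W.1.ι ((φ.left ∣_ W.1) ⟨x, hxW⟩) := by
        rw [← Scheme.Hom.comp_apply, ← Scheme.Hom.comp_apply, morphismRestrict_ι]
      exact h1.symm.trans hxy
    · rintro _ ⟨x, hx, rfl⟩
      refine ⟨(φ.left ⁻¹ᵁ W.1).ι x, hx, ?_⟩
      have h1 : φ.left ((φ.left ⁻¹ᵁ W.1).ι x) = W.1.ι ((φ.left ∣_ W.1) x) := by
        rw [← Scheme.Hom.comp_apply, ← Scheme.Hom.comp_apply, morphismRestrict_ι]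
      exact h1
  exact (congrArg IsClosed h2).mpr h1

/-- local quotients are quotient maps -/
theorem isQuotientMap (h : IsLocQuot a φ) (H : Haar G) : IsQuotientMap φ.left := by
  rw [isQuotientMap_iff_isClosed]
  refine ⟨h.surjective H, fun V => ⟨fun hV => hV.preimage φ.left.continuous, fun hV => ?_⟩⟩
  rw [← Set.image_preimage_eq V (h.surjective H)]
  refine h.isClosed_image H hV ?_
  intro z hz
  change φ.left (a.act.left z) ∈ V
  have h1 : φ.left (a.act.left z) = φ.left ((snd G X).left z) := by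
    rw [← Scheme.Hom.comp_apply, ← Scheme.Hom.comp_apply, h.inv.left]
  rw [h1]
  exact hz

/-- invariant morphisms are constant on fibres, locally on the base -/
theorem exists_cov (h : IsLocQuot a φ) (H : Haar G) {Z : Over S} (ψ : X ⟶ Z) (hψ : GIT.IsInvariant a ψ)
    (y : Y.left) : ∃ U : Y.left.Opens, y ∈ U ∧ ∃ V : Z.left.Opens, IsAffineOpen V ∧
      φ.left ⁻¹ᵁ U ≤ ψ.left ⁻¹ᵁ V := by
  obtain ⟨W, hW, hy, -⟩ := exists_isAffineOpen_mem_and_subset (U := ⊤) (x := y) (Set.mem_univ _)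
  have : IsAffine (YW Y W).left := hW
  have : IsAffine (YW X (φ.left ⁻¹ᵁ W)).left := h.affineX hW
  let C : Z.left.affineOpens → Set (YW X (φ.left ⁻¹ᵁ W)).left :=
    fun V => (iW X (φ.left ⁻¹ᵁ W)).left ⁻¹' ((ψ.left ⁻¹' (V.1 : Set Z.left))ᶜ)
  have hC : ∀ V, IsClosed (C V) := fun V =>
    ((V.1.2.preimage ψ.left.continuous).isClosed_compl).preimage (iW X (φ.left ⁻¹ᵁ W)).left.continuous
  have hCi : ∀ V, InvSet (bcAct (isPullback_W φ W) a h.inv) (C V) := by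
    intro V
    refine invSet_preimage _ (iW X (φ.left ⁻¹ᵁ W)) (bcAct_pr _ _ _) ?_
    intro z hz hz'
    apply hz
    change ψ.left ((snd G X).left z) ∈ V.1
    have h1 : ψ.left (a.act.left z) = ψ.left ((snd G X).left z) := by
      rw [← Scheme.Hom.comp_apply, ← Scheme.Hom.comp_apply, hψ.left]
    rw [← h1]
    exact hz'
  have hCe : ⋂ V, C V = ∅ := by
    rw [Set.eq_empty_iff_forall_notMem]
    intro x hx
    obtain ⟨V, hV, hxV, -⟩ := exists_isAffineOpen_mem_and_subset (U := ⊤)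
      (x := ψ.left ((iW X (φ.left ⁻¹ᵁ W)).left x)) (Set.mem_univ _)
    exact Set.mem_iInter.mp hx ⟨V, hV⟩ hxV
  have h1 := (h.quot W hW).iInter_image_eq_empty H C hC hCi hCe
  have h2 : ∃ V, (⟨y, hy⟩ : W) ∉ (φ.left ∣_ W) '' C V := by
    by_contra hcon
    push Not at hcon
    have : (⟨y, hy⟩ : W) ∈ ⋂ V, (φ.left ∣_ W) '' C V := Set.mem_iInter.mpr hcon
    exact (Set.eq_empty_iff_forall_notMem.mp h1) _ this
  obtain ⟨V, hV⟩ := h2
  have h3 : IsClosed ((φ.left ∣_ W) '' C V) := (h.quot W hW).isClosed_image H (hC V) (hCi V)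
  let U' : W.toScheme.Opens := ⟨_, h3.isOpen_compl⟩
  refine ⟨W.ι ''ᵁ U', ⟨⟨y, hy⟩, hV, rfl⟩, V.1, V.2, ?_⟩
  rintro x ⟨w, hw, hwx⟩
  by_contra hx
  have hxW : x ∈ φ.left ⁻¹ᵁ W := by
    change φ.left x ∈ W
    rw [← hwx]
    exact w.2
  apply hw
  refine ⟨⟨x, hxW⟩, hx, Subtype.ext ?_⟩
  have h1 : φ.left ((φ.left ⁻¹ᵁ W).ι ⟨x, hxW⟩) = W.ι ((φ.left ∣_ W) ⟨x, hxW⟩) := by
    rw [← Scheme.Hom.comp_apply, ← Scheme.Hom.comp_apply, morphismRestrict_ι]
  exact h1.symm.trans hwx.symm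

/-- local quotients are categorical quotients -/
theorem isCatQuot (h : IsLocQuot a φ) (H : Haar G) : GIT.IsCatQuot a φ :=
  K687.isCatQuot_of_cov a φ h.inv (h.surjective H) h.sections
    (fun _ ψ hψ y => h.exists_cov H ψ hψ y)

end IsLocQuot

/-- affine quotients are universal categorical quotients -/
theorem IsAffQuot.isUnivCatQuot {X Y : Over S} {a : AlgGrp.Action G X} {φ : X ⟶ Y} (h : IsAffQuot a φ)
    (H : Haar G) [IsAffine X.left] [IsAffine Y.left] : GIT.IsUnivCatQuot a φ := by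
  constructor
  · exact (h.isLocQuot H (𝟙 X) φ (𝟙 Y) (IsPullback.of_horiz_isIso ⟨by simp⟩) a (by simp) h.inv).isCatQuot H
  · intro X' Y' pr φ' g _ hp a' ha' hinv
    exact (h.isLocQuot H pr φ' g hp a' ha' hinv).isCatQuot H

/-- affine quotients are universally submersive -/
theorem IsAffQuot.isUnivSubmersive {X Y : Over S} {a : AlgGrp.Action G X} {φ : X ⟶ Y} (h : IsAffQuot a φ)
    (H : Haar G) [IsAffine X.left] [IsAffine Y.left] : GIT.IsUnivSubmersive φ.left := by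
  intro X' Y' pr g φ' hp0
  have hp := hp0.flip
  let Y'' : Over S := Over.mk (g ≫ Y.hom)
  let X'' : Over S := Over.mk (pr ≫ X.hom)
  let g' : Y'' ⟶ Y := Over.homMk g
  let pr' : X'' ⟶ X := Over.homMk pr
  have w : pr ≫ φ.left = φ' ≫ g := hp.w
  let φ'' : X'' ⟶ Y'' := Over.homMk φ' (by
    change φ' ≫ g ≫ Y.hom = pr ≫ X.hom
    rw [← reassoc_of% w, Over.w])
  have hp' : IsPullback pr' φ'' φ g' := isPullback_over hp
  exact (h.isLocQuot H pr' φ'' g' hp' (bcAct hp' a h.inv) (bcAct_pr _ _ _) (bcAct_inv _ _ _)).isQuotientMap H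

end K686
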