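import Groth.Agent.GIT.K686.GeomBase
import Groth.Agent.GIT.K686.CMGrp
import Groth.Agent.GrpQ.H769.Slice
import Groth.Agent.AlgGrp.K413.LargestOpen

/-!
# The orbit morphism `G × Z ⟶ X` of a morphism `Z ⟶ X`
-/

set_option autoImplicit false
universe u
open CategoryTheory MonoidalCategory CartesianMonoidalCategory MonObj AlgebraicGeometry Topology Limits

namespace K686.OrbS

open Groth.Agent.Sga3.H775.ActGrpd Groth.Agent.GrpQ.H769.Sig

variable {S : Scheme.{u}} {G X Y Z : Over S} [GrpObj G] (a : AlgGrp.Action G X) (u : Z ⟶ X)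

/-- `(g, z) ↦ g u(z)` -/
noncomputable def orb : G ⊗ Z ⟶ X := (G ◁ u) ≫ a.act

theorem ivr_ivr : ivr a ≫ ivr a = 𝟙 _ := by
  apply CartesianMonoidalCategory.hom_ext
  · rw [comp_ivr_fst]
    have h := comp_ivr_fst a (𝟙 (G ⊗ X))
    rw [Category.id_comp, Category.id_comp] at h
    rw [h, inv_inv, Category.id_comp]
  · rw [comp_ivr_snd]
    have h := comp_ivr_act a (𝟙 (G ⊗ X))
    rwa [Category.id_comp] at h

theorem ivr_act : ivr a ≫ a.act = snd G X := by
  have h := comp_ivr_act a (𝟙 (G ⊗ X))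
  rwa [Category.id_comp, Category.id_comp] at h

theorem ivr_snd : ivr a ≫ snd G X = a.act := by
  have h := comp_ivr_snd a (𝟙 (G ⊗ X))
  rwa [Category.id_comp, Category.id_comp] at h

instance isIso_ivr : IsIso (ivr a) := ⟨ivr a, ivr_ivr a, ivr_ivr a⟩

theorem isPullback_arr : IsPullback ((G ◁ u) ≫ ivr a) (snd G Z) a.act u := by
  have h1 : IsPullback (ivr a) (snd G X) a.act (𝟙 X) :=
    IsPullback.of_horiz_isIso ⟨by rw [ivr_act, Category.comp_id]⟩
  have h2 := (K957.Cart.isPullback_whisker (G := G) u).paste_horiz h1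
  rwa [Category.comp_id] at h2

/-- the orbit morphism is the source morphism of the arrows with target in `Z` -/
theorem exists_iso : ∃ e : (G ⊗ Z).left ≅ arr (actGrpd a) u.left,
    e.hom ≫ sig (actGrpd a) u.left = (orb a u).left ∧
    e.hom ≫ pullback.snd (actGrpd a).t u.left = (snd G Z).left := by
  have h := isPullback_left (isPullback_arr a u)
  have h' : IsPullback (pullback.fst (actGrpd a).t u.left) (pullback.snd (actGrpd a).t u.left)
    a.act.left u.left := IsPullback.of_hasPullback _ _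
  refine ⟨h.isoIsPullback _ _ h', ?_, ?_⟩
  · have e1 := h.isoIsPullback_hom_fst _ _ h'
    have e2 : ((G ◁ u) ≫ ivr a).left ≫ (snd G X).left = (orb a u).left := by
      rw [← Over.comp_left, Category.assoc, ivr_snd]
      rfl
    exact (Category.assoc _ _ _).symm.trans ((congrArg (fun t => t ≫ (snd G X).left) e1).trans e2)
  · exact h.isoIsPullback_hom_snd _ _ h'

theorem orb_iff (P : MorphismProperty Scheme.{u}) [P.RespectsIso] :
    P (orb a u).left ↔ P (sig (actGrpd a) u.left) := by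
  obtain ⟨e, he, -⟩ := exists_iso a u
  rw [← he]
  exact MorphismProperty.cancel_left_of_respectsIso P e.hom _

/-- base change of the orbit morphism -/
theorem isPullback_orb {X' Z' : Over S} (a' : AlgGrp.Action G X') {pr : X' ⟶ X}
    (ha' : a'.act ≫ pr = (G ◁ pr) ≫ a.act) {u' : Z' ⟶ X'} {b : Z' ⟶ Z} (h : IsPullback b u' u pr) :
    IsPullback (G ◁ b) (orb a' u') (orb a u) pr := by
  have h1 : IsPullback (G ◁ b) (G ◁ u') (G ◁ u) (G ◁ pr) := by
    have h2 := K957.Cart.isPullback_whisker (G := G) b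
    have h3 := K957.Cart.isPullback_whisker (G := G) pr
    refine IsPullback.of_bot (h₃₁ := pr) (v₂₁ := snd G X') (v₂₂ := snd G X) ?_ ?_ h3
    · rw [whiskerLeft_snd, whiskerLeft_snd]
      have := h2.paste_vert h
      exact this
    · rw [← MonoidalCategory.whiskerLeft_comp, ← MonoidalCategory.whiskerLeft_comp, h.w]
  exact h1.paste_vert (K413.LargestOpen.isPullback_act a' a ha'.symm)

variable {a} in
/-- the square of `G × Z ⟶ X ×_Y Z` and `PsiY` -/
theorem isPullback_psiZ {φ : X ⟶ Y} (hi : GIT.IsInvariant a φ) :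
    ∃ (ψ : (G ⊗ Z).left ⟶ pullback φ.left (u ≫ φ).left) (m : pullback φ.left (u ≫ φ).left ⟶
      pullback φ.left φ.left), IsPullback (G ◁ u).left ψ (GIT.PsiY a φ hi) m ∧
      ψ ≫ pullback.fst _ _ = (orb a u).left ∧ ψ ≫ pullback.snd _ _ = (snd G Z).left := by
  have hi' : a.act.left ≫ φ.left = (snd G X).left ≫ φ.left := hi.left
  have w : (orb a u).left ≫ φ.left = (snd G Z).left ≫ (u ≫ φ).left := by
    have h1 : orb a u ≫ φ = snd G Z ≫ u ≫ φ := by
      rw [orb, Category.assoc, hi, whiskerLeft_snd_assoc]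
    exact congrArg (fun t => t.left) h1
  let ψ : (G ⊗ Z).left ⟶ pullback φ.left (u ≫ φ).left := pullback.lift (orb a u).left (snd G Z).left w
  let m : pullback φ.left (u ≫ φ).left ⟶ pullback φ.left φ.left :=
    pullback.lift (pullback.fst _ _) (pullback.snd _ _ ≫ u.left) (by
      rw [pullback.condition, Category.assoc, ← Over.comp_left])
  have hm1 : m ≫ pullback.fst _ _ = pullback.fst _ _ := pullback.lift_fst _ _ _
  have hm2 : m ≫ pullback.snd _ _ = pullback.snd _ _ ≫ u.left := pullback.lift_snd _ _ _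
  have hψ1 : ψ ≫ pullback.fst _ _ = (orb a u).left := pullback.lift_fst _ _ _
  have hψ2 : ψ ≫ pullback.snd _ _ = (snd G Z).left := pullback.lift_snd _ _ _
  refine ⟨ψ, m, ?_, hψ1, hψ2⟩
  have h1 : IsPullback m (pullback.snd φ.left (u ≫ φ).left) (pullback.snd φ.left φ.left) u.left := by
    refine IsPullback.of_right (h₁₂ := pullback.fst φ.left φ.left) (v₁₃ := φ.left) (h₂₂ := φ.left) ?_ hm2
      (IsPullback.of_hasPullback φ.left φ.left)
    rw [hm1]
    exact IsPullback.of_hasPullback φ.left (u ≫ φ).left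
  have e3 : (G ◁ u).left ≫ GIT.PsiY a φ hi = ψ ≫ m := by
    apply pullback.hom_ext
    · rw [Category.assoc, Category.assoc, hm1, hψ1, GIT.PsiY, pullback.lift_fst, ← Over.comp_left]
      rfl
    · rw [Category.assoc, Category.assoc, hm2, reassoc_of% hψ2, GIT.PsiY, pullback.lift_snd,
        ← Over.comp_left, ← Over.comp_left, whiskerLeft_snd]
  refine IsPullback.of_bot (h₃₁ := u.left) (v₂₁ := pullback.snd φ.left (u ≫ φ).left)
    (v₂₂ := pullback.snd φ.left φ.left) ?_ e3 h1
  rw [hψ2, GIT.PsiY, pullback.lift_snd]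
  exact K957.Cart.isPullback_whisker_left (G := G) u

variable {a} {u} in
/-- orbit morphisms of `Z ⟶ X` with `Z ⟶ Y` proper are proper if `PsiY` is -/
theorem isProper_orb {φ : X ⟶ Y} (hi : GIT.IsInvariant a φ) (h : IsProper (GIT.PsiY a φ hi))
    (hu : IsProper (u ≫ φ).left) : IsProper (orb a u).left := by
  obtain ⟨ψ, m, hP, h1, -⟩ := isPullback_psiZ u hi
  have : IsProper ψ := MorphismProperty.of_isPullback hP h
  rw [← h1]
  infer_instance

variable {a} {u} in
/-- fibres of `Z ⟶ Y` are finite if the orbit morphism is quasi-finite -/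
theorem finite_fibre {φ : X ⟶ Y} (hi : GIT.IsInvariant a φ) (h : Surjective (GIT.PsiY a φ hi))
    [LocallyQuasiFinite (orb a u).left] [QuasiCompact (orb a u).left] (y : Y.left) :
    ((u ≫ φ).left ⁻¹' {y}).Finite := by
  obtain ⟨ψ, m, hP, h1, h2⟩ := isPullback_psiZ u hi
  have hψ : Surjective ψ := MorphismProperty.of_isPullback hP h
  rcases Set.eq_empty_or_nonempty ((u ≫ φ).left ⁻¹' {y}) with he | ⟨z₀, hz₀⟩
  · rw [he]
    exact Set.finite_empty
  -- `{(g, z) | g z = u z₀}` is finite
  have hfin : ((orb a u).left ⁻¹' {u.left z₀}).Finite := (orb a u).left.finite_preimage_singleton _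
  refine (hfin.image (snd G Z).left).subset ?_
  intro z hz
  have h3 : φ.left (u.left z₀) = (u ≫ φ).left z := by
    have e1 : (u ≫ φ).left z₀ = φ.left (u.left z₀) := by rw [← Scheme.Hom.comp_apply]; rfl
    rw [← e1]
    exact hz₀.trans hz.symm
  obtain ⟨p, hp1, hp2⟩ := Scheme.Pullback.exists_preimage_pullback (f := φ.left) (g := (u ≫ φ).left)
    (u.left z₀) z h3
  obtain ⟨r, rfl⟩ := hψ.surj p
  refine ⟨r, ?_, ?_⟩
  · change (orb a u).left r = u.left z₀
    rw [← h1, Scheme.Hom.comp_apply]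
    exact hp1
  · rw [← h2, Scheme.Hom.comp_apply]
    exact hp2

end K686.OrbS
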