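import Groth.Agent.GIT.K686.EtSlice
import Groth.Agent.AlgSp.K597.EffDesc
import Groth.Agent.GrpQ.H767.Strong
import Groth.Agent.EqInt.K957.Glue
import Groth.Agent.S12381

/-!
# Quotients by free actions are principal bundles
-/

set_option autoImplicit false
universe u
open CategoryTheory MonoidalCategory CartesianMonoidalCategory MonObj AlgebraicGeometry Topology Limits

namespace K686.PrinQ

open Groth.Agent.Sga3.H775.ActGrpd Groth.Agent.GrpQ.H769.Sig OrbS

section

variable {S : Scheme.{u}} {G X Y : Over S} [GrpObj G] {a : AlgGrp.Action G X} {φ : X ⟶ Y}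

/-- geometric quotients of actions are geometric quotients of groupoids -/
theorem toDef (h : GIT.IsGeomQuot a φ) :
    Groth.Agent.GrpQ.H766.GeomQuotDef.IsGeomQuot (snd G X).left a.act.left φ.left where
  w := h.inv.left
  isQuotientMap := h.subm (𝟙 _) (𝟙 _) φ.left (IsPullback.of_vert_isIso ⟨by simp⟩)
  rel x y hxy := by
    obtain ⟨p, hp1, hp2⟩ := Scheme.Pullback.exists_preimage_pullback (f := φ.left) (g := φ.left) x y hxy
    obtain ⟨r, rfl⟩ := h.orbit p
    have e1 : GIT.PsiY a φ h.inv ≫ pullback.fst φ.left φ.left = a.act.left := pullback.lift_fst _ _ _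
    have e2 : GIT.PsiY a φ h.inv ≫ pullback.snd φ.left φ.left = (snd G X).left := pullback.lift_snd _ _ _
    refine ⟨r, ?_, ?_⟩
    · rw [← hp1, ← e1]; rfl
    · rw [← hp2, ← e2]; rfl
  inj W := (h.sections W).1
  sec W f hf := by
    have h1 : f ∈ Set.range (φ.left.app W) := by
      rw [(h.sections W).2]
      rw [Groth.Agent.GrpQ.H766.GeomQuotDef.invSec_iff _ _ _ _
        (a.act.left ⁻¹ᵁ (φ.left ⁻¹ᵁ W) ⊓ (snd G X).left ⁻¹ᵁ (φ.left ⁻¹ᵁ W)) (inf_comm _ _)] at hf
      exact hf.symm
    exact h1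

/-- geometric quotients with a finite flat slice by free actions are principal bundles -/
theorem of_slice [IsLocallyNoetherian X.left] [IsSeparated Y.hom]
    (h : GIT.IsGeomQuot a φ) [Mono (GIT.PsiY a φ h.inv)] [Flat G.hom] {Z : Over S} (u : Z ⟶ X)
    [IsAffine Z.left] [LocallyOfFiniteType u.left] [Flat (orb a u).left] [IsFinite (orb a u).left]
    [Surjective (orb a u).left] : Flat φ.left ∧ IsIso (GIT.PsiY a φ h.inv) := by
  have h1 : Mor2.IsFinLocFree (pullback.fst (actGrpd a).t u.left ≫ (actGrpd a).s) := by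
    refine ⟨(orb_iff a u @IsFinite).mp ‹_›, (orb_iff a u @Flat).mp ‹_›, ?_⟩
    exact (orb_iff a u @LocallyOfFinitePresentation).mp inferInstance
  have h2 : Surjective (pullback.fst (actGrpd a).t u.left ≫ (actGrpd a).s) :=
    (orb_iff a u @Surjective).mp ‹_›
  obtain ⟨Q, p, C⟩ : ∃ (Q : Scheme.{u}) (p : X.left ⟶ Q),
      Groth.Agent.GrpQ.H767.Main.Concl (actGrpd a) u.left p :=
    Groth.Agent.GrpQ.H767.Strong.exists_concl (actGrpd a) u.left h1
      (fun E _ => ⟨⊤, isAffineOpen_top _, fun _ _ => trivial⟩)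
  have hm : Mono (actGrpd a).j := by
    have h3 : GIT.PsiY a φ h.inv ≫ K957.Bundle.toProd φ = (GIT.psi a (𝟙 X)).left :=
      K957.Bundle.psiY_toProd a φ h.inv
    rw [K957.Bundle.psi_eq] at h3
    have h4 : Mono (lift a.act (snd G X)).left := by
      rw [← h3]
      infer_instance
    exact h4
  have h5 : IsPullback a.act.left (snd G X).left p p := C.pb hm
  have h6 : Flat (actGrpd a).s := inferInstanceAs (Flat (pullback.snd G.hom X.hom))
  have h7 : Flat p := C.flat hm ((Groth.Agent.Grpsch.Points.s_iff_t (actGrpd a) @Flat).1 h6)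
  have h8 : Groth.Agent.GrpQ.H766.GeomQuotDef.IsGeomQuot (snd G X).left a.act.left p := C.geom
  obtain ⟨e, he⟩ := Groth.Agent.GrpQ.H765.Glue.exists_iso h8 (toDef h)
  have h9 : Flat φ.left := by
    rw [← he]
    infer_instance
  refine ⟨h9, K957.Bundle.isIso_PsiY a φ h.inv ?_⟩
  refine IsPullback.of_iso h5 (Iso.refl _) (Iso.refl _) (Iso.refl _) e (by simp) (by simp) ?_ ?_
  · rw [Iso.refl_hom, Category.id_comp, he]
  · rw [Iso.refl_hom, Category.id_comp, he]

end

section

variable {k : Type u} [Field k] {G X Y : Over (Spec (CommRingCat.of k))} [GrpObj G]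
  [LocallyOfFiniteType G.hom] [QuasiCompact G.hom]
  [LocallyOfFiniteType X.hom] [QuasiCompact X.hom]
  [QuasiCompact Y.hom] [IsSeparated Y.hom]

/-- étale charts with finite flat slices around each point of the base -/
theorem exists_chart (a : AlgGrp.Action G X) (hp : IsProper (GIT.psi a (𝟙 X)).left)
    (hj : LocallyQuasiFinite (GIT.psi a (𝟙 X)).left) (φ : X ⟶ Y) (h : GIT.IsGeomQuot a φ) (y : Y.left) :
    ∃ (X' N : Over (Spec (CommRingCat.of k))) (pr : X' ⟶ X) (φ' : X' ⟶ N) (g : N ⟶ Y)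
      (_ : IsPullback pr φ' φ g) (a' : AlgGrp.Action G X') (Z : Over (Spec (CommRingCat.of k)))
      (u : Z ⟶ X'), a'.act ≫ pr = (G ◁ pr) ≫ a.act ∧ GIT.IsInvariant a' φ' ∧ IsAffine N.left ∧
        Etale g.left ∧ y ∈ Set.range g.left ∧ IsAffine Z.left ∧ LocallyOfFiniteType u.left ∧
        Flat (orb a' u).left ∧ IsFinite (orb a' u).left ∧ Surjective (orb a' u).left := by
  have hYc : CompactSpace Y.left := QuasiCompact.compactSpace_of_compactSpace Y.hom
  obtain ⟨y₀, hy₀, hc⟩ := (isClosed_closure (s := {y})).exists_closed_singleton ⟨y, subset_closure rfl⟩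
  obtain ⟨N, g, hg, hN, hyr, hs⟩ := EtSlice.exists_etale_slice a hp hj φ h y₀ hc
  have hyr' : y ∈ Set.range g.left := by
    have h1 : y ⤳ y₀ := specializes_iff_mem_closure.mpr hy₀
    exact h1.mem_open g.left.isOpenMap.isOpen_range hyr
  let X' : Over (Spec (CommRingCat.of k)) := Over.mk (pullback.fst φ.left g.left ≫ X.hom)
  let pr : X' ⟶ X := Over.homMk (pullback.fst φ.left g.left) rfl
  let φ' : X' ⟶ N := Over.homMk (pullback.snd φ.left g.left) (by
    change pullback.snd φ.left g.left ≫ N.hom = pullback.fst φ.left g.left ≫ X.hom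
    rw [← Over.w g, ← pullback.condition_assoc, Over.w])
  have hX : IsPullback pr φ' φ g := isPullback_over (IsPullback.of_hasPullback φ.left g.left)
  obtain ⟨Z, u, hZ, hu, h1, h2, h3⟩ := hs X' pr φ' hX (bcAct hX a h.inv) (bcAct_pr _ _ _) (bcAct_inv _ _ _)
  exact ⟨X', N, pr, φ', g, hX, bcAct hX a h.inv, Z, u, bcAct_pr _ _ _, bcAct_inv _ _ _, hN, hg, hyr', hZ, hu,
    h1, h2, h3⟩

/-- Quotients by free actions are principal bundles. -/
theorem main [IsSeparated X.hom] (a : AlgGrp.Action G X)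
    (hfree : IsClosedImmersion (GIT.psi a (𝟙 X)).left) (φ : X ⟶ Y) (h : GIT.IsGeomQuot a φ) :
    Flat φ.left ∧ LocallyOfFiniteType φ.left ∧ QuasiCompact φ.left ∧ IsIso (GIT.PsiY a φ h.inv) := by
  have hqc : QuasiCompact φ.left := K957.Bundle.quasiCompact_left φ
  have hsep : IsSeparated φ.left := K957.Bundle.isSeparated_left φ
  have hlft : LocallyOfFiniteType φ.left := K957.Bundle.locallyOfFiniteType_left φ
  have hGn : IsLocallyNoetherian G.left := LocallyOfFiniteType.isLocallyNoetherian G.hom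
  have hGq : QuasiSeparatedSpace G.left := inferInstance
  have hGs : QuasiSeparated G.hom := (quasiSeparated_iff_quasiSeparatedSpace G.hom).mpr hGq
  have hpsi : GIT.PsiY a φ h.inv ≫ K957.Bundle.toProd φ = (GIT.psi a (𝟙 X)).left :=
    K957.Bundle.psiY_toProd a φ h.inv
  have hc : IsClosedImmersion (GIT.PsiY a φ h.inv) := by
    have : IsClosedImmersion (GIT.PsiY a φ h.inv ≫ K957.Bundle.toProd φ) := by rw [hpsi]; exact hfree
    exact IsClosedImmersion.of_comp _ (K957.Bundle.toProd φ)
  have hfd : MorphismProperty.DescendsAlong @Flat (@Surjective ⊓ @Flat ⊓ @QuasiCompact : MorphismProperty Scheme.{u}) :=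
    Groth.Agent.S12381.flat_descends
  have key : ∀ y : Y.left, ∃ (X' N : Over (Spec (CommRingCat.of k))) (pr : X' ⟶ X) (φ' : X' ⟶ N) (g : N ⟶ Y)
      (_ : IsPullback pr φ' φ g) (a' : AlgGrp.Action G X') (_ : a'.act ≫ pr = (G ◁ pr) ≫ a.act)
      (hi' : GIT.IsInvariant a' φ'), Etale g.left ∧ y ∈ Set.range g.left ∧ Flat φ'.left ∧
        IsIso (GIT.PsiY a' φ' hi') := by
    intro y
    obtain ⟨X', N, pr, φ', g, hX, a', Z, u, ha', hi', hN, hg, hy, hZ, hu, h1, h2, h3⟩ :=
      exists_chart a inferInstance inferInstance φ h y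
    have h4 : GIT.IsGeomQuot a' φ' := GeomBase.isGeomQuot_flat h hX a' ha' hi'
    have h5 : IsClosedImmersion (GIT.PsiY a' φ' hi') :=
      MorphismProperty.of_isPullback (GeomBase.isPullback_PsiY hX a' ha' h.inv hi') hc
    have h6 : IsLocallyNoetherian X'.left := by
      have h7 : IsLocallyNoetherian X.left := LocallyOfFiniteType.isLocallyNoetherian X.hom
      have : LocallyOfFiniteType pr.left :=
        MorphismProperty.of_isPullback (isPullback_left hX).flip (show LocallyOfFiniteType g.left from inferInstance)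
      exact LocallyOfFiniteType.isLocallyNoetherian pr.left
    obtain ⟨h7, h8⟩ := of_slice h4 u
    exact ⟨X', N, pr, φ', g, hX, a', ha', hi', hg, hy, h7, h8⟩
  refine ⟨?_, hlft, hqc, ?_⟩
  · refine K597.EffDesc.prop_of_etale_local @Flat φ.left fun y => ?_
    obtain ⟨X', N, pr, φ', g, hX, a', ha', hi', hg, hy, h1, h2⟩ := key y
    exact ⟨N.left, g.left, X'.left, pr.left, φ'.left, hg, hy, isPullback_left hX, h1⟩
  · rw [← MorphismProperty.isomorphisms.iff]
    refine K597.EffDesc.prop_of_etale_local (MorphismProperty.isomorphisms Scheme.{u}) (GIT.PsiY a φ h.inv) fun p => ?_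
    obtain ⟨X', N, pr, φ', g, hX, a', ha', hi', hg, hy, h1, h2⟩ :=
      key ((pullback.fst φ.left φ.left ≫ φ.left) p)
    have sq := GeomBase.isPullback_PsiY hX a' ha' h.inv hi'
    have sq2 := K957.UnivOpen.isPullback_mapKer_fst (isPullback_left hX)
    have sq3 := sq2.paste_vert (isPullback_left hX)
    refine ⟨_, K957.UnivOpen.mapKer (isPullback_left hX).w, _, (G ◁ pr).left, GIT.PsiY a' φ' hi', ?_, ?_, sq, h2⟩
    · have : Etale pr.left := MorphismProperty.of_isPullback (isPullback_left hX).flip hg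
      exact MorphismProperty.of_isPullback sq2.flip this
    · obtain ⟨n, hn⟩ := hy
      obtain ⟨q, hq, -⟩ := Scheme.exists_preimage_of_isPullback sq3 p n hn.symm
      exact ⟨q, hq⟩

end

end K686.PrinQ
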