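import Groth.Agent.GIT.K686.LocQuot
import Groth.Agent.GIT.K686.HaarRed
import Groth.Agent.GIT.K686.CoactOf
import Mathlib.AlgebraicGeometry.Noetherian

/-!
# The quotient of an affine scheme: the spectrum of the invariants
-/

set_option autoImplicit false
universe u
open CategoryTheory MonoidalCategory CartesianMonoidalCategory MonObj AlgebraicGeometry Topology Limits
open K951.Pts

namespace K686.QuotSpec

attribute [local instance] K951.Pts.algΓ

section

variable {k : Type u} [CommRing k] {G X : Over (Spec (CommRingCat.of k))} [GrpObj G] (a : AlgGrp.Action G X)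

/-- the algebra of invariant functions -/
noncomputable def invAlg : Subalgebra k Γ(X.left, ⊤) where
  carrier := {f | Haar.Inv a f}
  mul_mem' {f g} hf hg := by
    change Haar.Inv a (f * g)
    rw [Haar.Inv, map_mul, map_mul, hf, hg]
  add_mem' {f g} hf hg := by
    change Haar.Inv a (f + g)
    rw [Haar.Inv, map_add, map_add, hf, hg]
  algebraMap_mem' c := by
    change Haar.Inv a (X.hom.appTop ((Scheme.ΓSpecIso (CommRingCat.of k)).inv c))
    have h1 : a.act.left ≫ X.hom = (snd G X).left ≫ X.hom := (Over.w a.act).trans (Over.w (snd G X)).symm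
    have h2 := congrArg (fun t => t.appTop) h1
    rw [Scheme.Hom.comp_appTop, Scheme.Hom.comp_appTop] at h2
    exact congr($h2 ((Scheme.ΓSpecIso (CommRingCat.of k)).inv c))

theorem mem_invAlg {f : Γ(X.left, ⊤)} : f ∈ invAlg a ↔ Haar.Inv a f := Iff.rfl

/-- the quotient -/
noncomputable abbrev Y : Over (Spec (CommRingCat.of k)) := CoactBr.sp k (invAlg a)

/-- the quotient map -/
noncomputable def φ : X ⟶ Y a := ofFn (invAlg a).val

theorem fn_φ : fn (φ a) = (invAlg a).val := fn_ofFn _

theorem appTop_φ (b : invAlg a) :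
    (φ a).left.appTop ((Scheme.ΓSpecIso (CommRingCat.of (invAlg a))).inv b) = b.1 :=
  congr($(fn_φ a) b)

theorem isInvariant_φ : GIT.IsInvariant a (φ a) := by
  apply fn_injective
  ext b
  rw [fn_comp, fn_comp, fn_φ]
  exact b.2

theorem isAffQuot : IsAffQuot a (φ a) := by
  refine ⟨isInvariant_φ a, ?_, ?_⟩
  · intro x y hxy
    obtain ⟨x, rfl⟩ := (ConcreteCategory.bijective_of_isIso (Scheme.ΓSpecIso (CommRingCat.of (invAlg a))).inv).2 x
    obtain ⟨y, rfl⟩ := (ConcreteCategory.bijective_of_isIso (Scheme.ΓSpecIso (CommRingCat.of (invAlg a))).inv).2 y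
    rw [appTop_φ, appTop_φ] at hxy
    exact congrArg _ (Subtype.ext hxy)
  · apply Set.Subset.antisymm
    · rintro _ ⟨x, rfl⟩
      exact IsAffQuot.inv_app (isInvariant_φ a) x
    · intro f hf
      exact ⟨(Scheme.ΓSpecIso (CommRingCat.of (invAlg a))).inv ⟨f, hf⟩, appTop_φ a ⟨f, hf⟩⟩

theorem isNoetherian (H : Haar G) [IsAffine X.left] [IsNoetherian X.left] : IsNoetherian (Y a).left := by
  have : IsAffine (Y a).left := inferInstanceAs (IsAffine (Spec (CommRingCat.of (invAlg a))))
  have h0 : IsNoetherianRing Γ(X.left, ⊤) := by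
    have := IsLocallyNoetherian.component_noetherian (X := X.left) ⟨⊤, isAffineOpen_top X.left⟩
    exact this
  have h1 : IsNoetherianRing Γ((Y a).left, ⊤) := ((isAffQuot a).retr H).isNoetherianRing
  have h2 : IsNoetherianRing (invAlg a) :=
    isNoetherianRing_of_ringEquiv Γ((Y a).left, ⊤) (Scheme.ΓSpecIso (CommRingCat.of (invAlg a))).commRingCatIsoToRingEquiv
  exact inferInstanceAs (IsNoetherian (Spec (CommRingCat.of (invAlg a))))

end

section

variable {k : Type u} [Field k] {G X : Over (Spec (CommRingCat.of k))} [GrpObj G] (a : AlgGrp.Action G X)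

theorem locallyOfFiniteType [IsAffine X.left] {C : Type u} [CommRing C] [HopfAlgebra k C]
    (e : CoactBr.sp k C ≅ G) [IsMonHom e.hom] [Algebra.FiniteType k C] (hG : HopfRep.IsLinearlyReductive k C)
    (h : LocallyOfFiniteType X.hom) : LocallyOfFiniteType (Y a).hom := by
  have h1 : Algebra.FiniteType k Γ(X.left, ⊤) := by
    have h2 : RingHom.FiniteType X.hom.appTop.hom := by
      have := (HasRingHomProperty.iff_of_isAffine (P := @LocallyOfFiniteType) (f := X.hom)).mp h
      exact this
    have h3 : RingHom.FiniteType (X.hom.appTop.hom.comp (Scheme.ΓSpecIso (CommRingCat.of k)).inv.hom) :=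
      h2.comp (RingHom.FiniteType.of_surjective _
        (ConcreteCategory.bijective_of_isIso (Scheme.ΓSpecIso (CommRingCat.of k)).inv).2)
    exact h3
  obtain ⟨s, hs, hs'⟩ := CoactOf.exists_generators_inv a e hG
  have h2 : invAlg a = Algebra.adjoin k (s : Set Γ(X.left, ⊤)) := by
    apply le_antisymm
    · intro f hf
      exact hs' f hf
    · exact Algebra.adjoin_le fun f hf => hs f hf
  have h3 : Algebra.FiniteType k (invAlg a) := by
    rw [h2]
    exact (Subalgebra.fg_iff_finiteType _).mp ⟨s, rfl⟩
  have h4 : LocallyOfFiniteType (Spec.map (CommRingCat.ofHom (algebraMap k (invAlg a)))) := by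
    rw [HasRingHomProperty.Spec_iff (P := @LocallyOfFiniteType)]
    exact h3
  exact h4

/-- the main theorem on affine quotients by connected reductive groups in characteristic zero, given that
reductive groups are linearly reductive -/
theorem main
    (hLR : ∀ (A : Type u) [CommRing A] [HopfAlgebra k A] [Algebra.FiniteType k A]
      [ConnectedSpace ↥(Spec (CommRingCat.of A))],
      Red.IsReductive ((Spec (CommRingCat.of A)).asOver (Spec (CommRingCat.of k))) →
      HopfRep.IsLinearlyReductive k A)
    (hG : Red.IsReductive G) [IsAffine X.left] :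
    ∃ (Y : Over (Spec (CommRingCat.of k))) (φ : X ⟶ Y), IsAffine Y.left ∧
      Function.Injective φ.left.appTop ∧
      Set.range φ.left.appTop = {f : Γ(X.left, ⊤) | a.act.left.appTop f = (snd G X).left.appTop f} ∧
      GIT.IsUnivCatQuot a φ ∧ GIT.IsUnivSubmersive φ.left ∧
      (IsNoetherian X.left → IsNoetherian Y.left) ∧
      (LocallyOfFiniteType X.hom → LocallyOfFiniteType Y.hom) := by
  obtain ⟨H⟩ := HaarRed.exists_haar hLR hG
  have : IsAffine (Y a).left := inferInstanceAs (IsAffine (Spec (CommRingCat.of (invAlg a))))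
  have hq := isAffQuot a
  refine ⟨Y a, φ a, this, hq.inj, hq.range, hq.isUnivCatQuot H, hq.isUnivSubmersive H,
    fun _ => isNoetherian a H, fun h => ?_⟩
  obtain ⟨C, _, _, e, _, hft, hlr⟩ := HaarRed.exists_hopf_lr hLR hG
  exact locallyOfFiniteType a e hlr h

end

end K686.QuotSpec
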