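import Groth.Agent.GIT.K686.AffQuot

/-!
# Separation of closed invariant subsets by invariant functions
-/

set_option autoImplicit false
universe u
open CategoryTheory MonoidalCategory CartesianMonoidalCategory MonObj AlgebraicGeometry Topology

namespace K686.Separate

variable {S : Scheme.{u}} {G : Over S} [GrpObj G]

theorem invSet_of_image_subset {X : Over S} (a : AlgGrp.Action G X) {W : Set X.left}
    (h : a.act.left.base '' ((snd G X).left.base ⁻¹' W) ⊆ W) : InvSet a W :=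
  fun z hz => h ⟨z, hz, rfl⟩

theorem mem_zeroLocus_iff {X : Scheme.{u}} (f : Γ(X, ⊤)) (x : X) :
    x ∈ X.zeroLocus (U := ⊤) {f} ↔ f ∈ (X.toSpecΓ x).asIdeal := by
  rw [← Scheme.toSpecΓ_preimage_zeroLocus]
  exact (PrimeSpectrum.mem_zeroLocus (X.toSpecΓ x) {f}).trans Set.singleton_subset_iff

/-- disjoint closed invariant subsets of an affine scheme are separated by invariant functions -/
theorem exists_separating (H : Haar G) {X : Over S} [IsAffine X.left] (a : AlgGrp.Action G X) (W₁ W₂ : Set X.left)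
    (h₁ : IsClosed W₁) (h₂ : IsClosed W₂) (hi₁ : InvSet a W₁) (hi₂ : InvSet a W₂) (hd : Disjoint W₁ W₂) :
    ∃ f : Γ(X.left, ⊤), Haar.Inv a f ∧ W₁ ⊆ X.left.zeroLocus (U := ⊤) {f} ∧
      W₂ ⊆ X.left.zeroLocus (U := ⊤) {1 - f} := by
  have := H.affine X
  have h : invIdeal a (van W₁) ⊔ invIdeal a (van W₂) = ⊤ := by
    by_contra hne
    obtain ⟨m, hm, hle⟩ := Ideal.exists_le_maximal _ hne
    obtain ⟨x, hx⟩ := (toSpecΓ_bijective X.left).2 ⟨m, hm.isPrime⟩
    have e1 : x ∈ W₁ := by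
      rw [mem_iff_invIdeal_le a h₁ hi₁, hx]
      exact le_sup_left.trans hle
    have e2 : x ∈ W₂ := by
      rw [mem_iff_invIdeal_le a h₂ hi₂, hx]
      exact le_sup_right.trans hle
    exact Set.disjoint_left.mp hd e1 e2
  rw [Ideal.eq_top_iff_one, Submodule.mem_sup] at h
  obtain ⟨j₁, hj₁, j₂, hj₂, h12⟩ := h
  have hE : H.E a j₁ + H.E a j₂ = 1 := by
    rw [← map_add, h12, H.E_one a]
  refine ⟨H.E a j₁, H.inv_E a j₁, fun x hx => ?_, fun x hx => ?_⟩
  · rw [mem_zeroLocus_iff]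
    exact mem_van.mp (invIdeal_le a _ (H.E_mem a _ hj₁)) x hx
  · rw [mem_zeroLocus_iff]
    have e1 : 1 - H.E a j₁ = H.E a j₂ := by rw [← hE, add_sub_cancel_left]
    rw [e1]
    exact mem_van.mp (invIdeal_le a _ (H.E_mem a _ hj₂)) x hx

end K686.Separate
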