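import Groth.Agent.GIT.K686.QuotSpec
import Groth.Agent.GIT.K686.Separate
import Groth.Agent.GIT.K686.GeomAff

/-!
# Quotients of affine schemes by connected reductive groups in characteristic zero

All theorems take "reductive ⟹ linearly reductive" (S8082) as hypothesis `hLR`.
-/

set_option autoImplicit false
universe u
open CategoryTheory MonoidalCategory CartesianMonoidalCategory MonObj AlgebraicGeometry Topology Limits

namespace K686.RedQuot

/-- "connected reductive groups over `k` are linearly reductive" (S8082 in characteristic zero) -/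
def RedLR (k : Type u) [Field k] : Prop :=
  ∀ (A : Type u) [CommRing A] [HopfAlgebra k A] [Algebra.FiniteType k A]
    [ConnectedSpace ↥(Spec (CommRingCat.of A))],
    Red.IsReductive ((Spec (CommRingCat.of A)).asOver (Spec (CommRingCat.of k))) →
    HopfRep.IsLinearlyReductive k A

section

variable {S : Scheme.{u}} {G : Over S} [GrpObj G] {X Y Y₀ : Over S} {a : AlgGrp.Action G X} {φ : X ⟶ Y}
  {φ₀ : X ⟶ Y₀}

/-- categorical quotients are unique -/
theorem exists_iso (h : GIT.IsCatQuot a φ) (h₀ : GIT.IsCatQuot a φ₀) : ∃ χ : Y ≅ Y₀, φ ≫ χ.hom = φ₀ := by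
  obtain ⟨f, hf, -⟩ := h.2 Y₀ φ₀ h₀.1
  obtain ⟨g, hg, -⟩ := h₀.2 Y φ h.1
  refine ⟨⟨f, g, ?_, ?_⟩, hf⟩
  · exact (h.2 Y φ h.1).unique (by rw [← Category.assoc, hf, hg]) (Category.comp_id _)
  · exact (h₀.2 Y₀ φ₀ h₀.1).unique (by rw [← Category.assoc, hg, hf]) (Category.comp_id _)

/-- affine quotients transport along isomorphisms of the target -/
theorem isAffQuot_of_iso (h₀ : IsAffQuot a φ₀) (χ : Y ≅ Y₀) (h : φ ≫ χ.hom = φ₀) : IsAffQuot a φ := by
  have h1 : φ = φ₀ ≫ χ.inv := by rw [← h, Category.assoc, Iso.hom_inv_id, Category.comp_id]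
  have h2 : IsIso χ.inv.left := inferInstance
  have h3 : Function.Bijective χ.inv.left.appTop :=
    @ConcreteCategory.bijective_of_isIso _ _ _ _ _ _ _ _ χ.inv.left.appTop
      (inferInstanceAs (IsIso (χ.inv.left.app ⊤)))
  have h4 : ∀ r, φ.left.appTop r = φ₀.left.appTop (χ.inv.left.appTop r) := by
    intro r
    rw [h1, Haar.comp_appTop']
  refine ⟨?_, ?_, ?_⟩
  · have h5 : a.act ≫ φ₀ = snd G X ≫ φ₀ := h₀.inv
    change a.act ≫ φ = snd G X ≫ φ
    rw [h1, ← Category.assoc, h5, Category.assoc]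
  · intro x y hxy
    rw [h4, h4] at hxy
    exact h3.1 (h₀.inj hxy)
  · rw [← h₀.range]
    apply Set.Subset.antisymm
    · rintro _ ⟨r, rfl⟩
      exact ⟨_, (h4 r).symm⟩
    · rintro _ ⟨r, rfl⟩
      obtain ⟨s, rfl⟩ := h3.2 r
      exact ⟨s, h4 s⟩

end

variable {k : Type u} [Field k] (hLR : RedLR k) {G X : Over (Spec (CommRingCat.of k))} [GrpObj G]
  (hG : Red.IsReductive G) [IsAffine X.left] (a : AlgGrp.Action G X)

include hLR hG

theorem exists_univCatQuot :
    ∃ (Y : Over (Spec (CommRingCat.of k))) (φ : X ⟶ Y), IsAffine Y.left ∧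
      Function.Injective φ.left.appTop ∧
      Set.range φ.left.appTop = {f : Γ(X.left, ⊤) | a.act.left.appTop f = (snd G X).left.appTop f} ∧
      GIT.IsUnivCatQuot a φ ∧ GIT.IsUnivSubmersive φ.left ∧
      (IsNoetherian X.left → IsNoetherian Y.left) ∧
      (LocallyOfFiniteType X.hom → LocallyOfFiniteType Y.hom) :=
  QuotSpec.main a hLR hG

theorem exists_separating (W₁ W₂ : Set X.left) (h₁ : IsClosed W₁) (h₂ : IsClosed W₂)
    (hi₁ : a.act.left.base '' ((snd G X).left.base ⁻¹' W₁) ⊆ W₁)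
    (hi₂ : a.act.left.base '' ((snd G X).left.base ⁻¹' W₂) ⊆ W₂) (hd : Disjoint W₁ W₂) :
    ∃ f : Γ(X.left, ⊤), a.act.left.appTop f = (snd G X).left.appTop f ∧
      W₁ ⊆ X.left.zeroLocus (U := ⊤) {f} ∧ W₂ ⊆ X.left.zeroLocus (U := ⊤) {1 - f} := by
  obtain ⟨H⟩ := HaarRed.exists_haar hLR hG
  exact Separate.exists_separating H a W₁ W₂ h₁ h₂ (Separate.invSet_of_image_subset a hi₁)
    (Separate.invSet_of_image_subset a hi₂) hd

/-- a categorical quotient of an affine scheme is affine, with ring of functions the invariants -/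
theorem isAffQuot_of_isCatQuot {Y : Over (Spec (CommRingCat.of k))} {φ : X ⟶ Y} (hq : GIT.IsCatQuot a φ) :
    IsAffine Y.left ∧ IsAffQuot a φ := by
  obtain ⟨H⟩ := HaarRed.exists_haar hLR hG
  have : IsAffine (QuotSpec.Y a).left := inferInstanceAs (IsAffine (Spec (CommRingCat.of (QuotSpec.invAlg a))))
  have h₀ := QuotSpec.isAffQuot a
  obtain ⟨χ, hχ⟩ := exists_iso hq (h₀.isUnivCatQuot H).1
  have : IsIso χ.hom.left := inferInstance
  exact ⟨IsAffine.of_isIso χ.hom.left, isAffQuot_of_iso h₀ χ hχ⟩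

theorem isGeomQuot_iff {Y : Over (Spec (CommRingCat.of k))} {φ : X ⟶ Y} (hq : GIT.IsCatQuot a φ) :
    (GIT.IsGeomQuot a φ ↔ GIT.IsClosedAction a) ∧ (GIT.IsClosedAction a → GIT.IsUnivGeomQuot a φ) := by
  obtain ⟨H⟩ := HaarRed.exists_haar hLR hG
  obtain ⟨_, h⟩ := isAffQuot_of_isCatQuot hLR hG a hq
  exact GeomAff.main h H

end K686.RedQuot
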