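import Groth.Agent.GIT.K686.RigTop
import Groth.Agent.GIT.K686.H0bc
import Groth.Agent.GIT.K686.Whisk
import Mathlib.CategoryTheory.Monoidal.Cartesian.Grp

/-!
# Rigidity for morphisms to groups
-/

set_option autoImplicit false
universe u
open CategoryTheory MonoidalCategory CartesianMonoidalCategory MonObj AlgebraicGeometry

namespace K686.RigGrp

open K686.RigTop K686.Whisk

variable {S : Scheme.{u}} {X Y G : Over S}

/-- a family of morphisms `X ⟶ G` parametrized by `Y` with a constant member -/
theorem mem_col (H : X ⊗ Y ⟶ G) {T : Over S} [Subsingleton T.left] (x : T ⟶ Y) (t₀ : T.left)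
    (c : T ⟶ G) (hc : (X ◁ x) ≫ H = snd X T ≫ c) :
    x.left t₀ ∈ Col (snd X Y).left (lift H (snd X Y)).left := by
  have key : ∀ z : (X ⊗ Y).left, (snd X Y).left z = x.left t₀ →
      (lift H (snd X Y)).left z = (lift c x).left t₀ := by
    intro z hz
    have h1 := range_of_isPullback (isPullback_whiskerLeft_left x X)
    have h2 : z ∈ Set.range (X ◁ x).left := by
      rw [h1]
      exact ⟨t₀, hz.symm⟩
    obtain ⟨w, rfl⟩ := h2
    have h3 : (X ◁ x) ≫ lift H (snd X Y) = snd X T ≫ lift c x := by
      apply CartesianMonoidalCategory.hom_ext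
      · simp [hc]
      · simp
    rw [← Scheme.Hom.comp_apply, ← Over.comp_left, h3, Over.comp_left, Scheme.Hom.comp_apply]
    congr 1
    exact Subsingleton.elim _ _
  intro z z' hz hz'
  rw [key z hz, key z' hz']

/-- the rigidity lemma for families -/
theorem exists_eq_snd_comp [IsProper X.hom] [Flat X.hom] [IsSeparated G.hom]
    [IsLocallyNoetherian Y.left]
    (h0 : ∀ s : S, Function.Bijective (Limits.pullback.snd X.hom (S.fromSpecResidueField s)).appTop)
    (H : X ⊗ Y ⟶ G) (hu : IsClopen (Col (snd X Y).left (lift H (snd X Y)).left) →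
      Col (snd X Y).left (lift H (snd X Y)).left = Set.univ) :
    ∃ h : Y ⟶ G, H = snd X Y ≫ h := by
  have hpb : IsPullback (fst X Y).left (snd X Y).left X.hom Y.hom := IsPullback.of_hasPullback _ _
  have h1 : IsProper (snd X Y).left := MorphismProperty.of_isPullback hpb ‹_›
  have h2 : Flat (snd X Y).left := MorphismProperty.of_isPullback hpb ‹_›
  have hpb' : IsPullback (fst G Y).left (snd G Y).left G.hom Y.hom := IsPullback.of_hasPullback _ _
  have h3 : IsSeparated (snd G Y).left := MorphismProperty.of_isPullback hpb' ‹_›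
  obtain ⟨t, ht1, ht2⟩ := main_proper (p := (snd X Y).left) (q := (snd G Y).left)
    (f := (lift H (snd X Y)).left) (by rw [← Over.comp_left, lift_snd])
    (H0bc.bijective_baseChange hpb h0) hu
  refine ⟨Over.homMk (t ≫ (fst G Y).left) ?_, ?_⟩
  · rw [Category.assoc, hpb'.w, ← Category.assoc, ht1, Category.id_comp]
  · apply Over.OverMorphism.ext
    have h4 : H.left = (lift H (snd X Y)).left ≫ (fst G Y).left := by
      rw [← Over.comp_left, lift_fst]
    rw [h4, ht2, Category.assoc]
    rfl

/-- morphisms `X ⟶ G` collapsing a fibre -/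
theorem exists_eq_toUnit_comp [IsLocallyNoetherian S] [ConnectedSpace S] [IsProper X.hom]
    [Flat X.hom] [IsSeparated G.hom]
    (h0 : ∀ s : S, Function.Bijective (Limits.pullback.snd X.hom (S.fromSpecResidueField s)).appTop)
    (H : X ⟶ G) (s : S) (hs : ∀ x x' : X.left, X.hom x = s → X.hom x' = s → H.left x = H.left x') :
    ∃ t : 𝟙_ (Over S) ⟶ G, H = toUnit X ≫ t := by
  obtain ⟨t, ht1, ht2⟩ := main_proper (p := X.hom) (q := G.hom) (f := H.left) (Over.w H) h0
    (fun h => IsClopen.eq_univ h ⟨s, hs⟩)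
  refine ⟨Over.homMk t ht1, ?_⟩
  apply Over.OverMorphism.ext
  rw [ht2]
  rfl

end K686.RigGrp
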