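import Groth.Agent.GIT.K686.RigSec
import Groth.Agent.S3567
import Groth.Agent.S0980
import Mathlib.AlgebraicGeometry.Morphisms.UniversallyOpen
import Mathlib.AlgebraicGeometry.Morphisms.Proper
import Mathlib.AlgebraicGeometry.Noetherian
import Mathlib.RingTheory.Spectrum.Prime.ConstructibleSet

/-!
# Rigidity: the topological part

`main` : the rigidity lemma, for `p` flat and either proper or closed with a section.
-/

set_option autoImplicit false
universe u
open CategoryTheory Limits AlgebraicGeometry TopologicalSpace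

namespace K686.RigTop

/-- in a locally Noetherian scheme an open set stable under specialization is closed -/
theorem isClosed_of_isOpen {S : Scheme.{u}} [IsLocallyNoetherian S] (C : Set S) (ho : IsOpen C)
    (hs : StableUnderSpecialization C) : IsClosed C := by
  rw [← isOpen_compl_iff, isOpen_iff_forall_mem_open]
  intro x hx
  obtain ⟨_, ⟨V : S.Opens, hV, rfl⟩, hxV, -⟩ :=
    S.isBasis_affineOpens.exists_subset_of_mem_open (Set.mem_univ x) isOpen_univ
  have hN : IsNoetherianRing Γ(S, V) := IsLocallyNoetherian.component_noetherian ⟨V, hV⟩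
  let D : Set (Spec Γ(S, V)) := hV.fromSpec ⁻¹' C
  have hD1 : IsOpen D := ho.preimage hV.fromSpec.continuous
  have hD2 : StableUnderSpecialization D := fun a b hab ha =>
    hs (hab.map hV.fromSpec.continuous) ha
  have hD3 : Topology.IsConstructible (X := PrimeSpectrum Γ(S, V)) D := by
    have : NoetherianSpace (PrimeSpectrum Γ(S, V)) := inferInstance
    exact IsRetrocompact.isConstructible hD1 (fun U _ _ => NoetherianSpace.isCompact _)
  have hD4 : IsClosed D :=
    PrimeSpectrum.isClosed_of_stableUnderSpecialization_of_isConstructible hD2 hD3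
  refine ⟨hV.fromSpec '' Dᶜ, ?_, ?_, ?_⟩
  · rintro _ ⟨y, hy, rfl⟩ h
    exact hy h
  · exact hV.fromSpec.isOpenEmbedding.isOpenMap _ hD4.isOpen_compl
  · have : x ∈ Set.range hV.fromSpec := by rw [hV.range_fromSpec]; exact hxV
    obtain ⟨y, rfl⟩ := this
    exact ⟨y, hx, rfl⟩

variable {S X Y : Scheme.{u}} (p : X ⟶ S) (q : Y ⟶ S) (f : X ⟶ Y)

/-- `f` factors through `p` over `U` -/
def Fac (U : S.Opens) (g : (U : Scheme.{u}) ⟶ Y) : Prop :=
  ∀ (T : Scheme.{u}) (t : T ⟶ X) (t' : T ⟶ U), t ≫ p = t' ≫ U.ι → t ≫ f = t' ≫ g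

/-- the points over which `f` is set-theoretically constant -/
def Col : Set S := {s | ∀ x x' : X, p x = s → p x' = s → f x = f x'}

variable {p q f}

theorem stable [Flat p] [IsSeparated q] (hf : f ≫ q = p)
    (hfac : ∀ s ∈ Col p f, ∃ (U : S.Opens) (g : (U : Scheme.{u}) ⟶ Y), s ∈ U ∧ Fac p f U g) :
    StableUnderSpecialization (Col p f) := by
  intro s₁ s₂ hs hs₁ x x' hx hx'
  obtain ⟨U, g, hU, hg⟩ := hfac s₁ hs₁
  obtain ⟨z, hz1, hz2⟩ := Scheme.Pullback.exists_preimage_pullback (f := p) (g := p) x x'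
    (hx.trans hx'.symm)
  let π : pullback p p ⟶ S := pullback.fst p p ≫ p
  have hπ : π = pullback.snd p p ≫ p := pullback.condition
  have hz : π z = s₂ := by
    rw [Scheme.Hom.comp_apply, hz1, hx]
  have hgen : GeneralizingMap π := Flat.generalizingMap π
  obtain ⟨z₁, hz₁, hz₁'⟩ := hgen (show s₁ ⤳ π z by rw [hz]; exact hs)
  let Po : Over S := Over.mk π
  let Yo : Over S := Over.mk q
  have hsep : IsSeparated Yo.hom := ‹IsSeparated q›
  let F : Po ⟶ Yo := Over.homMk (pullback.fst p p ≫ f) (by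
    change (pullback.fst p p ≫ f) ≫ q = π
    rw [Category.assoc, hf])
  let F' : Po ⟶ Yo := Over.homMk (pullback.snd p p ≫ f) (by
    change (pullback.snd p p ≫ f) ≫ q = π
    rw [Category.assoc, hf, hπ])
  let ι := (equalizer.ι F F').left
  have hι : IsClosedImmersion ι := isClosedImmersion_equalizer_ι_left F F'
  have hιf : ι ≫ pullback.fst p p ≫ f = ι ≫ pullback.snd p p ≫ f := by
    have := congrArg Over.Hom.left (equalizer.condition F F')
    rw [Over.comp_left, Over.comp_left] at this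
    exact this
  have hW : z₁ ∈ Set.range ι := by
    let W : (pullback p p).Opens := π ⁻¹ᵁ U
    let t' : (W : Scheme.{u}) ⟶ U := π ∣_ U
    have ht' : t' ≫ U.ι = W.ι ≫ π := morphismRestrict_ι π U
    have h1 := hg _ (W.ι ≫ pullback.fst p p) t' (by rw [ht', Category.assoc])
    have h2 := hg _ (W.ι ≫ pullback.snd p p) t' (by rw [ht', Category.assoc, hπ])
    let Wo : Over S := Over.mk (W.ι ≫ π)
    let w : Wo ⟶ Po := Over.homMk W.ι rfl
    have hw : w ≫ F = w ≫ F' := by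
      apply Over.OverMorphism.ext
      change W.ι ≫ pullback.fst p p ≫ f = W.ι ≫ pullback.snd p p ≫ f
      rw [← Category.assoc, ← Category.assoc, h1, h2]
    have hz₁W : z₁ ∈ W := by
      change π z₁ ∈ U
      rw [hz₁']
      exact hU
    have hwl : (equalizer.lift w hw).left ≫ ι = W.ι := by
      rw [← Over.comp_left, equalizer.lift_ι]
      rfl
    refine ⟨(equalizer.lift w hw).left ⟨z₁, hz₁W⟩, ?_⟩
    rw [← Scheme.Hom.comp_apply, hwl]
    rfl
  have hz' : z ∈ Set.range ι := by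
    have hcl : IsClosed (Set.range ι) := ι.isClosedEmbedding.isClosed_range
    exact hz₁.mem_closed hcl hW
  obtain ⟨w, rfl⟩ := hz'
  rw [← hz1, ← hz2]
  rw [← Scheme.Hom.comp_apply, ← Scheme.Hom.comp_apply, ← Scheme.Hom.comp_apply,
    ← Scheme.Hom.comp_apply, hιf]

/-- the neighbourhoods of a fibre of a closed map -/
theorem exists_nhd (hp : IsClosedMap p) (W : X.Opens) (s : S) (hs : ∀ x, p x = s → x ∈ W) :
    ∃ U : S.Opens, s ∈ U ∧ IsAffineOpen U ∧ p ⁻¹ᵁ U ≤ W := by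
  have h1 : IsClosed (p '' (W : Set X)ᶜ) := hp _ W.isOpen.isClosed_compl
  obtain ⟨_, ⟨U : S.Opens, hU, rfl⟩, hsU, hUle⟩ :=
    S.isBasis_affineOpens.exists_subset_of_mem_open
      (show s ∈ (p '' (W : Set X)ᶜ)ᶜ from fun ⟨x, hx, hxs⟩ => hx (hs x hxs)) h1.isOpen_compl
  refine ⟨U, hsU, hU, fun x hx => ?_⟩
  by_contra h
  exact hUle hx ⟨x, h, rfl⟩

/-- the case with a section: local factorization -/
theorem exists_fac_of_section [IsLocallyNoetherian S] [IsLocallyNoetherian X] [Flat p]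
    [IsSeparated q] (hf : f ≫ q = p) {e : S ⟶ X} (hep : e ≫ p = 𝟙 S)
    (h0 : ∀ s, Function.Surjective (pullback.snd p (S.fromSpecResidueField s)).appTop)
    (hp : IsClosedMap p) (s : S) (hs : s ∈ Col p f) :
    ∃ U : S.Opens, s ∈ U ∧ Fac p f U (U.ι ≫ e ≫ f) := by
  have h1 : ∀ x, p x = s → ∃ W : X.Opens, x ∈ W ∧ W.ι ≫ f = W.ι ≫ p ≫ e ≫ f := fun x hx =>
    RigSec.exists_open_eq hf hep (h0 s) hs x hx
  choose! W hxW hW using h1
  let W' : X.Opens := ⨆ x : {x : X // p x = s}, W x.1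
  obtain ⟨U, hsU, -, hU⟩ := exists_nhd hp W' s (fun x hx =>
    Opens.mem_iSup.mpr ⟨⟨x, hx⟩, hxW x hx⟩)
  refine ⟨U, hsU, fun T t t' ht => ?_⟩
  rw [← Category.assoc t' U.ι, ← ht, Category.assoc]
  apply Scheme.hom_ext_of_forall
  intro τ
  have h2 : t τ ∈ W' := by
    apply hU
    change p (t τ) ∈ U
    rw [← Scheme.Hom.comp_apply, ht, Scheme.Hom.comp_apply]
    exact (t' τ).2
  obtain ⟨⟨x, hx⟩, hxτ⟩ := Opens.mem_iSup.mp h2
  refine ⟨t ⁻¹ᵁ W x, hxτ, ?_⟩
  rw [← morphismRestrict_ι_assoc, ← morphismRestrict_ι_assoc, hW x hx]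

/-- factorization through a morphism which is universal for maps to affine schemes -/
theorem exists_of_isAffine {X' U V : Scheme.{u}} [IsAffine U] [IsAffine V] (p' : X' ⟶ U)
    [IsIso p'.appTop] (f' : X' ⟶ V) : ∃ g : U ⟶ V, p' ≫ g = f' := by
  refine ⟨U.isoSpec.hom ≫ Spec.map (f'.appTop ≫ inv p'.appTop) ≫ V.isoSpec.inv, ?_⟩
  have h1 : p' ≫ U.isoSpec.hom = X'.toSpecΓ ≫ Spec.map p'.appTop := Scheme.toSpecΓ_naturality p'
  have h2 : f' ≫ V.isoSpec.hom = X'.toSpecΓ ≫ Spec.map f'.appTop := Scheme.toSpecΓ_naturality f'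
  rw [← Category.assoc, h1, Category.assoc, ← Spec.map_comp_assoc, Category.assoc,
    IsIso.inv_hom_id, Category.comp_id, ← Category.assoc, ← h2, Category.assoc, Iso.hom_inv_id,
    Category.comp_id]

/-- the case with constant functions: local factorization -/
theorem exists_fac_of_isIso (hi : ∀ U : S.Opens, IsIso (p.app U)) (hp : IsClosedMap p) (s : S)
    (hne : ∃ x, p x = s) (hs : s ∈ Col p f) :
    ∃ (U : S.Opens) (g : (U : Scheme.{u}) ⟶ Y), s ∈ U ∧ Fac p f U g := by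
  obtain ⟨x₀, hx₀⟩ := hne
  obtain ⟨_, ⟨V : Y.Opens, hV, rfl⟩, hyV, -⟩ :=
    Y.isBasis_affineOpens.exists_subset_of_mem_open (Set.mem_univ (f x₀)) isOpen_univ
  obtain ⟨U, hsU, hU, hUV⟩ := exists_nhd hp (f ⁻¹ᵁ V) s (fun x hx => by
    change f x ∈ V
    rw [hs x x₀ hx hx₀]
    exact hyV)
  have hUaff : IsAffine (U : Scheme.{u}) := hU
  have hVaff : IsAffine (V : Scheme.{u}) := hV
  have hr : Set.range ((p ⁻¹ᵁ U).ι ≫ f) ⊆ Set.range V.ι := by
    rintro _ ⟨w, rfl⟩
    rw [Scheme.Opens.range_ι, Scheme.Hom.comp_apply]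
    exact hUV w.2
  let f' := IsOpenImmersion.lift V.ι ((p ⁻¹ᵁ U).ι ≫ f) hr
  have hf' : f' ≫ V.ι = (p ⁻¹ᵁ U).ι ≫ f := IsOpenImmersion.lift_fac _ _ _
  have hiso : IsIso (p ∣_ U).appTop := by
    rw [Scheme.Hom.appTop, morphismRestrict_app]
    refine @IsIso.comp_isIso _ _ _ _ _ _ _ (hi _) ?_
    exact @Functor.map_isIso _ _ _ _ _ _ X.presheaf _ (isIso_op _)
  obtain ⟨g, hg⟩ := exists_of_isAffine (p ∣_ U) f'
  refine ⟨U, g ≫ V.ι, hsU, fun T t t' ht => ?_⟩
  have hrt : Set.range t ⊆ Set.range (p ⁻¹ᵁ U).ι := by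
    rintro _ ⟨w, rfl⟩
    rw [Scheme.Opens.range_ι]
    change p (t w) ∈ U
    rw [← Scheme.Hom.comp_apply, ht, Scheme.Hom.comp_apply]
    exact (t' w).2
  let τ := IsOpenImmersion.lift (p ⁻¹ᵁ U).ι t hrt
  have hτ : τ ≫ (p ⁻¹ᵁ U).ι = t := IsOpenImmersion.lift_fac _ _ _
  have hτ' : τ ≫ (p ∣_ U) = t' := by
    rw [← cancel_mono U.ι, Category.assoc, morphismRestrict_ι, ← Category.assoc, hτ, ht]
  rw [← hτ, Category.assoc, ← hf', ← hg, ← hτ']
  simp only [Category.assoc]

theorem isOpen_of_fac (hfac : ∀ s ∈ Col p f, ∃ (U : S.Opens) (g : (U : Scheme.{u}) ⟶ Y),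
    s ∈ U ∧ Fac p f U g) : IsOpen (Col p f) := by
  rw [isOpen_iff_forall_mem_open]
  intro s hs
  obtain ⟨U, g, hsU, hg⟩ := hfac s hs
  refine ⟨U, fun s' hs' x x' hx hx' => ?_, U.isOpen, hsU⟩
  have key : ∀ x : X, ∀ hx : p x = s', f x = g ⟨s', hs'⟩ := by
    intro x hx
    have hxU : x ∈ p ⁻¹ᵁ U := by
      change p x ∈ U
      rw [hx]
      exact hs'
    have h1 := hg _ (p ⁻¹ᵁ U).ι (p ∣_ U) (morphismRestrict_ι p U).symm
    have h2 := congrArg (fun k : ((p ⁻¹ᵁ U : X.Opens) : Scheme.{u}) ⟶ Y => k ⟨x, hxU⟩) h1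
    change f x = g ((p ∣_ U) ⟨x, hxU⟩) at h2
    rw [h2]
    congr 1
    apply Subtype.ext
    have h3 := congrArg (fun k : ((p ⁻¹ᵁ U : X.Opens) : Scheme.{u}) ⟶ S => k ⟨x, hxU⟩)
      (morphismRestrict_ι p U)
    exact h3.trans hx
  rw [key x hx, key x' hx']

theorem nonempty_fibre (h0 : ∀ s, Function.Bijective
    (pullback.snd p (S.fromSpecResidueField s)).appTop) (s : S) : ∃ x, p x = s := by
  have hne : Nonempty ↑(pullback p (S.fromSpecResidueField s)) := by
    by_contra h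
    rw [not_nonempty_iff] at h
    have h1 : Subsingleton Γ(pullback p (S.fromSpecResidueField s), ⊤) := by
      have : (⊤ : (pullback p (S.fromSpecResidueField s)).Opens) = ⊥ := by
        ext x
        exact h.elim x
      rw [this]
      infer_instance
    have h2 : Subsingleton Γ(Spec (S.residueField s), ⊤) := (h0 s).1.subsingleton
    have h3 : Subsingleton (S.residueField s) :=
      (Scheme.ΓSpecIso (S.residueField s)).commRingCatIsoToRingEquiv.symm.injective.subsingleton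
    exact not_subsingleton _ h3
  obtain ⟨z⟩ := hne
  refine ⟨pullback.fst p (S.fromSpecResidueField s) z, ?_⟩
  rw [← Scheme.Hom.comp_apply, pullback.condition, Scheme.Hom.comp_apply,
    Scheme.fromSpecResidueField_apply]

/-- the rigidity lemma for proper flat morphisms; the connectedness is only used through `hu` -/
theorem main_proper [IsLocallyNoetherian S] (hf : f ≫ q = p) [Flat p] [IsSeparated q]
    (h0 : ∀ s : S, Function.Bijective (pullback.snd p (S.fromSpecResidueField s)).appTop)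
    [IsProper p] (hu : IsClopen (Col p f) → Col p f = Set.univ) :
    ∃ t : S ⟶ Y, t ≫ q = 𝟙 S ∧ f = p ≫ t := by
  have hsurj : Surjective p := ⟨fun s => nonempty_fibre h0 s⟩
  have hfp : LocallyOfFinitePresentation p :=
    LocallyOfFinitePresentation.iff_locallyOfFiniteType.mpr inferInstance
  have hi : ∀ U : S.Opens, IsIso (p.app U) := fun U =>
    Groth.Agent.S0980.result p (fun s => (ConcreteCategory.isIso_iff_bijective _).mpr (h0 s)) U
  have hcl : IsClosedMap p := p.isClosedMap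
  have hfac : ∀ s ∈ Col p f, ∃ (U : S.Opens) (g : (U : Scheme.{u}) ⟶ Y),
      s ∈ U ∧ Fac p f U g := fun s hs =>
    exists_fac_of_isIso hi hcl s (nonempty_fibre h0 s) hs
  have h1 := isOpen_of_fac hfac
  have h2 := isClosed_of_isOpen _ h1 (stable (q := q) hf hfac)
  have huniv := hu ⟨h2, h1⟩
  have hc : IsIso p.c := by
    rw [NatTrans.isIso_iff_isIso_app]
    exact fun U => hi U.unop
  have hqm : Topology.IsQuotientMap p.base :=
    hcl.isQuotientMap p.continuous hsurj.surj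
  obtain ⟨t, ht⟩ := (Groth.Agent.S3567.result p hqm Y).2 f (fun x x' hxx' => by
    have : p x' ∈ Col p f := by rw [huniv]; trivial
    exact this x x' hxx' rfl)
  refine ⟨t, ?_, ht.symm⟩
  refine (Groth.Agent.S3567.result p hqm S).1 _ _ ?_
  rw [← Category.assoc, ht, hf, Category.comp_id]

theorem main [IsLocallyNoetherian S] [IsLocallyNoetherian X] (hf : f ≫ q = p) [Flat p]
    [IsSeparated q] [ConnectedSpace S]
    (h0 : ∀ s : S, Function.Bijective (pullback.snd p (S.fromSpecResidueField s)).appTop)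
    (hp : IsProper p ∨ (IsClosedMap p.base ∧ ∃ e : S ⟶ X, e ≫ p = 𝟙 S))
    (s : S) (hs : ∀ x x' : X, p.base x = s → p.base x' = s → f.base x = f.base x') :
    ∃ t : S ⟶ Y, t ≫ q = 𝟙 S ∧ f = p ≫ t := by
  rcases hp with hp | ⟨hp, e, hep⟩
  · exact main_proper hf h0 (fun h => IsClopen.eq_univ h ⟨s, hs⟩)
  · have hfac' : ∀ s ∈ Col p f, ∃ U : S.Opens, s ∈ U ∧ Fac p f U (U.ι ≫ e ≫ f) :=
      fun s hs => exists_fac_of_section hf hep (fun s => (h0 s).2) hp s hs
    have hfac : ∀ s ∈ Col p f, ∃ (U : S.Opens) (g : (U : Scheme.{u}) ⟶ Y),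
        s ∈ U ∧ Fac p f U g := fun s hs => by
      obtain ⟨U, hU, hU'⟩ := hfac' s hs
      exact ⟨U, _, hU, hU'⟩
    have h1 := isOpen_of_fac hfac
    have h2 := isClosed_of_isOpen _ h1 (stable (q := q) hf hfac)
    have huniv : Col p f = Set.univ := IsClopen.eq_univ ⟨h2, h1⟩ ⟨s, hs⟩
    refine ⟨e ≫ f, by rw [Category.assoc, hf, hep], ?_⟩
    apply Scheme.hom_ext_of_forall
    intro x
    obtain ⟨U, hU, hU'⟩ := hfac' (p x) (by rw [huniv]; trivial)
    refine ⟨p ⁻¹ᵁ U, hU, ?_⟩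
    rw [hU' _ (p ⁻¹ᵁ U).ι (p ∣_ U) (morphismRestrict_ι p U).symm, morphismRestrict_ι_assoc]

end K686.RigTop
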